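import Cfsg.Agent.BSW.Pairs
import Cfsg.Agent.OddOrderChar.CyclicDual
import Cfsg.Agent.Characters.Linear

/-!
# The functions induced from `1 - λ` in the Brauer–Suzuki–Wall theorem
-/

set_option autoImplicit false
set_option linter.style.haveILetI false
set_option linter.unusedSectionVars false

namespace CfsgLib.BSW

open CfsgLib.Characters
open CfsgLib.OddOrderChar (conj_hom_eq classInner_hom)
open scoped ComplexConjugate

universe u

variable {G : Type u} [Group G] [Fintype G]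

namespace Hyp

variable (h : Hyp G)

instance finite_hom : Finite (h.K →* ℂˣ) := Finite.of_equiv _ linearCharEquiv.symm

noncomputable instance fintype_hom : Fintype (h.K →* ℂˣ) := Fintype.ofFinite _

noncomputable instance fintype_K : Fintype h.K := Fintype.ofFinite _

theorem card_hom : Nat.card (h.K →* ℂˣ) = h.k := by
  letI : CommGroup h.K :=
    { (inferInstance : Group h.K) with mul_comm := fun a b => Subtype.ext (h.comm _ a.2 _ b.2) }
  haveI : NeZero (Monoid.exponent h.K : ℂ) :=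
    ⟨Nat.cast_ne_zero.2 Monoid.exponent_ne_zero_of_finite⟩
  exact CommGroup.card_monoidHom_of_hasEnoughRootsOfUnity _ _

theorem exists_hom_ne_one {x : h.K} (hx : x ≠ 1) : ∃ l : h.K →* ℂˣ, l x ≠ 1 := by
  letI : CommGroup h.K :=
    { (inferInstance : Group h.K) with mul_comm := fun a b => Subtype.ext (h.comm _ a.2 _ b.2) }
  haveI : NeZero (Monoid.exponent h.K : ℂ) :=
    ⟨Nat.cast_ne_zero.2 Monoid.exponent_ne_zero_of_finite⟩
  exact CommGroup.exists_apply_ne_one_of_hasEnoughRootsOfUnity _ _ hx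

theorem sum_hom_apply (x : h.K) [Decidable (x = 1)] :
    ∑ l : h.K →* ℂˣ, (l x : ℂ) = if x = 1 then (h.k : ℂ) else 0 := by
  split_ifs with hx
  · subst hx
    simp only [map_one, Units.val_one, Finset.sum_const, Finset.card_univ, nsmul_eq_mul, mul_one]
    rw [← Nat.card_eq_fintype_card, h.card_hom]
  · obtain ⟨l₀, hl₀⟩ := h.exists_hom_ne_one hx
    have h1 : (l₀ x : ℂ) * ∑ l : h.K →* ℂˣ, (l x : ℂ) = ∑ l : h.K →* ℂˣ, (l x : ℂ) := by
      rw [Finset.mul_sum]
      exact Fintype.sum_equiv (Equiv.mulLeft l₀) _ _ fun l => by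
        rw [Equiv.coe_mulLeft, MonoidHom.mul_apply, Units.val_mul]
    by_contra h0
    exact hl₀ (Units.ext ((mul_eq_right₀ h0).mp h1))

theorem exists_mult (χ : Cfsg.IrrCharacter G) (l : h.K →* ℂˣ) :
    ∃ m : ℕ, Cfsg.classInner (fun x : h.K => (χ : G → ℂ) x) (fun x => (l x : ℂ)) = m :=
  classInner_character_irr (isCharacter_restrict h.K (isCharacter_of_isIrr χ.2)) (isIrr_linChar l)

/-- The multiplicity of a linear character of `K` in the restriction. -/
noncomputable def mult (χ : Cfsg.IrrCharacter G) (l : h.K →* ℂˣ) : ℕ := (h.exists_mult χ l).choose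

theorem mult_spec (χ : Cfsg.IrrCharacter G) (l : h.K →* ℂˣ) :
    Cfsg.classInner (fun x : h.K => (χ : G → ℂ) x) (fun x => (l x : ℂ)) = h.mult χ l :=
  (h.exists_mult χ l).choose_spec

/-- The coefficient of `χ` in the function induced from `1 - l`. -/
noncomputable def coef (χ : Cfsg.IrrCharacter G) (l : h.K →* ℂˣ) : ℤ :=
  (h.mult χ 1 : ℤ) - h.mult χ l

/-- The function induced from `1 - l`. -/
noncomputable def alpha (l : h.K →* ℂˣ) : G → ℂ := Cfsg.indFun h.K fun x => 1 - (l x : ℂ)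

theorem coef_one (χ : Cfsg.IrrCharacter G) : h.coef χ 1 = 0 := sub_self _

theorem classInner_alpha (χ : Cfsg.IrrCharacter G) (l : h.K →* ℂˣ) :
    Cfsg.classInner (h.alpha l) (χ : G → ℂ) = h.coef χ l := by
  rw [alpha, classInner_indFun h.K _ (isClassFunction_of_isIrr χ.2), classInner_conj_symm]
  have h1 : (fun x : h.K => 1 - (l x : ℂ)) =
      (fun x => ((1 : h.K →* ℂˣ) x : ℂ)) - fun x => (l x : ℂ) := by
    funext x; simp
  rw [h1, classInner_sub_right, h.mult_spec, h.mult_spec, map_sub, Complex.conj_natCast,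
    Complex.conj_natCast, coef]
  push_cast
  ring

theorem alpha_eq_sum (l : h.K →* ℂˣ) (x : G) :
    h.alpha l x = ∑ χ : Cfsg.IrrCharacter G, (h.coef χ l : ℂ) * (χ : G → ℂ) x := by
  have h1 := congrFun (classFunction_expansion
    (θ := h.alpha l) (isClassFunction_indFun h.K fun x => 1 - (l x : ℂ))) x
  rw [Finset.sum_apply] at h1
  exact h1.trans (Finset.sum_congr rfl fun χ _ => by
    rw [Pi.smul_apply, smul_eq_mul, h.classInner_alpha])

theorem sum_coef_degree (l : h.K →* ℂˣ) :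
    ∑ χ : Cfsg.IrrCharacter G, (h.coef χ l : ℂ) * (χ : G → ℂ) 1 = 0 := by
  rw [← h.alpha_eq_sum, alpha, indFun_one]
  simp

theorem sum_coef_apply_eq_zero (l : h.K →* ℂˣ) {x : G} (hx1 : x ≠ 1) (hx : ¬ h.InK x) :
    ∑ χ : Cfsg.IrrCharacter G, (h.coef χ l : ℂ) * (χ : G → ℂ) x = 0 := by
  rw [← h.alpha_eq_sum]
  exact h.indFun_eq_zero _ hx1 hx

/-- The trivial character. -/
noncomputable def triv (_h : Hyp G) : Cfsg.IrrCharacter G := ⟨fun _ => 1, isIrr_one⟩

theorem coef_triv {l : h.K →* ℂˣ} (hl : l ≠ 1) : h.coef h.triv l = 1 := by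
  classical
  have e : ∀ l : h.K →* ℂˣ, (h.mult h.triv l : ℂ) = if (1 : h.K →* ℂˣ) = l then 1 else 0 := fun l => by
    rw [← h.mult_spec, ← classInner_hom (1 : h.K →* ℂˣ) l]
    simp [triv]
  have e1 := e 1
  have e2 := e l
  rw [if_pos rfl] at e1
  rw [if_neg (Ne.symm hl)] at e2
  have h1 : h.mult h.triv 1 = 1 := by exact_mod_cast e1
  have h2 : h.mult h.triv l = 0 := by exact_mod_cast e2
  simp [coef, h1, h2]

open Classical in
theorem sum_coef_mul {l m : h.K →* ℂˣ} (hl : l ≠ 1) (hm : m ≠ 1) :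
    ∑ χ : Cfsg.IrrCharacter G, h.coef χ l * h.coef χ m =
      2 + (if l = m then 1 else 0) + (if l⁻¹ = m then 1 else 0) := by
  classical
  apply Int.cast_injective (α := ℂ)
  push_cast
  have h1 : Cfsg.classInner (h.alpha l) (h.alpha m) =
      ∑ χ : Cfsg.IrrCharacter G, (h.coef χ l : ℂ) * (h.coef χ m : ℂ) := by
    rw [classInner_eq_sum (θ := h.alpha l) (isClassFunction_indFun h.K fun x => 1 - (l x : ℂ))]
    refine Finset.sum_congr rfl fun χ _ => ?_
    rw [h.classInner_alpha, h.classInner_alpha, map_intCast]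
  rw [← h1, alpha, alpha, classInner_indFun h.K _ (isClassFunction_indFun h.K _)]
  -- on `K#` the induced function is `f x + f x⁻¹`; at `1` the inducing function vanishes
  have h2 : Cfsg.classInner (fun x => 1 - (l x : ℂ))
        (fun x : h.K => Cfsg.indFun h.K (fun y => 1 - (m y : ℂ)) x) =
      Cfsg.classInner (fun x => 1 - (l x : ℂ))
        (fun x => (1 - (m x : ℂ)) + (1 - ((m⁻¹ : h.K →* ℂˣ) x : ℂ))) := by
    simp only [Cfsg.classInner]
    congr 1
    refine Finset.sum_congr rfl fun x _ => ?_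
    by_cases hx : (x : G) = 1
    · obtain rfl : x = 1 := Subtype.ext hx
      simp
    · rw [h.indFun_apply _ x hx]
      simp
  rw [h2]
  have e : ∀ a : h.K →* ℂˣ, (fun x => 1 - (a x : ℂ)) =
      (fun x => ((1 : h.K →* ℂˣ) x : ℂ)) - fun x => (a x : ℂ) := fun a => by funext x; simp
  rw [show (fun x => (1 - (m x : ℂ)) + (1 - ((m⁻¹ : h.K →* ℂˣ) x : ℂ))) =
    (fun x => 1 - (m x : ℂ)) + fun x => 1 - ((m⁻¹ : h.K →* ℂˣ) x : ℂ) from rfl, e, e, e,
    classInner_add_right, classInner_sub_left, classInner_sub_left, classInner_sub_right,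
    classInner_sub_right, classInner_sub_right, classInner_sub_right]
  have h4 : ¬ (1 : h.K →* ℂˣ) = m⁻¹ := fun h0 => hm ((inv_eq_one (a := m)).1 h0.symm)
  simp only [classInner_hom, if_true, hl, Ne.symm hm, h4, if_false]
  have h5 : (if l⁻¹ = m then (1 : ℂ) else 0) = if l = m⁻¹ then 1 else 0 := by
    refine if_congr ⟨fun h0 => ?_, fun h0 => ?_⟩ rfl rfl
    · rw [← h0]; ext; simp
    · rw [h0]; ext; simp
  rw [h5]
  ring

/-- Values on `K#` through the coefficients. -/
theorem apply_eq_neg_sum (χ : Cfsg.IrrCharacter G) (x : h.K) (hx : (x : G) ≠ 1) :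
    (χ : G → ℂ) x = -∑ l : h.K →* ℂˣ, (h.coef χ l : ℂ) * (l x : ℂ) := by
  classical
  have h1 : ∑ l : h.K →* ℂˣ, (h.mult χ l : ℂ) * (l x : ℂ) = (χ : G → ℂ) x := by
    simp only [← h.mult_spec, Cfsg.classInner, mul_assoc, Finset.sum_mul, Finset.mul_sum]
    rw [Finset.sum_comm, Finset.sum_eq_single x]
    · rw [Finset.sum_congr rfl (g := fun _ => (h.k : ℂ)⁻¹ * (χ : G → ℂ) x) fun l _ => ?_,
        Finset.sum_const, Finset.card_univ, nsmul_eq_mul, ← Nat.card_eq_fintype_card, h.card_hom,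
        ← mul_assoc, mul_inv_cancel₀ (subgroup_card_ne_zero h.K), one_mul]
      rw [conj_hom_eq, ← Units.val_mul, MonoidHom.inv_apply, inv_mul_cancel, Units.val_one, mul_one]
    · intro y _ hy
      rw [← Finset.mul_sum, ← Finset.mul_sum, Finset.sum_congr rfl
        (g := fun l : h.K →* ℂˣ => (l (y⁻¹ * x) : ℂ)) fun l _ => ?_, h.sum_hom_apply,
        if_neg fun h0 => hy (inv_mul_eq_one.1 h0), mul_zero, mul_zero]
      rw [conj_hom_eq, map_mul, map_inv, MonoidHom.inv_apply, Units.val_mul]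
    · simp
  have h2 : ∑ l : h.K →* ℂˣ, (l x : ℂ) = 0 := by
    rw [h.sum_hom_apply, if_neg fun h0 => hx (by rw [h0]; rfl)]
  have h3 : ∀ l, (h.coef χ l : ℂ) * (l x : ℂ) =
      (h.mult χ 1 : ℂ) * (l x : ℂ) - (h.mult χ l : ℂ) * (l x : ℂ) := fun l => by
    simp [coef, sub_mul]
  rw [Finset.sum_congr rfl fun l _ => h3 l, Finset.sum_sub_distrib, ← Finset.mul_sum, h1, h2]
  ring

/-- The degree is congruent to minus the sum of the coefficients modulo `k`. -/
theorem degree_eq (χ : Cfsg.IrrCharacter G) {n : ℕ} (hn : (χ : G → ℂ) 1 = n) :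
    (n : ℤ) = h.k * h.mult χ 1 - ∑ l : h.K →* ℂˣ, h.coef χ l := by
  classical
  have h1 : (n : ℂ) = ∑ l : h.K →* ℂˣ, (h.mult χ l : ℂ) := by
    rw [← hn]
    simp only [← h.mult_spec, Cfsg.classInner]
    rw [← Finset.mul_sum, Finset.sum_comm, Finset.sum_eq_single (1 : h.K)]
    · simp [← Nat.card_eq_fintype_card, h.card_hom, ← mul_assoc]
    · intro y _ hy
      rw [← Finset.mul_sum, Finset.sum_congr rfl (g := fun l : h.K →* ℂˣ => (l y⁻¹ : ℂ))
        fun l _ => ?_, h.sum_hom_apply, if_neg fun h0 => hy (inv_eq_one.1 h0), mul_zero]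
      rw [conj_hom_eq, map_inv, MonoidHom.inv_apply]
    · simp
  have h2 : (n : ℤ) = ∑ l : h.K →* ℂˣ, (h.mult χ l : ℤ) := by
    apply Int.cast_injective (α := ℂ)
    push_cast
    exact h1
  simp only [coef, Finset.sum_sub_distrib, Finset.sum_const, Finset.card_univ, nsmul_eq_mul,
    ← Nat.card_eq_fintype_card, h.card_hom]
  rw [← h2]
  ring

/-- The equation from counting pairs of involutions. -/
theorem sum_coef_sq {l : h.K →* ℂˣ} (hl : l ≠ 1) :
    (h.I : ℂ) * ∑ χ : Cfsg.IrrCharacter G,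
        (h.coef χ l : ℂ) * ((χ : G → ℂ) h.t * (χ : G → ℂ) h.t / (χ : G → ℂ) 1) =
      2 * (h.k : ℂ) ^ 2 := by
  classical
  have hI : (h.I : ℂ) ≠ 0 := Nat.cast_ne_zero.2 h.I_pos.ne'
  have hk : (h.k : ℂ) ≠ 0 := Nat.cast_ne_zero.2 h.k_pos.ne'
  have h0 : ∑ x : h.K, (l x : ℂ) = 0 := by
    have := classInner_hom l (1 : h.K →* ℂˣ)
    rw [if_neg hl, Cfsg.classInner, mul_eq_zero] at this
    simpa using this.resolve_left (inv_ne_zero (subgroup_card_ne_zero h.K))
  -- left side of the weighted sum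
  have h1 : ∑ x : h.K, (1 - (l x : ℂ)) * (pairCount (x : G) : ℂ) = (h.k : ℂ) ^ 2 := by
    rw [Finset.sum_congr rfl (g := fun x => (1 - (l x : ℂ)) * h.k) fun x _ => ?_, ← Finset.sum_mul,
      Finset.sum_sub_distrib, h0]
    · simp [← Nat.card_eq_fintype_card, sq]
    · by_cases hx : (x : G) = 1
      · obtain rfl : x = 1 := Subtype.ext hx
        simp
      · rw [h.pairCount_of_inK ⟨hx, 1, by simp⟩]
  have h2 : (Nat.card G : ℂ) * (h.k : ℂ) ^ 2 = (h.I : ℂ) * (h.I : ℂ) *
      ((h.k : ℂ) * ∑ χ : Cfsg.IrrCharacter G,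
        (h.coef χ l : ℂ) * ((χ : G → ℂ) h.t * (χ : G → ℂ) h.t / (χ : G → ℂ) 1)) := by
    rw [← h1, Finset.mul_sum, Finset.sum_congr rfl fun x _ => by
      rw [mul_left_comm, h.pairCount_eq_sum], Finset.mul_sum, Finset.mul_sum]
    simp only [Finset.mul_sum]
    rw [Finset.sum_comm]
    refine Finset.sum_congr rfl fun χ _ => ?_
    have h3 : (h.coef χ l : ℂ) * h.k = ∑ x : h.K, (1 - (l x : ℂ)) * conj ((χ : G → ℂ) x) := by
      rw [← h.classInner_alpha, alpha, classInner_indFun h.K _ (isClassFunction_of_isIrr χ.2),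
        Cfsg.classInner, mul_comm, ← mul_assoc, mul_inv_cancel₀ hk, one_mul]
    calc _ = (h.I : ℂ) * h.I * ((χ : G → ℂ) h.t * (χ : G → ℂ) h.t / (χ : G → ℂ) 1) *
          ∑ x : h.K, (1 - (l x : ℂ)) * conj ((χ : G → ℂ) x) := by
          rw [Finset.mul_sum]; exact Finset.sum_congr rfl fun x _ => by ring
      _ = _ := by rw [← h3]; ring
  rw [h.card_G] at h2
  push_cast at h2
  refine mul_left_cancel₀ (mul_ne_zero hI hk) ?_
  linear_combination -h2

end Hyp

end CfsgLib.BSW
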