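import Cfsg.Agent.Classification.PSLTwoGeneral.Main
import Cfsg.Agent.Small.ThompsonTransfer
import Cfsg.Agent.S0254
import Cfsg.Agent.Linear.Basic

/-!
# Involution centraliser dihedral of order eight and no subgroup of index two
-/

set_option autoImplicit false
set_option linter.style.haveILetI false

namespace CfsgLib.BSW

/-- The only involution commuting with a dihedral group of order eight inside it is the central
one. -/
theorem eq_center_of_dihedral {G : Type*} [Group G] [Finite G] {α k s z : G}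
    (hkC : k ∈ Subgroup.centralizer ({α} : Set G)) (hsC : s ∈ Subgroup.centralizer ({α} : Set G))
    (hk2 : k * k = α) (hk4 : orderOf k = 4) (hsk : s * k * s⁻¹ = k⁻¹)
    (hcard : Nat.card (Subgroup.centralizer ({α} : Set G)) = 8)
    (hz : z ∈ Subgroup.centralizer ({α} : Set G)) (hz2 : orderOf z = 2)
    (hcen : ∀ c ∈ Subgroup.centralizer ({α} : Set G), c * z = z * c) : z = α := by
  have hsnk : s * k ≠ k * s := fun h4 => by
    rw [h4, mul_inv_cancel_right] at hsk
    have h5 : orderOf k ∣ 2 := orderOf_dvd_of_pow_eq_one (by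
      rw [pow_two]; exact mul_eq_one_iff_eq_inv.2 hsk)
    rw [hk4] at h5
    omega
  set K := Subgroup.zpowers k with hK
  have hKC : K ≤ Subgroup.centralizer ({α} : Set G) := Subgroup.zpowers_le.2 hkC
  have hidx : (K.subgroupOf (Subgroup.centralizer ({α} : Set G))).index = 2 := by
    have h1 := Subgroup.index_mul_card (K.subgroupOf (Subgroup.centralizer ({α} : Set G)))
    rw [Nat.card_congr (Subgroup.subgroupOfEquivOfLe hKC).toEquiv, Nat.card_zpowers, hk4, hcard] at h1
    omega
  by_cases hzK : z ∈ K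
  · obtain ⟨n, rfl⟩ := Subgroup.mem_zpowers_iff.1 hzK
    rw [← zpow_mod_orderOf, hk4] at hz2 ⊢
    rcases (show n % 4 = 0 ∨ n % 4 = 1 ∨ n % 4 = 2 ∨ n % 4 = 3 by omega) with h | h | h | h <;>
      rw [show ((4 : ℕ) : ℤ) = 4 from rfl, h] at hz2 ⊢
    · simp at hz2
    · rw [zpow_one, hk4] at hz2; omega
    · rw [show (2 : ℤ) = ((2 : ℕ) : ℤ) from rfl, zpow_natCast, pow_two, hk2]
    · rw [show k ^ (3 : ℤ) = k⁻¹ from eq_inv_of_mul_eq_one_left (by
        rw [← zpow_add_one, show (3 : ℤ) + 1 = ((4 : ℕ) : ℤ) from rfl, zpow_natCast, ← hk4,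
          pow_orderOf_eq_one]), orderOf_inv, hk4] at hz2
      omega
  · exfalso
    have hsK : (⟨s, hsC⟩ : Subgroup.centralizer ({α} : Set G)) ∉ K.subgroupOf _ := fun hmem => by
      obtain ⟨n, hn⟩ := Subgroup.mem_zpowers_iff.1 (Subgroup.mem_subgroupOf.1 hmem)
      exact hsnk (by rw [show s = k ^ n from hn.symm]; exact ((Commute.refl k).zpow_left n).eq)
    have hprod : s * z ∈ K := by
      have := (Subgroup.mul_mem_iff_of_index_two hidx).2
        (show (⟨s, hsC⟩ : Subgroup.centralizer ({α} : Set G)) ∈ K.subgroupOf _ ↔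
          (⟨z, hz⟩ : Subgroup.centralizer ({α} : Set G)) ∈ K.subgroupOf _ from
          ⟨fun h => absurd h hsK, fun h => absurd (Subgroup.mem_subgroupOf.1 h) hzK⟩)
      exact Subgroup.mem_subgroupOf.1 this
    obtain ⟨n, hn⟩ := Subgroup.mem_zpowers_iff.1 hprod
    refine hsnk ?_
    have h1 : s = k ^ n * z⁻¹ := by rw [hn, mul_inv_cancel_right]
    have h2 : Commute z k := (hcen k hkC).symm
    rw [h1]
    exact (((Commute.refl k).zpow_left n).mul_left h2.inv_left).eq

/-- A group without subgroups of index two, with an involution whose centraliser is dihedral of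
order eight, has order `360` or `168`, all its involutions are conjugate, and it is `A₆` or
`PSL₂(7)`. -/
theorem dihedral_eight {G : Type*} [Group G] [Finite G] (hG : ∀ H : Subgroup G, H.index ≠ 2)
    {α k s : G} (hα : orderOf α = 2) (hcard : Nat.card (Subgroup.centralizer ({α} : Set G)) = 8)
    (hkC : k ∈ Subgroup.centralizer ({α} : Set G)) (hsC : s ∈ Subgroup.centralizer ({α} : Set G))
    (hk2 : k * k = α) (hk4 : orderOf k = 4) (hs : orderOf s = 2) (hsk : s * k * s⁻¹ = k⁻¹) :
    (Nat.card G = 360 ∨ Nat.card G = 168) ∧ (∀ x y : G, orderOf x = 2 → orderOf y = 2 → IsConj x y) ∧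
      (Nonempty (G ≃* ↥(alternatingGroup (Fin 6))) ∨
        ∃ (F : Type) (_ : Field F) (_ : Fintype F), Fintype.card F = 7 ∧
          Nonempty (G ≃* Matrix.ProjectiveSpecialLinearGroup (Fin 2) F)) := by
  classical
  haveI : Fintype G := Fintype.ofFinite G
  haveI : Fact (Nat.Prime 2) := ⟨Nat.prime_two⟩
  obtain ⟨hαα, hα1⟩ := orderOf_two_iff.1 hα
  obtain ⟨S, hS⟩ : ∃ S : Sylow 2 G, (S : Subgroup G) = Subgroup.centralizer ({α} : Set G) := by
    obtain ⟨T, hT⟩ := (IsPGroup.of_card (p := 2) (n := 3)
      (show Nat.card (Subgroup.centralizer ({α} : Set G)) = 2 ^ 3 by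
        rw [hcard]; norm_num)).exists_le_sylow
    refine ⟨T, le_antisymm ?_ hT⟩
    -- a self-centralising step: the normaliser of a proper subgroup grows
    by_contra hne
    haveI : Group.IsNilpotent (T : Subgroup G) := T.2.isNilpotent
    have hlt : (Subgroup.centralizer ({α} : Set G)).subgroupOf (T : Subgroup G) < ⊤ := by
      rw [lt_top_iff_ne_top, ne_eq, Subgroup.subgroupOf_eq_top]
      exact hne
    obtain ⟨n, hn, hnC⟩ := SetLike.exists_of_lt
      (Group.normalizerCondition_of_isNilpotent _ hlt)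
    refine hnC (Subgroup.mem_subgroupOf.2 (Subgroup.mem_centralizer_singleton_iff.2 ?_))
    -- `α` is the only central involution of its centraliser
    have hαC : (⟨α, hT (Subgroup.mem_centralizer_singleton_iff.2 rfl)⟩ : (T : Subgroup G)) ∈
        (Subgroup.centralizer ({α} : Set G)).subgroupOf (T : Subgroup G) :=
      Subgroup.mem_subgroupOf.2 (Subgroup.mem_centralizer_singleton_iff.2 rfl)
    have h1 := (Subgroup.mem_normalizer_iff.1 hn _).1 hαC
    rw [Subgroup.mem_subgroupOf] at h1
    simp only [Subgroup.coe_mul, InvMemClass.coe_inv] at h1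
    have hcen : ∀ c ∈ Subgroup.centralizer ({α} : Set G),
        c * ((n : G) * α * (n : G)⁻¹) = (n : G) * α * (n : G)⁻¹ * c := by
      intro c hc
      have h2 := (Subgroup.mem_normalizer_iff''.1 hn ⟨c, hT hc⟩).1 (Subgroup.mem_subgroupOf.2 hc)
      rw [Subgroup.mem_subgroupOf] at h2
      simp only [Subgroup.coe_mul, InvMemClass.coe_inv] at h2
      have h3 := Subgroup.mem_centralizer_singleton_iff.1 h2
      calc c * ((n : G) * α * (n : G)⁻¹) = (n : G) * ((n : G)⁻¹ * c * n * α) * (n : G)⁻¹ := by group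
        _ = (n : G) * (α * ((n : G)⁻¹ * c * n)) * (n : G)⁻¹ := by rw [h3]
        _ = _ := by group
    have h4 := eq_center_of_dihedral hkC hsC hk2 hk4 hsk hcard h1 (by
      rw [show (n : G) * α * (n : G)⁻¹ = MulAut.conj (n : G) α from rfl, MulEquiv.orderOf_eq, hα])
      hcen
    exact mul_inv_eq_iff_eq_mul.1 h4
  have hzk : ∀ x ∈ Subgroup.zpowers k, x = 1 ∨ x = k ∨ x = α ∨ x = k⁻¹ := by
    intro x hx
    obtain ⟨n, rfl⟩ := Subgroup.mem_zpowers_iff.1 hx
    rw [← zpow_mod_orderOf, hk4]
    rcases (show n % 4 = 0 ∨ n % 4 = 1 ∨ n % 4 = 2 ∨ n % 4 = 3 by omega) with h | h | h | h <;>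
      rw [show ((4 : ℕ) : ℤ) = 4 from rfl, h]
    · simp
    · simp
    · exact Or.inr (Or.inr (Or.inl (by rw [show (2 : ℤ) = ((2 : ℕ) : ℤ) from rfl, zpow_natCast, pow_two, hk2])))
    · refine Or.inr (Or.inr (Or.inr (eq_inv_of_mul_eq_one_left ?_)))
      rw [← zpow_add_one, show (3 : ℤ) + 1 = ((4 : ℕ) : ℤ) from rfl, zpow_natCast, ← hk4,
        pow_orderOf_eq_one]
  have hαK : α ∈ Subgroup.zpowers k := by
    rw [← hk2]; exact mul_mem (Subgroup.mem_zpowers k) (Subgroup.mem_zpowers k)
  have hord2 : ∀ x ∈ Subgroup.zpowers k, orderOf x = 2 → x = α := by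
    intro x hx h2
    rcases hzk x hx with rfl | rfl | rfl | rfl
    · simp at h2
    · omega
    · rfl
    · rw [orderOf_inv] at h2; omega
  have hKC : Subgroup.zpowers k ≤ Subgroup.centralizer ({α} : Set G) := Subgroup.zpowers_le.2 hkC
  have hsK : s ∉ Subgroup.zpowers k := fun hmem => by
    have h1 := hord2 s hmem hs
    rw [h1, show α * k * α⁻¹ = k by
      rw [← Subgroup.mem_centralizer_singleton_iff.1 hkC]; group] at hsk
    have h2 : orderOf k ∣ 2 := orderOf_dvd_of_pow_eq_one (by
      rw [pow_two]; exact mul_eq_one_iff_eq_inv.2 hsk)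
    rw [hk4] at h2
    omega
  have hsup : Subgroup.zpowers k ⊔ Subgroup.zpowers s = Subgroup.centralizer ({α} : Set G) := by
    refine Subgroup.eq_of_le_of_card_ge (sup_le hKC (Subgroup.zpowers_le.2 hsC)) ?_
    have h1 : Nat.card (Subgroup.zpowers k) ∣
        Nat.card ↥(Subgroup.zpowers k ⊔ Subgroup.zpowers s) := Subgroup.card_dvd_of_le le_sup_left
    rw [Nat.card_zpowers, hk4] at h1
    rw [hcard]
    obtain ⟨q, hq⟩ := h1
    by_contra hlt
    have h2 : Subgroup.zpowers k = Subgroup.zpowers k ⊔ Subgroup.zpowers s :=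
      Subgroup.eq_of_le_of_card_ge le_sup_left (by
        rw [Nat.card_zpowers, hk4]
        omega)
    exact hsK (h2 ▸ Subgroup.mem_sup_right (Subgroup.mem_zpowers s))
  -- all involutions are conjugate
  have hconj : ∀ u : G, orderOf u = 2 → IsConj u α := by
    intro u hu
    obtain ⟨g, hg⟩ := CfsgLib.Small.thompson_transfer_sylow hG S (Subgroup.zpowers k)
      (hS ▸ hKC) (by
        have h1 := Subgroup.index_mul_card ((Subgroup.zpowers k).subgroupOf (S : Subgroup G))
        rw [Nat.card_congr (Subgroup.subgroupOfEquivOfLe (hS ▸ hKC)).toEquiv, Nat.card_zpowers, hk4,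
          hS, hcard] at h1
        rw [Subgroup.relIndex, hS]
        omega) hu
    exact isConj_iff.2 ⟨g⁻¹, by
      rw [inv_inv]
      exact hord2 _ hg (by
        rw [show g⁻¹ * u * g = (MulAut.conj g⁻¹) u by simp, MulEquiv.orderOf_eq, hu])⟩
  let h : CfsgLib.BSW.Hyp G :=
    { t := α, s := s, K := Subgroup.zpowers k, ht := hα, hs := hs
      comm := fun x hx y hy => by
        obtain ⟨m, rfl⟩ := Subgroup.mem_zpowers_iff.1 hx
        obtain ⟨n, rfl⟩ := Subgroup.mem_zpowers_iff.1 hy
        exact ((Commute.refl k).zpow_zpow m n).eq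
      le_cent := hKC, t_mem := hαK, s_cent := hsC, s_notMem := hsK, sup_eq := hsup
      inverts := fun x hx => by
        obtain ⟨n, rfl⟩ := Subgroup.mem_zpowers_iff.1 hx
        rw [← MulAut.conj_apply, map_zpow, MulAut.conj_apply, hsk, inv_zpow]
      fixed := fun x hx hc => by
        have h4 : s * k = k * s → False := fun h4 => by
          rw [h4, mul_inv_cancel_right] at hsk
          have h5 : orderOf k ∣ 2 := orderOf_dvd_of_pow_eq_one (by
            rw [pow_two]; exact mul_eq_one_iff_eq_inv.2 hsk)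
          rw [hk4] at h5
          omega
        rcases hzk x hx with rfl | rfl | rfl | rfl
        · exact Or.inl rfl
        · exact (h4 hc).elim
        · exact Or.inr rfl
        · exact (h4 (by simpa using (Commute.inv_right (show Commute s k⁻¹ from hc)).eq)).elim
      ti := fun g hg x hx hgx => by
        by_contra hx1
        refine hg ?_
        obtain ⟨y, hy, hgy⟩ : ∃ y, y = α ∧ g * y * g⁻¹ ∈ Subgroup.zpowers k := by
          refine ⟨α, rfl, ?_⟩
          have hsq : g * (x * x) * g⁻¹ ∈ Subgroup.zpowers k := by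
            rw [show g * (x * x) * g⁻¹ = g * x * g⁻¹ * (g * x * g⁻¹) by group]
            exact mul_mem hgx hgx
          rcases hzk x hx with rfl | rfl | rfl | rfl
          · exact absurd rfl hx1
          · rwa [hk2] at hsq
          · exact hgx
          · rw [← mul_inv_rev, hk2, inv_eq_of_mul_eq_one_right hαα] at hsq
            exact hsq
        subst hy
        have := hord2 _ hgy (by rw [← MulAut.conj_apply, MulEquiv.orderOf_eq, hα])
        exact Subgroup.mem_centralizer_singleton_iff.2 (mul_inv_eq_iff_eq_mul.1 this)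
      conj := fun x y hx hy => (hconj x hx).trans (hconj y hy).symm }
  have hk : h.k = 4 := (Nat.card_zpowers k).trans hk4
  have hGcard : Nat.card G = 360 ∨ Nat.card G = 168 := by
    obtain ⟨σ, hσ, hI, -⟩ := h.exists_pairCount
    have hG' := h.card_G
    rw [hk] at hG' hI
    rcases hσ with rfl | rfl
    · left; push_cast at hI; omega
    · right; push_cast at hI; omega
  refine ⟨hGcard, fun x y hx hy => (hconj x hx).trans (hconj y hy).symm, ?_⟩
  obtain ⟨F, fF, fFin, hodd, ⟨eF⟩⟩ :=
    CfsgLib.Classification.PSLTwoGeneral.exists_equiv_of_conclusion h.conclusion (by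
      rcases hGcard with h1 | h1 <;> omega)
  have hcardF : 2 * Nat.card G = Fintype.card F * (Fintype.card F ^ 2 - 1) := by
    rw [Nat.card_congr eF.toEquiv]
    exact CfsgLib.Linear.card_PSL_two_odd hodd
  have hbound : Fintype.card F < 10 := by
    by_contra hlt
    push Not at hlt
    have h2 : 100 ≤ Fintype.card F ^ 2 := Nat.pow_le_pow_left hlt 2
    have h3 := Nat.mul_le_mul hlt (show 99 ≤ Fintype.card F ^ 2 - 1 by omega)
    omega
  rcases hGcard with h1 | h1
  · left
    have h9 : Fintype.card F = 9 := by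
      rw [h1] at hcardF
      revert hcardF
      generalize Fintype.card F = q at *
      interval_cases q <;> norm_num
    obtain ⟨e'⟩ := _root_.Cfsg.Agent.S0254.result h9
    exact ⟨eF.trans e'⟩
  · right
    refine ⟨F, fF, fFin, ?_, ⟨eF⟩⟩
    rw [h1] at hcardF
    revert hcardF
    generalize Fintype.card F = q at *
    interval_cases q <;> norm_num

end CfsgLib.BSW
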