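import Cfsg.Agent.BSW.Plus
import Mathlib.GroupTheory.SchurZassenhaus

/-!
# The case of a negative sign: `q = 2k - 1`
-/

set_option autoImplicit false
set_option linter.style.haveILetI false
set_option linter.unusedSectionVars false

namespace CfsgLib.BSW

universe u

variable {G : Type u} [Group G]

/-- A nonempty family of abelian self-normalizing TI subgroups cannot partition a nontrivial
group properly. -/
theorem eq_top_of_partition {F : Type*} [Group F] [Fintype F] (B : F → Subgroup F)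
    (hself : ∀ y, y ≠ 1 → y ∈ B y) (heq : ∀ y z, y ≠ 1 → z ≠ 1 → z ∈ B y → B z = B y)
    (hconj : ∀ g y : F, y ≠ 1 → ∀ w, w ∈ B y ↔ g * w * g⁻¹ ∈ B (g * y * g⁻¹))
    (hnorm : ∀ g y : F, y ≠ 1 → g * y * g⁻¹ ∈ B y → g ∈ B y) {y : F} (hy : y ≠ 1) :
    B y = ⊤ := by
  classical
  set S : ∀ y : F, Finset F := fun y =>
    Finset.univ.filter fun z => z ≠ 1 ∧ ∃ g : F, g⁻¹ * z * g ∈ B y
  have hcard : ∀ y, y ≠ 1 → (S y).card + (B y).index = Nat.card F := by
    intro y hy
    let e : (F ⧸ B y) × {w : B y // w ≠ 1} → {z : F // z ≠ 1 ∧ ∃ g : F, g⁻¹ * z * g ∈ B y} :=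
      fun p => ⟨p.1.out * (p.2.1 : F) * p.1.out⁻¹,
        fun h1 => p.2.2 (Subtype.ext (conj_eq_one_iff.1 h1)), p.1.out, by simp [mul_assoc]⟩
    have he : Function.Bijective e := by
      constructor
      · rintro ⟨a, p⟩ ⟨b, q⟩ hab
        have h1 : a.out * (p.1 : F) * a.out⁻¹ = b.out * (q.1 : F) * b.out⁻¹ := congrArg Subtype.val hab
        have h2 : (b.out⁻¹ * a.out) * (p.1 : F) * (b.out⁻¹ * a.out)⁻¹ = (q.1 : F) := by
          calc _ = b.out⁻¹ * (a.out * (p.1 : F) * a.out⁻¹) * b.out := by group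
            _ = b.out⁻¹ * (b.out * (q.1 : F) * b.out⁻¹) * b.out := by rw [h1]
            _ = q.1 := by group
        have hp1 : (p.1 : F) ≠ 1 := fun h => p.2 (Subtype.ext h)
        have hBp := heq y _ hy hp1 p.1.2
        have hmem : b.out⁻¹ * a.out ∈ B y :=
          (SetLike.ext_iff.1 hBp _).1 (hnorm _ _ hp1 ((SetLike.ext_iff.1 hBp _).2 (h2 ▸ q.1.2)))
        have hab' : b = a := by
          rw [← QuotientGroup.out_eq' a, ← QuotientGroup.out_eq' b, QuotientGroup.eq]
          exact hmem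
        subst hab'
        rw [inv_mul_cancel, one_mul, inv_one, mul_one] at h2
        rw [Subtype.ext (Subtype.ext h2)]
      · rintro ⟨z, hz1, g, hg⟩
        obtain ⟨c, hc⟩ : ∃ c : B y, (QuotientGroup.mk g : F ⧸ B y).out = g * c :=
          QuotientGroup.mk_out_eq_mul _ g
        refine ⟨⟨QuotientGroup.mk g, ⟨⟨(c : F)⁻¹ * (g⁻¹ * z * g) * c,
          (B y).mul_mem ((B y).mul_mem ((B y).inv_mem c.2) hg) c.2⟩, ?_⟩⟩, Subtype.ext ?_⟩
        · intro h1
          have h2 : (c : F)⁻¹ * (g⁻¹ * z * g) * c = 1 := congrArg Subtype.val h1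
          refine hz1 ?_
          calc z = g * c * ((c : F)⁻¹ * (g⁻¹ * z * g) * c) * (g * c)⁻¹ := by group
            _ = 1 := by rw [h2]; group
        · show (QuotientGroup.mk g : F ⧸ B y).out * ((c : F)⁻¹ * (g⁻¹ * z * g) * c) *
            (QuotientGroup.mk g : F ⧸ B y).out⁻¹ = z
          rw [hc]
          group
    have h1 : (S y).card = (B y).index * (Nat.card (B y) - 1) := by
      have hS : (S y).card = Nat.card {z : F // z ≠ 1 ∧ ∃ g : F, g⁻¹ * z * g ∈ B y} := by
        rw [Nat.card_eq_fintype_card]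
        exact (Fintype.card_subtype _).symm
      rw [hS, ← Nat.card_congr (Equiv.ofBijective e he), Nat.card_prod]
      congr 1
      rw [Nat.card_eq_fintype_card (α := {w : B y // w ≠ 1}), Fintype.card_subtype_compl,
        Fintype.card_subtype_eq, ← Nat.card_eq_fintype_card]
    have h2 := Subgroup.index_mul_card (B y)
    have h3 : 0 < Nat.card (B y) := Nat.card_pos
    obtain ⟨a, ha⟩ : ∃ a, Nat.card (B y) = a + 1 := ⟨Nat.card (B y) - 1, by omega⟩
    rw [h1, ha, Nat.add_sub_cancel, ← h2, ha]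
    ring
  have htwo : ∀ y, y ≠ 1 → 2 * (B y).index ≤ Nat.card F := by
    intro y hy
    rw [← Subgroup.index_mul_card (B y), mul_comm 2]
    refine Nat.mul_le_mul_left _ ?_
    haveI : Nontrivial (B y) := ⟨⟨⟨y, hself y hy⟩, 1, fun h1 => hy (congrArg Subtype.val h1)⟩⟩
    exact Finite.one_lt_card
  by_contra hne
  have hidx : 1 < (B y).index := by
    have h0 : (B y).index ≠ 0 := Subgroup.index_ne_zero_of_finite
    have h1 : (B y).index ≠ 1 := fun h => hne (Subgroup.index_eq_one.1 h)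
    omega
  have huniv : Nat.card F = ((Finset.univ : Finset F).erase 1).card + 1 := by
    rw [Finset.card_erase_add_one (Finset.mem_univ _), Finset.card_univ, Nat.card_eq_fintype_card]
  have hsub : ∀ y, S y ⊆ (Finset.univ : Finset F).erase 1 := fun y z hz =>
    Finset.mem_erase.2 ⟨(Finset.mem_filter.1 hz).2.1, Finset.mem_univ _⟩
  obtain ⟨z, hz, hzS⟩ : ∃ z ∈ (Finset.univ : Finset F).erase 1, z ∉ S y := by
    by_contra hall
    push Not at hall
    have := hcard y hy
    rw [show S y = (Finset.univ : Finset F).erase 1 from Finset.Subset.antisymm (hsub y) hall] at this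
    omega
  have hz1 := (Finset.mem_erase.1 hz).1
  have hdis : Disjoint (S y) (S z) := by
    rw [Finset.disjoint_left]
    intro w hwy hwz
    obtain ⟨-, hw1, g, hg⟩ := Finset.mem_filter.1 hwy
    obtain ⟨-, -, c, hc⟩ := Finset.mem_filter.1 hwz
    refine hzS (Finset.mem_filter.2 ⟨Finset.mem_univ _, hz1, g, ?_⟩)
    have hg1 : g⁻¹ * w * g ≠ 1 := fun h0 => hw1 (by
      calc w = g * (g⁻¹ * w * g) * g⁻¹ := by group
        _ = 1 := by rw [h0]; group)
    have hc1 : c⁻¹ * w * c ≠ 1 := fun h0 => hw1 (by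
      calc w = c * (c⁻¹ * w * c) * c⁻¹ := by group
        _ = 1 := by rw [h0]; group)
    have e1 := heq y _ hy hg1 hg
    have e2 := heq z _ hz1 hc1 hc
    -- transport `z ∈ B z` through `c` and then `g⁻¹`
    have h3 := (hconj (g⁻¹ * c) _ hc1 z).1 (e2.symm ▸ hself z hz1)
    rw [show g⁻¹ * c * (c⁻¹ * w * c) * (g⁻¹ * c)⁻¹ = g⁻¹ * w * g by group, e1] at h3
    have hzc : z ∈ B (c⁻¹ * w * c) := e2.symm ▸ hself z hz1
    -- `c` lies in a member through `z`, so `g⁻¹ z g` lies in `B y` up to conjugation inside it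
    have h4 : ∀ v, v ∈ B z ↔ g⁻¹ * c * v * (g⁻¹ * c)⁻¹ ∈ B y := fun v => by
      rw [← e2, hconj (g⁻¹ * c) _ hc1 v,
        show g⁻¹ * c * (c⁻¹ * w * c) * (g⁻¹ * c)⁻¹ = g⁻¹ * w * g by group, e1]
    exact absurd hzS (not_not_intro (Finset.mem_filter.2 ⟨Finset.mem_univ _, hz1, c⁻¹ * g, by
      have := (h4 z).1 (hself z hz1)
      simpa [mul_assoc] using this⟩))
  have hle := Finset.card_le_card (Finset.union_subset (hsub y) (hsub z))
  rw [Finset.card_union_of_disjoint hdis] at hle
  have := hcard y hy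
  have := hcard z hz1
  have := htwo y hy
  have := htwo z hz1
  omega

namespace Hyp

variable [Fintype G] (h : Hyp G)

/-- Outside and not strongly real. -/
def NonReal (x : G) : Prop := h.Outside x ∧ ¬ h.StronglyReal x

theorem NonReal.conj {x : G} (hx : h.NonReal x) (g : G) : h.NonReal (g * x * g⁻¹) :=
  ⟨Outside.conj h hx.1 g, fun h1 => hx.2 (by
    have := StronglyReal.conj h h1 g⁻¹
    rwa [show g⁻¹ * (g * x * g⁻¹) * g⁻¹⁻¹ = x by group] at this)⟩

theorem NonReal.of_commute {x y : G} (hx : h.NonReal x) (hy1 : y ≠ 1) (hc : y * x = x * y) :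
    h.NonReal y :=
  ⟨h.outside_of_commute hx.1 hy1 hc, fun hys =>
    hx.2 (h.cent_eq hys (Subgroup.mem_centralizer_singleton_iff.2 hc.symm) hx.1.1).1⟩

/-- The data of the negative case. -/
structure MinusData (h : Hyp G) : Prop where
  hI : h.I = (2 * h.k - 1) * (h.k - 1)
  card_real : ∀ x, h.StronglyReal x → Nat.card (Subgroup.centralizer ({x} : Set G)) = h.k - 1
  comp_two : ∀ x, h.StronglyReal x → ∀ u, orderOf u = 2 → u * x * u = x⁻¹ →
    Nat.card (comp x u) = 2
  exists_real : 2 < h.k → ∃ x, h.StronglyReal x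
  card_nonReal : Nat.card {x : G // h.NonReal x} + 1 = (2 * h.k - 1) ^ 2

theorem minusData (hI : h.I = (2 * h.k - 1) * (h.k - 1))
    (hall : ∀ x, h.StronglyReal x → (h.k - 1) ∣ Nat.card (Subgroup.centralizer ({x} : Set G))) :
    h.MinusData := by
  classical
  have hk2 := h.two_le_k
  obtain ⟨k', hk'⟩ : ∃ k', h.k = k' + 2 := ⟨h.k - 2, by omega⟩
  have hI' : h.I = (2 * k' + 3) * (k' + 1) := by
    rw [hI, hk', show 2 * (k' + 2) - 1 = 2 * k' + 3 by omega, show k' + 2 - 1 = k' + 1 by omega]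
  have hsum : ∑ m ∈ h.sizes, m * h.fibre m = h.I * (k' + 2) * k' := by
    have h1 := h.sum_fibre
    rw [hk', show k' + 2 - 1 = k' + 1 by omega] at h1
    have h2 : h.I * h.I = h.I * (k' + 2) * k' + (h.I + h.I * (k' + 1) * (k' + 2)) := by
      calc h.I * h.I = h.I * ((2 * k' + 3) * (k' + 1)) := congrArg (h.I * ·) hI'
        _ = _ := by ring
    omega
  have hmain : ∀ x, h.StronglyReal x →
      (Nat.card (Subgroup.centralizer ({x} : Set G)) = h.k - 1 ∧ 2 < h.k) ∧
      ∃ e, e = 2 ∧ Nat.card (Subgroup.normalizer (Subgroup.centralizer ({x} : Set G) : Set G)) =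
        Nat.card (Subgroup.centralizer ({x} : Set G)) * e ∧
        h.fibre (h.k - 1) = (2 * k' + 3) * (k' + 2) * k' := by
    intro x hx
    have hmem : Nat.card (Subgroup.centralizer ({x} : Set G)) ∈ h.sizes := h.mem_sizes.2 ⟨x, hx, rfl⟩
    have hk'0 : 0 < k' := by
      by_contra h0
      obtain rfl : k' = 0 := by omega
      rw [mul_zero] at hsum
      have h2 := (Finset.sum_eq_zero_iff.1 hsum) _ hmem
      rcases Nat.mul_eq_zero.1 h2 with h3 | h3
      · exact Nat.card_pos.ne' h3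
      · rw [fibre, Finset.card_eq_zero, Finset.filter_eq_empty_iff] at h3
        exact h3 (Finset.mem_filter.2 ⟨Finset.mem_univ _, hx⟩) rfl
    have hone : h.sizes = {Nat.card (Subgroup.centralizer ({x} : Set G))} := by
      refine Finset.eq_singleton_iff_unique_mem.2 ⟨hmem, fun m hm => ?_⟩
      by_contra hne
      obtain ⟨y, hy, rfl⟩ := h.mem_sizes.1 hm
      have := Nat.le_of_dvd one_pos ((h.sizes_coprime hm hmem hne) ▸ Nat.dvd_gcd (hall y hy) (hall x hx))
      omega
    rw [hone, Finset.sum_singleton] at hsum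
    obtain ⟨j, hj⟩ := hall x hx
    obtain ⟨e, he2, hek, hN, hf⟩ := h.fibre_spec hx
    set m := Nat.card (Subgroup.centralizer ({x} : Set G)) with hm
    have hm1 := h.one_lt_of_mem_sizes hmem
    have he : e * k' = 2 * (m - 1) := by
      refine Nat.eq_of_mul_eq_mul_left (show 0 < h.I * (k' + 2) by have := h.I_pos; positivity) ?_
      calc h.I * (k' + 2) * (e * k') = (m * h.fibre m) * e := by rw [hsum]; ring
        _ = h.fibre m * (m * e) := by ring
        _ = _ := by rw [hf, hk']; ring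
    rw [hk', show k' + 2 - 1 = k' + 1 by omega] at hj
    have he1 : 2 ≤ e := Nat.le_of_dvd (Nat.pos_of_dvd_of_pos hek h.k_pos) he2
    have he3 : e ≤ k' + 2 := hk' ▸ Nat.le_of_dvd h.k_pos hek
    obtain ⟨d, rfl⟩ : ∃ d, e = d + 2 := ⟨e - 2, by omega⟩
    have hd : (k' + 1) ∣ d := by
      have h1 : (d + 2) * (k' + 1) = 2 * ((k' + 1) * j) + d := by
        have : (d + 2) * k' + 2 = 2 * m := by omega
        rw [← hj]
        linarith
      exact (Nat.dvd_add_right (Dvd.dvd.mul_left (dvd_mul_right _ _) _)).1 (h1 ▸ dvd_mul_left _ _)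
    have hd0 : d = 0 := Nat.eq_zero_of_dvd_of_lt hd (by omega)
    subst hd0
    have hmk : m = h.k - 1 := by omega
    refine ⟨⟨hmk, by omega⟩, 2, rfl, hN, ?_⟩
    rw [hmk, hk', show k' + 2 - 1 = k' + 1 by omega, hI'] at hsum
    rw [hk', show k' + 2 - 1 = k' + 1 by omega]
    exact Nat.eq_of_mul_eq_mul_left (show 0 < k' + 1 by omega) (hsum.trans (by ring))
  refine ⟨hI, fun x hx => (hmain x hx).1.1, fun x hx u hu hi => ?_, fun hk => ?_, ?_⟩
  · obtain ⟨e, rfl, hN, -⟩ := (hmain x hx).2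
    obtain ⟨-, hcard, -⟩ := h.comp_spec hx hu hi
    rw [hN] at hcard
    exact (Nat.eq_of_mul_eq_mul_left Nat.card_pos hcard).symm
  · by_contra hno
    push Not at hno
    rw [Finset.sum_eq_zero fun m hm => absurd (h.mem_sizes.1 hm) (fun ⟨x, hx, _⟩ => hno x hx)] at hsum
    have : 0 < h.I * (k' + 2) * k' := by
      have := h.I_pos
      have : 0 < k' := by omega
      positivity
    omega
  · have hreal : (Finset.univ.filter h.StronglyReal).card = (2 * k' + 3) * (k' + 2) * k' := by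
      by_cases hex : ∃ x, h.StronglyReal x
      · obtain ⟨x, hx⟩ := hex
        obtain ⟨⟨hm, -⟩, e, -, -, hf⟩ := hmain x hx
        rw [← hf, fibre]
        congr 1
        ext y
        simp only [Finset.mem_filter, Finset.mem_univ, true_and]
        exact ⟨fun hy => ⟨hy, (hmain y hy).1.1⟩, fun hy => hy.1⟩
      · push Not at hex
        rw [Finset.filter_false_of_mem fun x _ => hex x, Finset.card_empty]
        rw [Finset.sum_eq_zero fun m hm => absurd (h.mem_sizes.1 hm) (fun ⟨x, hx, _⟩ => hex x hx)]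
          at hsum
        rcases Nat.mul_eq_zero.1 hsum.symm with h1 | h1
        · rcases Nat.mul_eq_zero.1 h1 with h2 | h2
          · exact absurd h2 h.I_pos.ne'
          · omega
        · rw [h1, mul_zero]
    have hsplit : (Finset.univ.filter h.NonReal).card + (Finset.univ.filter h.StronglyReal).card =
        (Finset.univ.filter h.Outside).card := by
      rw [← Finset.card_union_of_disjoint (Finset.disjoint_filter.2 fun x _ h1 h2 => h1.2 h2)]
      congr 1
      ext x
      simp only [Finset.mem_union, Finset.mem_filter, Finset.mem_univ, true_and]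
      exact ⟨fun hh => hh.elim (fun h1 => h1.1) (fun h1 => h1.1),
        fun hh => (em (h.StronglyReal x)).elim Or.inr fun h1 => Or.inl ⟨hh, h1⟩⟩
    have hout := h.card_outside
    rw [hk', show k' + 2 - 1 = k' + 1 by omega, hI'] at hout
    rw [Nat.card_eq_fintype_card, Fintype.card_subtype, hk', show 2 * (k' + 2) - 1 = 2 * k' + 3 by omega]
    have : (2 * k' + 3) ^ 2 + (2 * k' + 3) * (k' + 2) * k' + (2 * k' + 3) * (k' + 1) * (k' + 1) =
        (2 * k' + 3) * (k' + 1) * (2 * (k' + 2)) := by ring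
    show (Finset.univ.filter h.NonReal).card + 1 = _
    omega

variable {h}

theorem MinusData.cent_dvd (hd : h.MinusData) {x : G} (hx : h.NonReal x) :
    Nat.card (Subgroup.centralizer ({x} : Set G)) ∣ 2 * h.k - 1 := by
  classical
  have hk2 := h.two_le_k
  have hG : Nat.card (Subgroup.centralizer ({x} : Set G)) ∣ (2 * h.k - 1) * ((h.k - 1) * (2 * h.k)) := by
    refine (Subgroup.card_subgroup_dvd_card _).trans (dvd_of_eq ?_)
    rw [h.card_G, hd.hI]; ring
  refine (Nat.Coprime.dvd_of_dvd_mul_right ?_ hG)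
  refine Nat.coprime_of_dvd fun r hr hrc hrm => ?_
  haveI := Fact.mk hr
  obtain ⟨y, hy⟩ := exists_prime_orderOf_dvd_card' r hrc
  have hy' : orderOf (y : G) = r := by rw [Subgroup.orderOf_coe, hy]
  have hyN : h.NonReal (y : G) := NonReal.of_commute h hx
    (fun h1 => by rw [h1, orderOf_one] at hy'; exact hr.one_lt.ne hy')
    (Subgroup.mem_centralizer_singleton_iff.1 y.2)
  have hr2 : r ≠ 2 := fun h2 => hyN.1.2 (h.inK_of_orderOf_two (by rw [hy', h2]))
  rcases hr.dvd_mul.1 hrm with h1 | h1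
  · -- `r` divides the order of a strongly real centraliser
    obtain ⟨z, hz⟩ := hd.exists_real (by
      by_contra hc
      rw [show h.k - 1 = 1 by omega] at h1
      exact hr.not_dvd_one h1)
    have hrz : r ∣ Nat.card (Subgroup.centralizer ({z} : Set G)) := by rw [hd.card_real z hz]; exact h1
    obtain ⟨g, hg⟩ := exists_conj_mem_of_index _ hr (h.not_dvd_index hz hr hrz) hy'
    exact (NonReal.conj h hyN g).2 (h.cent_eq hz hg fun e => hyN.1.1 (conj_eq_one_iff.1 e)).1
  · have hrk : r ∣ h.k := (Nat.Coprime.dvd_of_dvd_mul_left ((Nat.coprime_primes hr Nat.prime_two).2 hr2) h1)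
    have hidx : h.K.index = 2 * h.I := by
      have := Subgroup.index_mul_card h.K
      rw [h.card_G] at this
      exact Nat.eq_of_mul_eq_mul_right h.k_pos (this.trans (by ring))
    have hnot : ¬ r ∣ h.K.index := by
      rw [hidx, hd.hI]
      intro h3
      rcases hr.dvd_mul.1 h3 with h4 | h4
      · exact hr2 ((Nat.prime_dvd_prime_iff_eq hr Nat.prime_two).1 h4)
      rcases hr.dvd_mul.1 h4 with h5 | h5
      · have h6 := Nat.dvd_sub (hrk.mul_left 2) h5
        rw [show 2 * h.k - (2 * h.k - 1) = 1 by omega] at h6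
        exact hr.not_dvd_one h6
      · have h6 := Nat.dvd_sub hrk h5
        rw [show h.k - (h.k - 1) = 1 by omega] at h6
        exact hr.not_dvd_one h6
    obtain ⟨g, hg⟩ := exists_conj_mem_of_index h.K hr hnot hy'
    exact hyN.1.2 ⟨hyN.1.1, g, hg⟩

theorem NonReal.not_isConj_inv {x : G} (hx : h.NonReal x) (g : G) : g * x * g⁻¹ ≠ x⁻¹ := by
  intro hg
  have hsq : g * g * x * (g * g)⁻¹ = x := by
    calc g * g * x * (g * g)⁻¹ = g * (g * x * g⁻¹) * g⁻¹ := by group
      _ = g * x⁻¹ * g⁻¹ := by rw [hg]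
      _ = (g * x * g⁻¹)⁻¹ := by group
      _ = x := by rw [hg, inv_inv]
  have hmem : g * g ∈ Subgroup.centralizer ({x} : Set G) :=
    Subgroup.mem_centralizer_singleton_iff.2 (mul_inv_eq_iff_eq_mul.1 hsq)
  obtain ⟨o, ho⟩ : Odd (orderOf (g * g)) :=
    (h.odd_card_cent hx.1).of_dvd_nat (by
      rw [← Subgroup.orderOf_mk (g * g) hmem]; exact orderOf_dvd_natCard _)
  set u := g * (g * g) ^ o with hu
  have hsq' : u * u = 1 := by
    have hc : (g * g) ^ o * g = g * (g * g) ^ o := (Commute.pow_left (mul_assoc g g g) o)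
    calc u * u = g * ((g * g) ^ o * g) * (g * g) ^ o := by rw [hu]; group
      _ = (g * g) * ((g * g) ^ o * (g * g) ^ o) := by rw [hc]; group
      _ = (g * g) ^ (orderOf (g * g)) := by rw [ho, ← pow_add, ← pow_succ', show o + o + 1 = 2 * o + 1 by ring]
      _ = 1 := pow_orderOf_eq_one _
  have hux : u * x * u⁻¹ = x⁻¹ := by
    have hpm := (Subgroup.centralizer ({x} : Set G)).pow_mem hmem o
    rw [Subgroup.mem_centralizer_singleton_iff] at hpm
    calc u * x * u⁻¹ = g * ((g * g) ^ o * x) * ((g * g) ^ o)⁻¹ * g⁻¹ := by rw [hu]; group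
      _ = g * x * g⁻¹ := by rw [hpm]; group
      _ = x⁻¹ := hg
  have hu1 : u ≠ 1 := fun h1 => by
    rw [h1, inv_one, one_mul, mul_one] at hux
    exact Outside.mul_self_ne h hx.1 (mul_eq_one_iff_eq_inv.2 hux)
  have hu2 : orderOf u = 2 := orderOf_two_iff.2 ⟨hsq', hu1⟩
  refine hx.2 (h.stronglyReal_of_inverter hx.1 hu2 ?_)
  rw [inv_eq_of_mul_eq_one_right hsq'] at hux
  exact hux

/-- The two classes of nonreal elements. -/
theorem MinusData.nonReal_classes (hd : h.MinusData) {x : G} (hx : h.NonReal x) :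
    Nat.card (Subgroup.centralizer ({x} : Set G)) = 2 * h.k - 1 ∧
      ∀ y, h.NonReal y → IsConj x y ∨ IsConj x⁻¹ y := by
  classical
  have hk2 := h.two_le_k
  set c := Nat.card (Subgroup.centralizer ({x} : Set G)) with hc
  have hcard : ∀ z : G, (Finset.univ.filter (IsConj z)).card *
      Nat.card (Subgroup.centralizer ({z} : Set G)) = Nat.card G := by
    intro z
    have e : G ⧸ Subgroup.centralizer ({z} : Set G) ≃ {w : G // IsConj z w} := by
      refine Equiv.ofBijective (Quotient.lift (fun g : G => (⟨g * z * g⁻¹, isConj_iff.2 ⟨g, rfl⟩⟩ :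
        {w : G // IsConj z w})) ?_) ⟨?_, ?_⟩
      · intro a b hab
        have h1 := Subgroup.mem_centralizer_singleton_iff.1 (QuotientGroup.leftRel_apply.1 hab)
        refine Subtype.ext ?_
        calc a * z * a⁻¹ = a * (z * (a⁻¹ * b)) * b⁻¹ := by group
          _ = a * (a⁻¹ * b * z) * b⁻¹ := by rw [h1]
          _ = b * z * b⁻¹ := by group
      · intro p q hpq
        induction p using Quotient.inductionOn with | _ a => ?_
        induction q using Quotient.inductionOn with | _ b => ?_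
        have h1 : a * z * a⁻¹ = b * z * b⁻¹ := congrArg Subtype.val hpq
        refine Quotient.sound (QuotientGroup.leftRel_apply.2 (Subgroup.mem_centralizer_singleton_iff.2 ?_))
        calc a⁻¹ * b * z = a⁻¹ * (b * z * b⁻¹) * b := by group
          _ = a⁻¹ * (a * z * a⁻¹) * b := by rw [h1]
          _ = z * (a⁻¹ * b) := by group
      · rintro ⟨w, hw⟩
        obtain ⟨g, rfl⟩ := isConj_iff.1 hw
        exact ⟨QuotientGroup.mk g, rfl⟩
    rw [← Subgroup.index_mul_card (Subgroup.centralizer ({z} : Set G))]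
    congr 1
    exact (((Nat.card_congr e).trans Nat.card_eq_fintype_card).trans (Fintype.card_subtype _)).symm
  have hinvc : Nat.card (Subgroup.centralizer ({x⁻¹} : Set G)) = c := by
    rw [hc]
    congr 1
    refine congrArg (fun S : Subgroup G => ↥S) ?_
    ext w
    rw [Subgroup.mem_centralizer_singleton_iff, Subgroup.mem_centralizer_singleton_iff]
    exact ⟨fun hw => by simpa using (show Commute w x⁻¹ from hw).inv_right.eq,
      fun hw => (show Commute w x from hw).inv_right.eq⟩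
  set U := Finset.univ.filter (IsConj x) ∪ Finset.univ.filter (IsConj x⁻¹)
  have hxinv : h.NonReal x⁻¹ := NonReal.of_commute h hx (by simpa using hx.1.1) (by group)
  have hsub : U ⊆ Finset.univ.filter h.NonReal := by
    intro w hw
    refine Finset.mem_filter.2 ⟨Finset.mem_univ _, ?_⟩
    rcases Finset.mem_union.1 hw with hw' | hw'
    · obtain ⟨g, rfl⟩ := isConj_iff.1 (Finset.mem_filter.1 hw').2
      exact NonReal.conj h hx g
    · obtain ⟨g, rfl⟩ := isConj_iff.1 (Finset.mem_filter.1 hw').2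
      exact NonReal.conj h hxinv g
  have hdis : Disjoint (Finset.univ.filter (IsConj x)) (Finset.univ.filter (IsConj x⁻¹)) := by
    refine Finset.disjoint_filter.2 fun w _ h1 h2 => ?_
    obtain ⟨g, hg⟩ := isConj_iff.1 (h1.trans h2.symm)
    exact hx.not_isConj_inv g hg
  have hcdvd := hd.cent_dvd hx
  have hle := Finset.card_le_card hsub
  rw [Finset.card_union_of_disjoint hdis] at hle
  have hnr := hd.card_nonReal
  rw [Nat.card_eq_fintype_card, Fintype.card_subtype] at hnr
  replace hnr : (Finset.univ.filter h.NonReal).card + 1 = (2 * h.k - 1) ^ 2 := hnr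
  have h1 := hcard x
  have h2 := hcard x⁻¹
  rw [hinvc] at h2
  rw [← hc] at h1
  obtain ⟨k', hk'⟩ : ∃ k', h.k = k' + 2 := ⟨h.k - 2, by omega⟩
  have hq : 2 * h.k - 1 = 2 * k' + 3 := by omega
  rw [h.card_G, hd.hI, hq, hk', show k' + 2 - 1 = k' + 1 by omega] at h1 h2
  rw [hq] at hnr hcdvd
  have hcq : c = 2 * k' + 3 := by
    refine le_antisymm (Nat.le_of_dvd (by omega) hcdvd) ?_
    by_contra hlt
    have h4 := Nat.mul_le_mul_right c hle
    rw [add_mul, h1, h2] at h4
    have h5 : (Finset.univ.filter h.NonReal).card = 4 * (k' + 1) * (k' + 2) := by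
      have : (2 * k' + 3) ^ 2 = 4 * (k' + 1) * (k' + 2) + 1 := by ring
      omega
    rw [h5] at h4
    nlinarith [Nat.mul_le_mul_left (4 * (k' + 1) * (k' + 2)) (show c + 1 ≤ 2 * k' + 3 by omega)]
  refine ⟨hcq.trans hq.symm, fun y hy => ?_⟩
  have hU : U = Finset.univ.filter h.NonReal := by
    refine Finset.eq_of_subset_of_card_le hsub ?_
    rw [Finset.card_union_of_disjoint hdis]
    rw [hcq] at h1 h2
    have h6 : (Finset.univ.filter (IsConj x)).card = 2 * (k' + 1) * (k' + 2) :=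
      Nat.eq_of_mul_eq_mul_right (by omega : 0 < 2 * k' + 3) (h1.trans (by ring))
    have h7 : (Finset.univ.filter (IsConj x⁻¹)).card = 2 * (k' + 1) * (k' + 2) :=
      Nat.eq_of_mul_eq_mul_right (by omega : 0 < 2 * k' + 3) (h2.trans (by ring))
    have : (2 * k' + 3) ^ 2 = 2 * (k' + 1) * (k' + 2) + 2 * (k' + 1) * (k' + 2) + 1 := by ring
    omega
  have hyU : y ∈ U := by rw [hU]; exact Finset.mem_filter.2 ⟨Finset.mem_univ _, hy⟩
  rcases Finset.mem_union.1 hyU with hw | hw
  · exact Or.inl (Finset.mem_filter.1 hw).2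
  · exact Or.inr (Finset.mem_filter.1 hw).2

/-- The centraliser of a nonreal element is abelian TI with normaliser of order `q (k - 1)`. -/
theorem MinusData.nonReal_cent (hd : h.MinusData) {x : G} (hx : h.NonReal x) :
    (∀ z ∈ Subgroup.centralizer ({x} : Set G), z ≠ 1 →
        Subgroup.centralizer ({z} : Set G) = Subgroup.centralizer ({x} : Set G)) ∧
      Nat.card (Subgroup.normalizer (Subgroup.centralizer ({x} : Set G) : Set G)) =
        (2 * h.k - 1) * (h.k - 1) := by
  classical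
  have hk2 := h.two_le_k
  obtain ⟨hAq, hcl⟩ := hd.nonReal_classes hx
  set A := Subgroup.centralizer ({x} : Set G) with hA
  have hxA : x ∈ A := Subgroup.mem_centralizer_singleton_iff.2 rfl
  have hA1 : ∀ w ∈ A, w ≠ 1 → h.NonReal w := fun w hw hw1 =>
    NonReal.of_commute h hx hw1 (Subgroup.mem_centralizer_singleton_iff.1 hw)
  -- cosets with an involution, and cosets meeting `A` in a conjugate
  set W : Finset (G ⧸ A) :=
    (Finset.univ.filter fun u : G => orderOf u = 2).image (QuotientGroup.mk : G → G ⧸ A) with hW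
  set T : Finset (G ⧸ A) :=
    Finset.univ.filter fun p => ∃ z ∈ A, z ≠ 1 ∧ p.out⁻¹ * z * p.out ∈ A with hT
  have hWcard : W.card = h.I := by
    rw [hW, Finset.card_image_of_injOn]
    · rw [← h.card_classSet_t]
      refine congrArg Finset.card ?_
      ext u
      simp [h.mem_classSet_t]
    · intro u hu v hv huv
      obtain ⟨huu, -⟩ := orderOf_two_iff.1 (Finset.mem_filter.1 hu).2
      obtain ⟨hvv, -⟩ := orderOf_two_iff.1 (Finset.mem_filter.1 hv).2
      have hmem : u⁻¹ * v ∈ A := QuotientGroup.eq.1 huv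
      by_contra hne
      refine (hA1 _ hmem fun h1 => hne (inv_mul_eq_one.1 h1)).2
        (h.stronglyReal_of_inverter (hA1 _ hmem fun h1 => hne (inv_mul_eq_one.1 h1)).1
          (Finset.mem_filter.1 hu).2 ?_)
      rw [inv_eq_of_mul_eq_one_right huu, ← mul_assoc, huu, one_mul, mul_inv_rev,
        inv_eq_of_mul_eq_one_right huu, inv_eq_of_mul_eq_one_right hvv]
  have hTW : Disjoint T W := by
    rw [Finset.disjoint_left]
    intro p hpT hpW
    obtain ⟨-, z, hz, hz1, hzp⟩ := Finset.mem_filter.1 hpT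
    obtain ⟨u, hu, hup⟩ := Finset.mem_image.1 hpW
    have hu2 := (Finset.mem_filter.1 hu).2
    obtain ⟨huu, -⟩ := orderOf_two_iff.1 hu2
    have hui : u⁻¹ = u := inv_eq_of_mul_eq_one_right huu
    have ha : u⁻¹ * p.out ∈ A := QuotientGroup.eq.1 (hup.trans (QuotientGroup.out_eq' p).symm)
    have hzu : u * z * u ∈ A := by
      have h1 := A.mul_mem (A.mul_mem ha hzp) (A.inv_mem ha)
      have h2 : u⁻¹ * p.out * (p.out⁻¹ * z * p.out) * (u⁻¹ * p.out)⁻¹ = u⁻¹ * z * u := by group
      rwa [h2, hui] at h1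
    -- `u` acts without fixed points on `A ⊓ u A u`
    let B : Subgroup G := A ⊓ A.comap (MulAut.conj u).toMonoidHom
    have hmemB : ∀ w, w ∈ B ↔ w ∈ A ∧ u * w * u ∈ A := fun w => by
      show w ∈ A ∧ u * w * u⁻¹ ∈ A ↔ _
      rw [hui]
    have hstab : ∀ w ∈ B, u * w * u ∈ B := fun w hw => by
      obtain ⟨h1, h2⟩ := (hmemB w).1 hw
      refine (hmemB _).2 ⟨h2, ?_⟩
      rwa [show u * (u * w * u) * u = (u * u) * w * (u * u) by group, huu, one_mul, mul_one]
    let f : B → B := fun y => ⟨(y : G)⁻¹ * (u * y * u), B.mul_mem (B.inv_mem y.2) (hstab _ y.2)⟩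
    have hinj : Function.Injective f := by
      intro a b hab
      have h1 : (a : G)⁻¹ * (u * a * u) = (b : G)⁻¹ * (u * b * u) := congrArg Subtype.val hab
      refine Subtype.ext ?_
      by_contra hne
      have hy1 : (b : G) * (a : G)⁻¹ ≠ 1 := fun h2 => hne (mul_inv_eq_one.1 h2).symm
      refine h.no_involution_commutes
        (hA1 _ (A.mul_mem ((hmemB _).1 b.2).1 (A.inv_mem ((hmemB _).1 a.2).1)) hy1).1 hu2 ?_
      calc u * ((b : G) * (a : G)⁻¹) = u * b * u * (u⁻¹ * (a : G)⁻¹) := by group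
        _ = b * ((b : G)⁻¹ * (u * b * u)) * (u⁻¹ * (a : G)⁻¹) := by group
        _ = b * ((a : G)⁻¹ * (u * a * u)) * (u⁻¹ * (a : G)⁻¹) := by rw [h1]
        _ = (b : G) * (a : G)⁻¹ * u := by group
    obtain ⟨y, hy⟩ := (Finite.injective_iff_surjective.1 hinj) ⟨z, (hmemB z).2 ⟨hz, hzu⟩⟩
    have h3 : (y : G)⁻¹ * (u * y * u) = z := congrArg Subtype.val hy
    refine (hA1 z hz hz1).2 (h.stronglyReal_of_inverter (hA1 z hz hz1).1 hu2 ?_)
    rw [← h3]
    calc u * ((y : G)⁻¹ * (u * y * u)) * u = u * (y : G)⁻¹ * u * y * (u * u) := by group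
      _ = u * (y : G)⁻¹ * u * y := by rw [huu, mul_one]
      _ = ((y : G)⁻¹ * (u⁻¹ * y * u⁻¹))⁻¹ := by group
      _ = _ := by rw [hui]
  have hGA : Nat.card (G ⧸ A) = (h.k - 1) * (2 * h.k) := by
    have h1 : A.index * Nat.card A = Nat.card G := A.index_mul_card
    rw [hAq, h.card_G, hd.hI] at h1
    rw [← Subgroup.index_eq_card]
    exact Nat.eq_of_mul_eq_mul_right (show 0 < 2 * h.k - 1 by omega) (h1.trans (by ring))
  have hTle : T.card ≤ h.k - 1 := by
    have h1 := Finset.card_le_card (Finset.subset_univ (T ∪ W))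
    rw [Finset.card_union_of_disjoint hTW, hWcard, Finset.card_univ, ← Nat.card_eq_fintype_card,
      hGA, hd.hI] at h1
    obtain ⟨k', hk'⟩ : ∃ k', h.k = k' + 1 := ⟨h.k - 1, by omega⟩
    rw [hk', show 2 * (k' + 1) - 1 = 2 * k' + 1 by omega, Nat.add_sub_cancel] at h1
    rw [hk', Nat.add_sub_cancel]
    nlinarith
  let φ : (G ⧸ A) × Bool → G := fun p =>
    p.1.out * (if p.2 then x else x⁻¹) * p.1.out⁻¹
  have hxb : ∀ b : Bool, (if b then x else x⁻¹) ∈ A := fun b => by
    cases b <;> simp [hxA, A.inv_mem hxA]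
  -- every element of `A#` is `g x^± g⁻¹` with `g A ∈ T`
  have hcover : ∀ z ∈ A, z ≠ 1 → ∃ (g : G) (b : Bool),
      z = g * (if b then x else x⁻¹) * g⁻¹ ∧ (g : G ⧸ A) ∈ T := by
    intro z hz hz1
    obtain ⟨g, b, hg⟩ : ∃ (g : G) (b : Bool), z = g * (if b then x else x⁻¹) * g⁻¹ := by
      rcases hcl z (hA1 z hz hz1) with hc | hc
      · obtain ⟨g, hg⟩ := isConj_iff.1 hc; exact ⟨g, true, hg.symm⟩
      · obtain ⟨g, hg⟩ := isConj_iff.1 hc; exact ⟨g, false, hg.symm⟩
    refine ⟨g, b, hg, Finset.mem_filter.2 ⟨Finset.mem_univ _, z, hz, hz1, ?_⟩⟩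
    obtain ⟨a, ha⟩ : ∃ a : A, (g : G ⧸ A).out = g * a := QuotientGroup.mk_out_eq_mul A g
    rw [ha, hg, show (g * (a : G))⁻¹ * (g * (if b then x else x⁻¹) * g⁻¹) * (g * a) =
      (a : G)⁻¹ * (if b then x else x⁻¹) * a by group]
    exact A.mul_mem (A.mul_mem (A.inv_mem a.2) (hxb b)) a.2
  have hcent_conj : ∀ (g : G) (a : A), (g * a) * x * (g * a)⁻¹ = g * x * g⁻¹ := fun g a => by
    have := Subgroup.mem_centralizer_singleton_iff.1 a.2
    calc (g * a) * x * (g * a)⁻¹ = g * ((a : G) * x) * (a : G)⁻¹ * g⁻¹ := by group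
      _ = _ := by rw [this]; group
  have hsubset : (Finset.univ.filter fun z => z ∈ A).erase 1 ⊆ (T ×ˢ Finset.univ).image φ := by
    intro z hz
    obtain ⟨hz1, hz'⟩ := Finset.mem_erase.1 hz
    obtain ⟨g, b, hg, hgT⟩ := hcover z (Finset.mem_filter.1 hz').2 hz1
    refine Finset.mem_image.2 ⟨((g : G ⧸ A), b), Finset.mem_product.2 ⟨hgT, Finset.mem_univ _⟩, ?_⟩
    obtain ⟨a, ha⟩ : ∃ a : A, (g : G ⧸ A).out = g * a := QuotientGroup.mk_out_eq_mul A g
    show (g : G ⧸ A).out * (if b then x else x⁻¹) * (g : G ⧸ A).out⁻¹ = z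
    rw [ha, hg]
    cases b
    · simpa [mul_assoc] using congrArg (·⁻¹) (hcent_conj g a)
    · exact hcent_conj g a
  have hAcard : ((Finset.univ.filter fun z => z ∈ A).erase 1).card = 2 * (h.k - 1) := by
    rw [Finset.card_erase_of_mem (Finset.mem_filter.2 ⟨Finset.mem_univ _, A.one_mem⟩),
      ← Fintype.card_subtype, ← Nat.card_eq_fintype_card, hAq]
    omega
  have himg : ((T ×ˢ (Finset.univ : Finset Bool)).image φ).card ≤ 2 * T.card :=
    Finset.card_image_le.trans (by rw [Finset.card_product, Finset.card_univ, Fintype.card_bool, mul_comm])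
  have hTcard : T.card = h.k - 1 := by
    have := Finset.card_le_card hsubset
    omega
  have himgeq : (Finset.univ.filter fun z => z ∈ A).erase 1 = (T ×ˢ Finset.univ).image φ :=
    Finset.eq_of_subset_of_card_le hsubset (by omega)
  -- the key property
  have hkey : ∀ g : G, (∃ z ∈ A, z ≠ 1 ∧ g⁻¹ * z * g ∈ A) → g * x * g⁻¹ ∈ A := by
    rintro g ⟨z, hz, hz1, hzg⟩
    obtain ⟨a, ha⟩ : ∃ a : A, (g : G ⧸ A).out = g * a := QuotientGroup.mk_out_eq_mul A g
    have hgT : (g : G ⧸ A) ∈ T := Finset.mem_filter.2 ⟨Finset.mem_univ _, z, hz, hz1, by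
      rw [ha, show (g * (a : G))⁻¹ * z * (g * a) = (a : G)⁻¹ * (g⁻¹ * z * g) * a by group]
      exact A.mul_mem (A.mul_mem (A.inv_mem a.2) hzg) a.2⟩
    have h1 : φ ((g : G ⧸ A), true) ∈ (Finset.univ.filter fun z => z ∈ A).erase 1 := by
      rw [himgeq]
      exact Finset.mem_image_of_mem _ (Finset.mem_product.2 ⟨hgT, Finset.mem_univ _⟩)
    have h2 := (Finset.mem_filter.1 (Finset.mem_erase.1 h1).2).2
    simp only [φ, ha, if_true] at h2
    rwa [hcent_conj g a] at h2
  have hkey' : ∀ g : G, g * x * g⁻¹ ∈ A → g⁻¹ * x * g ∈ A := fun g hg => by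
    have := hkey g⁻¹ ⟨x, hxA, hx.1.1, by rw [inv_inv]; exact hg⟩
    rwa [inv_inv] at this
  have hsigned : ∀ (g : G) (b : Bool), g * (if b then x else x⁻¹) * g⁻¹ ∈ A ↔ g * x * g⁻¹ ∈ A := by
    intro g b
    cases b
    · rw [if_neg Bool.false_ne_true, ← conj_inv]; exact A.inv_mem_iff
    · simp
  -- commutativity
  have hab : ∀ z ∈ A, z ≠ 1 → ∀ w ∈ A, w * z = z * w := by
    intro z hz hz1 w hw
    by_cases hw1 : w = 1
    · simp [hw1]
    obtain ⟨g, b, rfl, -⟩ := hcover z hz hz1
    obtain ⟨c, d, rfl, -⟩ := hcover w hw hw1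
    have hg := (hsigned g b).1 hz
    have hc := (hsigned c d).1 hw
    have h1 := hkey (g⁻¹ * c) ⟨g⁻¹ * x * g, hkey' g hg,
      fun e => hx.1.1 (calc
        x = g * (g⁻¹ * x * g) * g⁻¹ := by group
        _ = 1 := by rw [e]; group), by
      rw [show (g⁻¹ * c)⁻¹ * (g⁻¹ * x * g) * (g⁻¹ * c) = c⁻¹ * x * c by group]
      exact hkey' c hc⟩
    have h2 : g⁻¹ * (c * (if d then x else x⁻¹) * c⁻¹) * g ∈ A := by
      have := (hsigned (g⁻¹ * c) d).2 h1
      rwa [show g⁻¹ * c * (if d then x else x⁻¹) * (g⁻¹ * c)⁻¹ =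
        g⁻¹ * (c * (if d then x else x⁻¹) * c⁻¹) * g by group] at this
    have h3 := Subgroup.mem_centralizer_singleton_iff.1 h2
    have h4 : ∀ e : Bool, Commute (g⁻¹ * (c * (if d then x else x⁻¹) * c⁻¹) * g)
        (if e then x else x⁻¹) := fun e => by
      cases e
      · simpa using (show Commute _ x from h3).inv_right
      · exact h3
    have h5 := congrArg (MulAut.conj g) (h4 b).eq
    simp only [map_mul, MulAut.conj_apply] at h5
    simpa [mul_assoc] using h5
  have hceq : ∀ z ∈ A, z ≠ 1 → Subgroup.centralizer ({z} : Set G) = A := fun z hz hz1 => by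
    refine (Subgroup.eq_of_le_of_card_ge (fun w hw =>
      Subgroup.mem_centralizer_singleton_iff.2 (hab z hz hz1 w hw)) (le_of_eq ?_)).symm
    rw [(hd.nonReal_classes (hA1 z hz hz1)).1, hAq]
  refine ⟨hceq, ?_⟩
  -- the normaliser
  set N := Subgroup.normalizer (A : Set G)
  have hmemN : ∀ g : G, g ∈ N ↔ (g : G ⧸ A) ∈ T := by
    intro g
    obtain ⟨a, ha⟩ : ∃ a : A, (g : G ⧸ A).out = g * a := QuotientGroup.mk_out_eq_mul A g
    constructor
    · intro hg
      refine Finset.mem_filter.2 ⟨Finset.mem_univ _, g * x * g⁻¹,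
        (Subgroup.mem_normalizer_iff.1 hg x).1 hxA, fun e => hx.1.1 (conj_eq_one_iff.1 e), ?_⟩
      rw [ha, show (g * (a : G))⁻¹ * (g * x * g⁻¹) * (g * a) = (a : G)⁻¹ * x * a by group]
      exact A.mul_mem (A.mul_mem (A.inv_mem a.2) hxA) a.2
    · intro hg
      obtain ⟨-, z, hz, hz1, hzg⟩ := Finset.mem_filter.1 hg
      rw [ha, show (g * (a : G))⁻¹ * z * (g * a) = (a : G)⁻¹ * (g⁻¹ * z * g) * a by group] at hzg
      have hzg' : g⁻¹ * z * g ∈ A := by
        have := A.mul_mem (A.mul_mem a.2 hzg) (A.inv_mem a.2)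
        simpa [mul_assoc] using this
      have hgx := hkey g ⟨z, hz, hz1, hzg'⟩
      have hC := hceq _ hgx fun e => hx.1.1 (conj_eq_one_iff.1 e)
      refine Subgroup.mem_normalizer_iff.2 fun w => ?_
      show w ∈ A ↔ g * w * g⁻¹ ∈ A
      have e1 : g * w * g⁻¹ ∈ A ↔ g * w * g⁻¹ ∈ Subgroup.centralizer ({g * x * g⁻¹} : Set G) :=
        (SetLike.ext_iff.1 hC _).symm
      rw [e1, mem_centralizer_conj]
  rw [← hTcard, ← hAq, ← Nat.card_eq_finsetCard, ← Nat.card_prod]
  let e : A × T → N := fun p => ⟨p.2.1.out * p.1, (hmemN _).2 (by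
    rw [QuotientGroup.mk_mul_of_mem _ p.1.2, QuotientGroup.out_eq']; exact p.2.2)⟩
  refine (Nat.card_congr (Equiv.ofBijective e ⟨?_, ?_⟩)).symm
  · rintro ⟨a, p⟩ ⟨b, r⟩ hpr
    have h1 : p.1.out * (a : G) = r.1.out * (b : G) := congrArg Subtype.val hpr
    have h2 : p = r := Subtype.ext (by
      have h3 := congrArg (fun g : G => (g : G ⧸ A)) h1
      simpa [QuotientGroup.mk_mul_of_mem _ a.2, QuotientGroup.mk_mul_of_mem _ b.2,
        QuotientGroup.out_eq'] using h3)
    subst h2
    exact Prod.ext (Subtype.ext (mul_left_cancel h1)) rfl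
  · rintro ⟨g, hg⟩
    obtain ⟨a, ha⟩ : ∃ a : A, (g : G ⧸ A).out = g * a := QuotientGroup.mk_out_eq_mul A g
    refine ⟨⟨a⁻¹, ⟨_, (hmemN g).1 hg⟩⟩, Subtype.ext ?_⟩
    show (g : G ⧸ A).out * ((a⁻¹ : A) : G) = g
    rw [ha]; simp

/-- The theorem for `q = 2 k - 1`. -/
theorem MinusData.conclusion (hd : h.MinusData) : Conclusion G := by
  classical
  have hk2 := h.two_le_k
  obtain ⟨x, hx⟩ : ∃ x, h.NonReal x := by
    have hnr := hd.card_nonReal
    have h9 : 3 ^ 2 ≤ (2 * h.k - 1) ^ 2 := Nat.pow_le_pow_left (by omega) 2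
    obtain ⟨⟨x, hx⟩⟩ := (Nat.card_ne_zero.1 (show Nat.card {x : G // h.NonReal x} ≠ 0 by omega)).1
    exact ⟨x, hx⟩
  obtain ⟨hAq, -⟩ := hd.nonReal_classes hx
  obtain ⟨hceq, hNcard⟩ := hd.nonReal_cent hx
  set A := Subgroup.centralizer ({x} : Set G) with hA
  set N := Subgroup.normalizer (A : Set G) with hN
  have hA1 : ∀ w ∈ A, w ≠ 1 → h.NonReal w := fun w hw hw1 =>
    NonReal.of_commute h hx hw1 (Subgroup.mem_centralizer_singleton_iff.1 hw)
  have hAN : A ≤ N := Subgroup.le_normalizer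
  have hidx : (A.subgroupOf N).index = h.k - 1 := by
    have h1 := Subgroup.index_mul_card (A.subgroupOf N)
    rw [Nat.card_congr (Subgroup.subgroupOfEquivOfLe hAN).toEquiv, hAq, hNcard] at h1
    exact Nat.eq_of_mul_eq_mul_right (show 0 < 2 * h.k - 1 by omega) (h1.trans (mul_comm _ _))
  have hcop : Nat.Coprime (2 * h.k - 1) (h.k - 1) := by
    rw [show 2 * h.k - 1 = 1 + 2 * (h.k - 1) by omega, Nat.coprime_add_mul_right_left]
    exact Nat.coprime_one_left _
  haveI : (A.subgroupOf N).Normal := Subgroup.normal_in_normalizer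
  obtain ⟨F', hF'⟩ := Subgroup.exists_right_complement'_of_coprime (N := A.subgroupOf N)
    (by rw [Nat.card_congr (Subgroup.subgroupOfEquivOfLe hAN).toEquiv, hAq, hidx]; exact hcop)
  set F := F'.map N.subtype with hF
  have hFN : F ≤ N := Subgroup.map_subtype_le _
  have hFcard : Nat.card F = h.k - 1 := by
    rw [hF, Subgroup.card_map_of_injective N.subtype_injective, ← hidx, hF'.symm.index_eq_card]
  have hsup : A ⊔ F = N := by
    have h1 := congrArg (Subgroup.map N.subtype) hF'.sup_eq_top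
    rwa [Subgroup.map_sup, Subgroup.subgroupOf_map_subtype, inf_eq_left.2 hAN, ← MonoidHom.range_eq_map,
      Subgroup.range_subtype] at h1
  have hFA : ∀ y ∈ F, y ∈ A → y = 1 := by
    intro y hy hyA
    by_contra hy1
    have h1 : orderOf y ∣ h.k - 1 := hFcard ▸ Subgroup.orderOf_dvd_natCard F hy
    have h2 : orderOf y ∣ 2 * h.k - 1 := hAq ▸ Subgroup.orderOf_dvd_natCard A hyA
    have h3 := Nat.dvd_gcd h2 h1
    rw [hcop, Nat.dvd_one, orderOf_eq_one_iff] at h3
    exact hy1 h3
  have hFreal : ∀ y ∈ F, y ≠ 1 → h.StronglyReal y := by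
    intro y hy hy1
    have h1 : orderOf y ∣ h.k - 1 := hFcard ▸ Subgroup.orderOf_dvd_natCard F hy
    have hne : ∀ n, orderOf y ∣ n → Nat.Coprime n (h.k - 1) → False := fun n hn hc => hy1 (by
      have := Nat.dvd_gcd hn h1
      rwa [hc, Nat.dvd_one, orderOf_eq_one_iff] at this)
    have hout : h.Outside y := by
      refine ⟨hy1, fun hK => ?_⟩
      obtain ⟨-, g, hg⟩ := hK
      refine hne h.k ?_ ?_
      · rw [← (MulAut.conj g).orderOf_eq y]
        exact Subgroup.orderOf_dvd_natCard _ hg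
      · rw [show h.k = 1 + (h.k - 1) by omega, Nat.add_sub_cancel_left, Nat.coprime_add_self_left]
        exact Nat.coprime_one_left _
    by_contra hns
    refine hne (2 * h.k - 1) ?_ hcop
    rw [← (hd.nonReal_classes ⟨hout, hns⟩).1]
    exact Subgroup.orderOf_dvd_natCard _ (Subgroup.mem_centralizer_singleton_iff.2 rfl)
  by_cases hFbot : ∀ y ∈ F, y = 1
  · have hF0 : F = ⊥ := (Subgroup.eq_bot_iff_forall F).2 hFbot
    refine ⟨A, ⊥, ?_, hceq, ?_, ?_, inf_bot_eq A, ?_, fun X hX hX1 => absurd (le_bot_iff.1 hX) hX1⟩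
    · rw [hAq, h.card_G, hd.hI]
      obtain ⟨k', hk'⟩ : ∃ k', h.k = k' + 2 := ⟨h.k - 2, by omega⟩
      rw [hk', show 2 * (k' + 2) - 1 = 2 * k' + 3 by omega, show k' + 2 - 1 = k' + 1 by omega,
        show 2 * k' + 3 - 1 = 2 * k' + 2 by omega]
      ring
    · exact ⟨⟨fun a b => Subsingleton.elim _ _⟩⟩
    · rw [hF0, Subgroup.card_bot] at hFcard
      rw [Subgroup.card_bot, hAq]; omega
    · rw [← hN, ← hsup, hF0]
  push Not at hFbot
  obtain ⟨y, hyF, hy1⟩ := hFbot
  have hyR := hFreal y hyF hy1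
  set B := Subgroup.centralizer ({y} : Set G) with hB
  have hodd : Odd (h.k - 1) := by
    obtain ⟨c, hc⟩ := h.two_dvd_k
    exact ⟨c - 1, by omega⟩
  -- the partition of `F`
  have hFB : F ≤ B := by
    haveI := Fintype.ofFinite F
    have key := eq_top_of_partition (F := F)
      (fun z => (Subgroup.centralizer ({(z : G)} : Set G)).subgroupOf F)
      (fun z _ => Subgroup.mem_subgroupOf.2 (Subgroup.mem_centralizer_singleton_iff.2 rfl))
      (fun a b ha hb hab => by
        rw [(h.cent_eq (hFreal _ a.2 fun e => ha (Subtype.ext e)) (Subgroup.mem_subgroupOf.1 hab)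
          fun e => hb (Subtype.ext e)).2])
      (fun g z _ w => by
        rw [Subgroup.mem_subgroupOf, Subgroup.mem_subgroupOf]
        exact (mem_centralizer_conj (g := (g : G))).symm)
      (fun g z hz hg => by
        rw [Subgroup.mem_subgroupOf] at hg ⊢
        have hzR := hFreal _ z.2 fun e => hz (Subtype.ext e)
        obtain ⟨u, hu, hi⟩ := StronglyReal.exists_inverter h hzR
        obtain ⟨-, hcard, -⟩ := h.comp_spec hzR hu hi
        rw [hd.comp_two _ hzR u hu hi] at hcard
        have hgN : (g : G) ∈ Subgroup.normalizer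
            (Subgroup.centralizer ({(z : G)} : Set G) : Set G) := (h.mem_normalizer hzR).2 hg
        -- an element of odd order in a subgroup of index two
        have hnorm := Subgroup.normal_in_normalizer (H := Subgroup.centralizer ({(z : G)} : Set G))
        set M := Subgroup.normalizer (Subgroup.centralizer ({(z : G)} : Set G) : Set G)
        have hM : ((Subgroup.centralizer ({(z : G)} : Set G)).subgroupOf M).index = 2 := by
          have h1 := Subgroup.index_mul_card ((Subgroup.centralizer ({(z : G)} : Set G)).subgroupOf M)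
          rw [Nat.card_congr (Subgroup.subgroupOfEquivOfLe
            (show Subgroup.centralizer ({(z : G)} : Set G) ≤ M from Subgroup.le_normalizer)).toEquiv,
            hcard] at h1
          exact Nat.eq_of_mul_eq_mul_right Nat.card_pos (h1.trans (mul_comm _ _))
        have hsq : ((⟨g, hgN⟩ : M) ^ 2) ∈ (Subgroup.centralizer ({(z : G)} : Set G)).subgroupOf M :=
          Subgroup.sq_mem_of_index_two hM _
        rw [Subgroup.mem_subgroupOf, SubgroupClass.coe_pow] at hsq
        obtain ⟨o, ho⟩ : Odd (orderOf (g : G)) :=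
          hodd.of_dvd_nat (hFcard ▸ Subgroup.orderOf_dvd_natCard F g.2)
        have : (g : G) = ((g : G) ^ 2) ^ (o + 1) := by
          rw [← pow_mul, show 2 * (o + 1) = orderOf (g : G) + 1 by omega, pow_succ, pow_orderOf_eq_one,
            one_mul]
        rw [this]
        exact Subgroup.pow_mem _ hsq _)
      (y := ⟨y, hyF⟩) fun e => hy1 (congrArg Subtype.val e)
    exact Subgroup.subgroupOf_eq_top.1 key
  have hBF : F = B := Subgroup.eq_of_le_of_card_ge hFB (by rw [hFcard, hd.card_real y hyR])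
  obtain ⟨u, hu, hi⟩ := StronglyReal.exists_inverter h hyR
  obtain ⟨huE, -, hsupB, -⟩ := h.comp_spec hyR hu hi
  have hE : comp y u = Subgroup.zpowers u := by
    refine (Subgroup.eq_of_le_of_card_ge (Subgroup.zpowers_le.2 huE) (le_of_eq ?_)).symm
    rw [hd.comp_two y hyR u hu hi, Nat.card_zpowers, hu]
  have hND : Subgroup.normalizer (F : Set G) = F ⊔ Subgroup.zpowers u := by
    rw [hBF, ← hsupB, hE]
  refine ⟨A, F, ?_, hceq, ?_, ?_, ?_, ?_, fun X hX hX1 => ⟨?_, u, hu, ?_, ?_, hND⟩⟩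
  · rw [hAq, h.card_G, hd.hI]
    obtain ⟨k', hk'⟩ : ∃ k', h.k = k' + 2 := ⟨h.k - 2, by omega⟩
    rw [hk', show 2 * (k' + 2) - 1 = 2 * k' + 3 by omega, show k' + 2 - 1 = k' + 1 by omega,
      show 2 * k' + 3 - 1 = 2 * k' + 2 by omega]
    ring
  · exact ⟨⟨fun a b => Subtype.ext (h.cent_comm hyR (hFB a.2) (hFB b.2))⟩⟩
  · rw [hFcard, hAq]; omega
  · exact (Subgroup.eq_bot_iff_forall _).2 fun z hz => hFA z hz.2 hz.1
  · rw [← hN, ← hsup]
  · obtain ⟨z, hz, hz1⟩ : ∃ z ∈ X, z ≠ 1 := by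
      by_contra hc
      push Not at hc
      exact hX1 ((Subgroup.eq_bot_iff_forall X).2 hc)
    have hzB : z ∈ B := hBF ▸ hX hz
    refine le_antisymm (fun g hg => ?_) fun g hg => ?_
    · rw [hBF, Subgroup.mem_normalizer_iff]
      intro w
      have hgz : g * z * g⁻¹ ∈ B := hBF ▸ hX ((Subgroup.mem_normalizer_iff.1 hg z).1 hz)
      have e1 := (h.cent_eq hyR hzB hz1).2
      have e2 := (h.cent_eq hyR hgz fun e => hz1 (conj_eq_one_iff.1 e)).2
      show w ∈ B ↔ g * w * g⁻¹ ∈ B
      rw [hB, ← SetLike.ext_iff.1 e1 w, ← SetLike.ext_iff.1 e2 _, mem_centralizer_conj]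
    · -- `F` is abelian and `u` inverts it
      rw [hND] at hg
      refine (sup_le ?_ (Subgroup.zpowers_le.2 ?_) : F ⊔ Subgroup.zpowers u ≤
        Subgroup.normalizer (X : Set G)) hg
      · intro f hf
        refine Subgroup.mem_normalizer_iff.2 fun w => ⟨fun hw => ?_, fun hw => ?_⟩
        · show f * w * f⁻¹ ∈ X
          rw [h.cent_comm hyR (hFB hf) (hFB (hX hw)), mul_inv_cancel_right]
          exact hw
        · show w ∈ X
          have hw' : f * w * f⁻¹ ∈ X := hw
          have := h.cent_comm hyR (hFB (F.inv_mem hf)) (hFB (hX hw'))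
          rw [show w = f⁻¹ * (f * w * f⁻¹) * f by group, this]
          simpa [mul_assoc] using hw'
      · have huu := (orderOf_two_iff.1 hu).1
        have hui : u⁻¹ = u := inv_eq_of_mul_eq_one_right huu
        refine Subgroup.mem_normalizer_iff.2 fun w => ⟨fun hw => ?_, fun hw => ?_⟩
        · show u * w * u⁻¹ ∈ X
          rw [hui, h.inverts_cent hyR.1 hu hi (hFB (hX hw))]
          exact X.inv_mem hw
        · show w ∈ X
          have hw' : u * w * u⁻¹ ∈ X := hw
          rw [hui] at hw'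
          have h1 := h.inverts_cent hyR.1 hu hi (hFB (hX hw'))
          rw [show u * (u * w * u) * u = (u * u) * w * (u * u) by group, huu, one_mul, mul_one] at h1
          rw [h1]
          exact X.inv_mem hw'
  · intro hmem
    exact h.no_involution_commutes hyR.1 hu (Subgroup.mem_centralizer_singleton_iff.1 (hFB hmem))
  · intro d hd'
    rw [inv_eq_of_mul_eq_one_right (orderOf_two_iff.1 hu).1]
    exact h.inverts_cent hyR.1 hu hi (hFB hd')

end Hyp

end CfsgLib.BSW
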