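import Mathlib.Tactic

/-!
# Arithmetic of the Brauer–Suzuki–Wall theorem
-/

set_option autoImplicit false

namespace CfsgLib.BSW.Numeric

/-- The signed degree `A = 1 + j k` of the central character has `j = ±2`. -/
theorem j_eq_two {I k j : ℤ} (hI : Odd I) (hk : 0 < k) (hke : Even k)
    (h : I * (j * k) ^ 2 = 2 * k ^ 2 * ((1 + j * k) * (2 + j * k))) : j = 2 ∨ j = -2 := by
  have h' : I * j ^ 2 = 2 * ((1 + j * k) * (2 + j * k)) := by
    refine mul_left_cancel₀ (pow_ne_zero 2 hk.ne') ?_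
    linear_combination h
  have hj0 : j ≠ 0 := fun h0 => by subst h0; norm_num at h'
  have hdvd : j ∣ 4 := ⟨I * j - 6 * k - 2 * j * k ^ 2, by linear_combination -h'⟩
  have hb1 : j ≤ 4 := Int.le_of_dvd (by norm_num) hdvd
  have hb2 : -j ≤ 4 := Int.le_of_dvd (by norm_num) (neg_dvd.2 hdvd)
  obtain ⟨i, rfl⟩ := hI
  obtain ⟨l, rfl⟩ := hke
  have hlo : -4 ≤ j := by omega
  interval_cases j <;> first | omega | (exfalso; ring_nf at h'; omega) | norm_num at hdvd

/-- The case of one positive and two negative signed degrees in the four group case. -/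
theorem four_case_neg {I a b : ℤ} (ha : 3 ≤ a) (hab : a ≤ b) (ha4 : a % 4 = 3) (hb4 : b % 4 = 3)
    (hI : Odd I) (h : I * ((a + b) * (a - 1) * (b - 1)) = 8 * (a * b * (a + b - 1))) :
    a = 3 ∧ b = 3 := by
  have hpos : 0 < (a + b) * (a - 1) * (b - 1) :=
    mul_pos (mul_pos (by omega) (by omega)) (by omega)
  have hI8 : 8 < I := by
    by_contra hc
    nlinarith [mul_le_mul_of_nonneg_right (not_lt.1 hc) hpos.le,
      mul_pos (show (0 : ℤ) < a + b - 1 by omega) (show (0 : ℤ) < a + b by omega)]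
  have hI15 : I ≤ 15 := by
    by_contra hc
    nlinarith [mul_le_mul_of_nonneg_right (show (16 : ℤ) ≤ I by omega) hpos.le,
      mul_nonneg (show (0 : ℤ) ≤ a - 3 by omega) (show (0 : ℤ) ≤ b - 3 by omega),
      mul_nonneg (mul_nonneg (show (0 : ℤ) ≤ a - 3 by omega) (show (0 : ℤ) ≤ b - 3 by omega))
        (show (0 : ℤ) ≤ a + b by omega)]
  obtain ⟨i, rfl⟩ := hI
  have ha11 : a ≤ 11 := by
    by_contra hc
    obtain ⟨u, hu, rfl⟩ : ∃ u, 0 ≤ u ∧ a = u + 15 := ⟨a - 15, by omega, by ring⟩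
    obtain ⟨v, hv, rfl⟩ : ∃ v, 0 ≤ v ∧ b = v + 15 := ⟨b - 15, by omega, by ring⟩
    have h9 := mul_le_mul_of_nonneg_right (show (9 : ℤ) ≤ 2 * i + 1 by omega) hpos.le
    have huv := mul_nonneg hu hv
    have hD : 0 ≤ u * v * (u + v) + 6 * (u + v) ^ 2 + 38 * (u * v) + 264 * (u + v) := by positivity
    nlinarith
  have hilo : 4 ≤ i := by omega
  have hihi : i ≤ 7 := by omega
  have hb100 : b ≤ 200 := by
    by_contra hc
    have : 0 < (b - 200) * b := mul_pos (by omega) (by omega)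
    interval_cases a <;> first | omega | (interval_cases i <;> ring_nf at h <;> nlinarith)
  interval_cases a <;> first | omega | (interval_cases i <;> ring_nf at h <;>
    first | (exfalso; nlinarith) | (constructor <;> nlinarith) | (interval_cases b <;> omega))

/-- The case of two positive and one negative signed degree in the four group case. -/
theorem four_case_pos {I a b : ℤ} (ha : 1 ≤ a) (hab : a ≤ b) (ha4 : a % 4 = 1) (hb4 : b % 4 = 1)
    (hI : Odd I) (h : I * ((a + b) * (a + 1) * (b + 1)) = 8 * (a * b * (a + b + 1))) :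
    a = 1 ∧ b = 1 := by
  have hpos : 0 < (a + b) * (a + 1) * (b + 1) :=
    mul_pos (mul_pos (by omega) (by omega)) (by omega)
  have hI8 : I < 8 := by
    by_contra hc
    nlinarith [mul_le_mul_of_nonneg_right (not_lt.1 hc) hpos.le,
      mul_pos (show (0 : ℤ) < a + b by omega) (show (0 : ℤ) < a + b + 1 by omega)]
  have hI1 : 1 ≤ I := by
    by_contra hc
    nlinarith [mul_le_mul_of_nonneg_right (show I ≤ 0 by omega) hpos.le,
      mul_pos (mul_pos (show (0 : ℤ) < a by omega) (show (0 : ℤ) < b by omega))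
        (show (0 : ℤ) < a + b + 1 by omega)]
  obtain ⟨i, rfl⟩ := hI
  have ha13 : a ≤ 9 := by
    by_contra hc
    obtain ⟨u, hu, rfl⟩ : ∃ u, 0 ≤ u ∧ a = u + 13 := ⟨a - 13, by omega, by ring⟩
    obtain ⟨v, hv, rfl⟩ : ∃ v, 0 ≤ v ∧ b = v + 13 := ⟨b - 13, by omega, by ring⟩
    have h7 := mul_le_mul_of_nonneg_right (show 2 * i + 1 ≤ 7 by omega) hpos.le
    have hD : 0 ≤ u * v * (u + v) + 6 * (u + v) ^ 2 + 34 * (u * v) + 240 * (u + v) := by positivity
    nlinarith
  have hilo : 0 ≤ i := by omega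
  have hihi : i ≤ 3 := by omega
  have hb100 : b ≤ 200 := by
    by_contra hc
    have : 0 < (b - 200) * b := mul_pos (by omega) (by omega)
    interval_cases a <;> first | omega | (interval_cases i <;> ring_nf at h <;> nlinarith)
  interval_cases a <;> first | omega | (interval_cases i <;> ring_nf at h <;>
    first | (exfalso; nlinarith) | (constructor <;> nlinarith) | (interval_cases b <;> omega))

/-- The three signed degrees in the four group case. -/
theorem four_case {I x y z : ℤ} (hI : Odd I) (hI0 : 0 < I) (hx : x % 4 = 1) (hy : y % 4 = 1)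
    (hz : z % 4 = 1) (hs : x + y + z = -1)
    (h : I * (x * y * z + y * z + x * z + x * y) = 8 * (x * y * z)) :
    (I = 3 ∧ ((x = -3 ∧ y = 1 ∧ z = 1) ∨ (x = 1 ∧ y = -3 ∧ z = 1) ∨ (x = 1 ∧ y = 1 ∧ z = -3))) ∨
    (I = 15 ∧ ((x = 5 ∧ y = -3 ∧ z = -3) ∨ (x = -3 ∧ y = 5 ∧ z = -3) ∨
      (x = -3 ∧ y = -3 ∧ z = 5))) := by
  have key : ∀ {x y z : ℤ}, x % 4 = 1 → y % 4 = 1 → z % 4 = 1 → x + y + z = -1 →
      I * (x * y * z + y * z + x * z + x * y) = 8 * (x * y * z) → 0 < x → y < 0 → z < 0 →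
      I = 15 ∧ x = 5 ∧ y = -3 ∧ z = -3 := by
    intro x y z hx hy hz hs h hx0 hy0 hz0
    obtain rfl : x = -y + -z - 1 := by omega
    rcases le_total (-y) (-z) with hl | hl
    · obtain ⟨h1, h2⟩ := four_case_neg (a := -y) (b := -z) (by omega) hl (by omega) (by omega) hI
        (by linear_combination h)
      obtain rfl : y = -3 := by omega
      obtain rfl : z = -3 := by omega
      exact ⟨by omega, by norm_num, rfl, rfl⟩
    · obtain ⟨h1, h2⟩ := four_case_neg (a := -z) (b := -y) (by omega) hl (by omega) (by omega) hI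
        (by linear_combination h)
      obtain rfl : y = -3 := by omega
      obtain rfl : z = -3 := by omega
      exact ⟨by omega, by norm_num, rfl, rfl⟩
  have key' : ∀ {x y z : ℤ}, x % 4 = 1 → y % 4 = 1 → z % 4 = 1 → x + y + z = -1 →
      I * (x * y * z + y * z + x * z + x * y) = 8 * (x * y * z) → x < 0 → 0 < y → 0 < z →
      I = 3 ∧ x = -3 ∧ y = 1 ∧ z = 1 := by
    intro x y z hx hy hz hs h hx0 hy0 hz0
    obtain rfl : x = -y - z - 1 := by omega
    rcases le_total y z with hl | hl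
    · obtain ⟨rfl, rfl⟩ := four_case_pos (a := y) (b := z) (by omega) hl hy hz hI
        (by linear_combination -h)
      exact ⟨by omega, by norm_num, rfl, rfl⟩
    · obtain ⟨rfl, rfl⟩ := four_case_pos (a := z) (b := y) (by omega) hl hz hy hI
        (by linear_combination -h)
      exact ⟨by omega, by norm_num, rfl, rfl⟩
  rcases lt_or_gt_of_ne (show x ≠ 0 by omega) with h1 | h1 <;>
    rcases lt_or_gt_of_ne (show y ≠ 0 by omega) with h2 | h2 <;>
    rcases lt_or_gt_of_ne (show z ≠ 0 by omega) with h3 | h3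
  · exfalso
    have hp : 0 < y * z := mul_pos_of_neg_of_neg h2 h3
    nlinarith
  · obtain ⟨a, b, c, d⟩ := key (x := z) (y := x) (z := y) hz hx hy (by omega) (by linear_combination h) h3 h1 h2
    exact Or.inr ⟨a, Or.inr (Or.inr ⟨c, d, b⟩)⟩
  · obtain ⟨a, b, c, d⟩ := key (x := y) (y := x) (z := z) hy hx hz (by omega) (by linear_combination h) h2 h1 h3
    exact Or.inr ⟨a, Or.inr (Or.inl ⟨c, b, d⟩)⟩
  · obtain ⟨a, b, c, d⟩ := key' hx hy hz hs h h1 h2 h3
    exact Or.inl ⟨a, Or.inl ⟨b, c, d⟩⟩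
  · obtain ⟨a, b, c, d⟩ := key hx hy hz hs h h1 h2 h3
    exact Or.inr ⟨a, Or.inl ⟨b, c, d⟩⟩
  · obtain ⟨a, b, c, d⟩ := key' (x := y) (y := x) (z := z) hy hx hz (by omega) (by linear_combination h) h2 h1 h3
    exact Or.inl ⟨a, Or.inr (Or.inl ⟨c, b, d⟩)⟩
  · obtain ⟨a, b, c, d⟩ := key' (x := z) (y := x) (z := y) hz hx hy (by omega) (by linear_combination h) h3 h1 h2
    exact Or.inl ⟨a, Or.inr (Or.inr ⟨c, d, b⟩)⟩
  · omega

end CfsgLib.BSW.Numeric
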