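import Cfsg.Agent.BSW.Setup

/-!
# Products of two involutions under the Brauer–Suzuki–Wall hypothesis
-/

set_option autoImplicit false
set_option linter.style.haveILetI false
set_option linter.unusedSectionVars false

namespace CfsgLib.BSW

open CfsgLib.Characters CfsgLib.CharactersDeep.ClassPairs
open scoped ComplexConjugate

universe u

variable {G : Type u} [Group G]

/-- The number of ways to write `x` as a product of two involutions. -/
noncomputable def pairCount (x : G) : ℕ := Nat.card {u : G // orderOf u = 2 ∧ orderOf (u * x) = 2}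

theorem pairCount_conj (g x : G) : pairCount (g * x * g⁻¹) = pairCount x := by
  refine Nat.card_congr ((MulAut.conj g).symm.toEquiv.subtypeEquiv fun u => ?_)
  simp only [MulEquiv.toEquiv_eq_coe, EquivLike.coe_coe, MulEquiv.orderOf_eq, MulAut.conj_symm_apply]
  rw [show g⁻¹ * u * g * x = (MulAut.conj g).symm (u * (g * x * g⁻¹)) by
      rw [MulAut.conj_symm_apply]; group, MulEquiv.orderOf_eq,
    ← MulAut.conj_symm_apply, MulEquiv.orderOf_eq]

namespace Hyp

variable [Fintype G] (h : Hyp G)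

theorem pairCount_one : pairCount (1 : G) = h.I := by
  classical
  rw [← h.card_classSet_t, ← card_classSet]
  refine Nat.card_congr (Equiv.subtypeEquivRight fun u => ?_)
  rw [mul_one, and_self, ← h.mem_classSet_t, mem_classSet]

theorem pairCount_of_inK {x : G} (hx : h.InK x) : pairCount x = h.k := by
  obtain ⟨hx1, g, hg⟩ := hx
  rw [← pairCount_conj g x]
  set y := g * x * g⁻¹ with hy
  have hy1 : y ≠ 1 := fun h1 => hx1 (conj_eq_one_iff.1 h1)
  have hmem : ∀ u : G, (orderOf u = 2 ∧ orderOf (u * y) = 2) ↔ u ∈ h.H ∧ u ∉ h.K := by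
    intro u
    constructor
    · rintro ⟨h2, h3⟩
      obtain ⟨huu, hu1⟩ := orderOf_two_iff.1 h2
      obtain ⟨huy, -⟩ := orderOf_two_iff.1 h3
      have hinv : u * y * u⁻¹ = y⁻¹ := by
        rw [inv_eq_of_mul_eq_one_right huu]
        refine eq_inv_of_mul_eq_one_left ?_
        rw [mul_assoc (u * y), huy]
      refine ⟨h.mem_H_of_conj_mem hg hy1 (hinv ▸ h.K.inv_mem hg), fun hK => ?_⟩
      obtain rfl := h.eq_t_of_mem_K hK h2
      have hyt := h.eq_t_of_mem_K (h.K.mul_mem hK hg) h3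
      exact hy1 (mul_eq_left.1 hyt)
    · rintro ⟨hH, hK⟩
      refine ⟨h.sq_of_mem_H hH hK, h.sq_of_mem_H (h.H.mul_mem hH (h.le_cent hg)) fun h1 => hK ?_⟩
      simpa using h.K.mul_mem h1 (h.K.inv_mem hg)
  let e : h.K → {u : G // orderOf u = 2 ∧ orderOf (u * y) = 2} := fun z =>
    ⟨h.s * z, (hmem _).2 ⟨h.H.mul_mem h.s_cent (h.le_cent z.2), fun h1 =>
      h.s_notMem (by simpa using h.K.mul_mem h1 (h.K.inv_mem z.2))⟩⟩
  refine (Nat.card_congr (Equiv.ofBijective e ⟨fun a b hab => ?_, fun u => ?_⟩)).symm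
  · exact Subtype.ext (mul_left_cancel (congrArg Subtype.val hab))
  · obtain ⟨hH, hK⟩ := (hmem _).1 u.2
    refine ⟨⟨_, (h.mem_H_cases hH).resolve_left hK⟩, Subtype.ext ?_⟩
    show h.s * (h.s * u.1) = u.1
    rw [← mul_assoc, h.s_mul_s, one_mul]

/-- Every ordered pair of involutions has one product. -/
theorem sum_pairCount : ∑ x : G, pairCount x = h.I * h.I := by
  classical
  have e : ∀ x : G, pairCount x = ((classSet h.t).filter fun u => u * x ∈ classSet h.t).card :=
    fun x => by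
      rw [pairCount, Nat.card_eq_fintype_card, Fintype.card_subtype]
      congr 1
      ext u
      simp [h.mem_classSet_t]
  simp only [e, Finset.card_filter]
  rw [Finset.sum_comm, Finset.sum_congr rfl (g := fun _ => h.I) fun u _ => ?_, Finset.sum_const,
    h.card_classSet_t, smul_eq_mul]
  rw [Finset.sum_boole]
  refine Eq.trans ?_ h.card_classSet_t
  rw [Nat.cast_id]
  exact Finset.card_bij (fun x _ => u * x) (fun x hx => (Finset.mem_filter.1 hx).2)
    (fun a _ b _ hab => mul_left_cancel hab)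
    (fun v hv => ⟨u⁻¹ * v, Finset.mem_filter.2 ⟨Finset.mem_univ _, by simpa using hv⟩, by simp⟩)

/-- The structure constants of the class of involutions. -/
theorem pairCount_eq_sum (x : G) :
    (Nat.card G : ℂ) * (pairCount x : ℂ) = (h.I : ℂ) * (h.I : ℂ) *
      ∑ χ : Cfsg.IrrCharacter G,
        (χ : G → ℂ) h.t * (χ : G → ℂ) h.t / (χ : G → ℂ) 1 * conj ((χ : G → ℂ) x) := by
  classical
  set C := classSet h.t with hC
  have h1 : ∑ p ∈ C ×ˢ C, (∑ χ : Cfsg.IrrCharacter G,
      (χ : G → ℂ) (p.1 * p.2) * conj ((χ : G → ℂ) x)) = (h.I : ℂ) * (h.I : ℂ) *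
      ∑ χ : Cfsg.IrrCharacter G,
        (χ : G → ℂ) h.t * (χ : G → ℂ) h.t / (χ : G → ℂ) 1 * conj ((χ : G → ℂ) x) := by
    rw [Finset.sum_comm, Finset.mul_sum]
    refine Finset.sum_congr rfl fun χ _ => ?_
    rw [← Finset.sum_mul, sum_pairs_char χ.2, h.card_classSet_t]
    ring
  rw [← h1, Finset.sum_congr rfl fun p _ => sum_irr_mul_conj (p.1 * p.2) x]
  simp only [Nat.card_eq_fintype_card, Fintype.card_subtype, Finset.card_filter]
  push_cast
  rw [Finset.sum_comm]
  have h2 : ∀ c : G, ∑ p ∈ C ×ˢ C, (if c * (p.1 * p.2) * c⁻¹ = x then (1 : ℂ) else 0) =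
      (pairCount x : ℂ) := by
    intro c
    rw [show pairCount x = pairCount (c⁻¹ * x * c) by
        conv_rhs => rw [show c⁻¹ * x * c = c⁻¹ * x * (c⁻¹)⁻¹ by rw [inv_inv], pairCount_conj],
      Finset.sum_boole, pairCount, Nat.card_eq_fintype_card, Fintype.card_subtype]
    congr 1
    refine Finset.card_bij (fun p _ => p.1) ?_ ?_ ?_
    · intro p hp
      obtain ⟨hpC, hpx⟩ := Finset.mem_filter.1 hp
      obtain ⟨hp1, hp2⟩ := Finset.mem_product.1 hpC
      rw [hC, h.mem_classSet_t] at hp1 hp2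
      refine Finset.mem_filter.2 ⟨Finset.mem_univ _, hp1, ?_⟩
      rw [show p.1 * (c⁻¹ * x * c) = p.2 from ?_]
      · exact hp2
      · rw [← hpx]
        calc p.1 * (c⁻¹ * (c * (p.1 * p.2) * c⁻¹) * c) = p.1 * p.1 * p.2 := by group
          _ = p.2 := by rw [(orderOf_two_iff.1 hp1).1, one_mul]
    · intro p hp q hq hpq
      obtain ⟨-, hpx⟩ := Finset.mem_filter.1 hp
      obtain ⟨-, hqx⟩ := Finset.mem_filter.1 hq
      have h3 := hpx.trans hqx.symm
      rw [hpq] at h3
      exact Prod.ext hpq (mul_left_cancel (mul_left_cancel (mul_right_cancel h3)))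
    · intro u hu
      obtain ⟨-, hu1, hu2⟩ := Finset.mem_filter.1 hu
      refine ⟨(u, u * (c⁻¹ * x * c)), Finset.mem_filter.2 ⟨Finset.mem_product.2
        ⟨h.mem_classSet_t.2 hu1, h.mem_classSet_t.2 hu2⟩, ?_⟩, rfl⟩
      calc c * (u * (u * (c⁻¹ * x * c))) * c⁻¹ = c * (u * u) * (c⁻¹ * x) := by group
        _ = x := by rw [(orderOf_two_iff.1 hu1).1]; group
  rw [Finset.sum_congr rfl fun c _ => h2 c, Finset.sum_const, Finset.card_univ, nsmul_eq_mul]

end Hyp

end CfsgLib.BSW
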