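import Cfsg.Agent.BSW.Real
import Mathlib.Algebra.BigOperators.Associated

/-!
# The case of a positive sign: `q = 2k + 1`
-/

set_option autoImplicit false
set_option linter.style.haveILetI false
set_option linter.unusedSectionVars false

namespace CfsgLib.BSW

universe u

variable {G : Type u} [Group G]

/-- The conclusion of the Brauer–Suzuki–Wall theorem. -/
def Conclusion (G : Type u) [Group G] : Prop :=
  ∃ Q D : Subgroup G, 2 * Nat.card G = Nat.card ↥Q * (Nat.card ↥Q + 1) * (Nat.card ↥Q - 1) ∧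
      (∀ x ∈ Q, x ≠ 1 → Subgroup.centralizer ({x} : Set G) = Q) ∧
      IsMulCommutative ↥D ∧ 2 * Nat.card ↥D + 1 = Nat.card ↥Q ∧ Q ⊓ D = ⊥ ∧
      Subgroup.normalizer (Q : Set G) = Q ⊔ D ∧
      ∀ X : Subgroup G, X ≤ D → X ≠ ⊥ →
        Subgroup.normalizer (X : Set G) = Subgroup.normalizer (D : Set G) ∧
        ∃ u : G, orderOf u = 2 ∧ u ∉ D ∧ (∀ d ∈ D, u * d * u⁻¹ = d⁻¹) ∧
          Subgroup.normalizer (D : Set G) = D ⊔ Subgroup.zpowers u

theorem map_conj_centralizer (g x : G) :
    (Subgroup.centralizer ({x} : Set G)).map (MulAut.conj g).toMonoidHom =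
      Subgroup.centralizer ({g * x * g⁻¹} : Set G) := by
  ext y
  constructor
  · rintro ⟨z, hz, rfl⟩
    simp only [MulEquiv.coe_toMonoidHom, MulAut.conj_apply]
    exact mem_centralizer_conj.2 hz
  · intro hy
    refine ⟨g⁻¹ * y * g, ?_, by simp [mul_assoc]⟩
    refine (mem_centralizer_conj (g := g)).1 ?_
    rwa [show g * (g⁻¹ * y * g) * g⁻¹ = y by group]

namespace Hyp

variable [Fintype G] (h : Hyp G)

open Classical in
/-- The possible orders of centralisers of strongly real elements. -/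
noncomputable def sizes : Finset ℕ :=
  (Finset.univ.filter h.StronglyReal).image fun x =>
    Nat.card (Subgroup.centralizer ({x} : Set G))

open Classical in
/-- The number of strongly real elements with centraliser of a given order. -/
noncomputable def fibre (m : ℕ) : ℕ :=
  ((Finset.univ.filter h.StronglyReal).filter fun x =>
    Nat.card (Subgroup.centralizer ({x} : Set G)) = m).card

theorem mem_sizes {m : ℕ} : m ∈ h.sizes ↔
    ∃ x, h.StronglyReal x ∧ Nat.card (Subgroup.centralizer ({x} : Set G)) = m := by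
  simp [sizes]

theorem one_lt_of_mem_sizes {m : ℕ} (hm : m ∈ h.sizes) : 1 < m := by
  obtain ⟨x, hx, rfl⟩ := h.mem_sizes.1 hm
  haveI : Nontrivial (Subgroup.centralizer ({x} : Set G)) :=
    ⟨⟨⟨x, Subgroup.mem_centralizer_singleton_iff.2 rfl⟩, 1, fun h1 => hx.1.1 (congrArg Subtype.val h1)⟩⟩
  exact Finite.one_lt_card

theorem fibre_spec {x : G} (hx : h.StronglyReal x) :
    ∃ e, 2 ∣ e ∧ e ∣ h.k ∧
      Nat.card (Subgroup.normalizer (Subgroup.centralizer ({x} : Set G) : Set G)) =
        Nat.card (Subgroup.centralizer ({x} : Set G)) * e ∧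
      h.fibre (Nat.card (Subgroup.centralizer ({x} : Set G))) *
          (Nat.card (Subgroup.centralizer ({x} : Set G)) * e) =
        h.I * (2 * h.k) * (Nat.card (Subgroup.centralizer ({x} : Set G)) - 1) := by
  classical
  obtain ⟨u, hu, hi⟩ := StronglyReal.exists_inverter h hx
  obtain ⟨huE, hcard, -, c, -, hcK⟩ := h.comp_spec hx hu hi
  refine ⟨Nat.card (comp x u), ?_, ?_, hcard, ?_⟩
  · exact hu ▸ Subgroup.orderOf_dvd_natCard _ huE
  · refine dvd_trans (dvd_of_eq ?_) (Subgroup.card_dvd_of_le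
      (show (comp x u).map (MulAut.conj c).toMonoidHom ≤ h.K by
        rintro _ ⟨w, hw, rfl⟩; exact hcK w hw))
    exact (Subgroup.card_map_of_injective (MulAut.conj c).injective).symm
  · have hf : h.fibre (Nat.card (Subgroup.centralizer ({x} : Set G))) =
        Nat.card {y : G // h.StronglyReal y ∧ Nat.card (Subgroup.centralizer ({y} : Set G)) =
          Nat.card (Subgroup.centralizer ({x} : Set G))} := by
      rw [fibre, Finset.filter_filter]
      exact ((Nat.card_eq_fintype_card).trans (Fintype.card_subtype _)).symm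
    rw [hf, h.card_fibre hx, ← h.card_G, ← hcard, mul_right_comm, Subgroup.index_mul_card]

theorem sum_fibre : ∑ m ∈ h.sizes, m * h.fibre m + h.I + h.I * (h.k - 1) * h.k = h.I * h.I := by
  classical
  rw [← h.sum_strongly_real]
  congr 2
  rw [← Finset.sum_fiberwise_of_maps_to (g := fun x => Nat.card (Subgroup.centralizer ({x} : Set G)))
    (t := h.sizes) (fun x hx => Finset.mem_image_of_mem _ hx)]
  refine Finset.sum_congr rfl fun m _ => ?_
  rw [Finset.sum_congr rfl (g := fun _ => m) fun x hx => (Finset.mem_filter.1 hx).2, Finset.sum_const,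
    smul_eq_mul, mul_comm, fibre]

theorem sizes_coprime {m m' : ℕ} (hm : m ∈ h.sizes) (hm' : m' ∈ h.sizes) (hne : m ≠ m') :
    Nat.Coprime m m' := by
  refine Nat.coprime_of_dvd fun r hr h1 h2 => hne ?_
  obtain ⟨x, hx, rfl⟩ := h.mem_sizes.1 hm
  obtain ⟨y, hy, rfl⟩ := h.mem_sizes.1 hm'
  obtain ⟨g, hg⟩ := h.exists_conj_of_common_prime hx hy hr h1 h2
  exact Nat.card_congr ((MulAut.conj g).toEquiv.subtypeEquiv hg)

/-- The normaliser of a nontrivial subgroup of `K` is `H`. -/
theorem normalizer_eq_H {X : Subgroup G} (hX : X ≤ h.K) (hX1 : X ≠ ⊥) :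
    Subgroup.normalizer (X : Set G) = h.H := by
  obtain ⟨x, hx, hx1⟩ : ∃ x ∈ X, x ≠ 1 := by
    by_contra hc
    push Not at hc
    exact hX1 ((Subgroup.eq_bot_iff_forall X).2 hc)
  refine le_antisymm (fun g hg =>
    h.mem_H_of_conj_mem (hX hx) hx1 (hX ((Subgroup.mem_normalizer_iff.1 hg x).1 hx))) fun g hg => ?_
  refine Subgroup.mem_normalizer_iff.2 fun w => ⟨fun hw => ?_, fun hw => ?_⟩
  · show g * w * g⁻¹ ∈ X
    rcases h.conj_of_mem_H hg (hX hw) with ⟨-, e⟩ | ⟨-, e⟩ <;> rw [e]
    · exact hw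
    · exact X.inv_mem hw
  · show w ∈ X
    have hw' : g * w * g⁻¹ ∈ X := hw
    rcases h.conj_of_mem_H (h.H.inv_mem hg) (hX hw') with ⟨-, e⟩ | ⟨-, e⟩ <;>
      rw [inv_inv, show g⁻¹ * (g * w * g⁻¹) * g = w by group] at e <;> rw [e]
    · exact hw'
    · exact X.inv_mem hw'

/-- The theorem when all outside elements are strongly real, `q = 2 k + 1`. -/
theorem conclusion_plus (hI : h.I = (2 * h.k + 1) * (h.k + 1))
    (hall : ∀ x, h.Outside x → h.StronglyReal x ∧
      ∃ j, Nat.card (Subgroup.centralizer ({x} : Set G)) = j * h.k + 1) : Conclusion G := by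
  classical
  have hk2 := h.two_le_k
  have hcopk : Nat.Coprime h.I h.k := by
    rw [hI, show (2 * h.k + 1) * (h.k + 1) = 1 + h.k * (2 * h.k + 3) by ring,
      Nat.coprime_add_mul_left_left]
    exact Nat.coprime_one_left _
  -- the sizes multiply to `I`
  have hdvd : ∏ m ∈ h.sizes, m ∣ h.I := by
    refine Finset.prod_dvd_of_isRelPrime (fun a ha b hb hab => ?_) fun m hm => ?_
    · exact Nat.coprime_iff_isRelPrime.1 (h.sizes_coprime ha hb hab)
    · obtain ⟨x, hx, rfl⟩ := h.mem_sizes.1 hm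
      exact h.card_dvd_I hx
  have hprime : ∀ r, r.Prime → r ∣ h.I → ∃ m ∈ h.sizes, r ∣ m := by
    intro r hr hrI
    haveI := Fact.mk hr
    obtain ⟨y, hy⟩ := exists_prime_orderOf_dvd_card' r (h.card_G ▸ hrI.mul_right _)
    have hout : h.Outside y := by
      refine ⟨fun h1 => by rw [h1, orderOf_one] at hy; exact hr.one_lt.ne hy, fun hK => ?_⟩
      obtain ⟨-, g, hg⟩ := hK
      have : r ∣ h.k := by
        rw [← hy, ← (MulAut.conj g).orderOf_eq y]
        exact Subgroup.orderOf_dvd_natCard _ hg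
      exact hr.not_dvd_one (hcopk ▸ Nat.dvd_gcd hrI this)
    refine ⟨_, h.mem_sizes.2 ⟨y, (hall y hout).1, rfl⟩, ?_⟩
    exact hy ▸ Subgroup.orderOf_dvd_natCard _ (Subgroup.mem_centralizer_singleton_iff.2 rfl)
  have hprod : ∏ m ∈ h.sizes, m = h.I := by
    obtain ⟨c, hc⟩ := hdvd
    by_contra hne
    obtain ⟨r, hr, hrc⟩ := Nat.exists_prime_and_dvd (show c ≠ 1 from fun h1 => hne (by simp [hc, h1]))
    obtain ⟨m, hm, hrm⟩ := hprime r hr (hc ▸ hrc.mul_left _)
    obtain ⟨x, hx, rfl⟩ := h.mem_sizes.1 hm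
    refine h.not_dvd_index hx hr hrm ?_
    have hrest : ∏ m ∈ h.sizes, m = Nat.card (Subgroup.centralizer ({x} : Set G)) *
        ∏ m ∈ h.sizes.erase (Nat.card (Subgroup.centralizer ({x} : Set G))), m :=
      (Finset.mul_prod_erase _ (fun m => m) hm).symm
    have h1 := Subgroup.index_mul_card (Subgroup.centralizer ({x} : Set G))
    rw [h.card_G, hc, hrest] at h1
    have h2 : (Subgroup.centralizer ({x} : Set G)).index =
        (∏ m ∈ h.sizes.erase (Nat.card (Subgroup.centralizer ({x} : Set G))), m) * c * (2 * h.k) := by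
      refine Nat.eq_of_mul_eq_mul_right Nat.card_pos (h1.trans ?_)
      ring
    rw [h2]
    exact (hrc.mul_left _).mul_right _
  have hform : ∀ m ∈ h.sizes, ∃ j, 1 ≤ j ∧ m = j * h.k + 1 := by
    intro m hm
    obtain ⟨x, hx, rfl⟩ := h.mem_sizes.1 hm
    obtain ⟨j, hj⟩ := (hall x hx.1).2
    refine ⟨j, ?_, hj⟩
    by_contra h0
    have := h.one_lt_of_mem_sizes hm
    rw [hj, show j = 0 by omega] at this
    omega
  -- counting the outside elements
  have hSR : Finset.univ.filter h.StronglyReal = Finset.univ.filter h.Outside := by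
    ext x
    simp only [Finset.mem_filter, Finset.mem_univ, true_and]
    exact ⟨fun hx => hx.1, fun hx => (hall x hx).1⟩
  have hcount : ∑ m ∈ h.sizes, h.fibre m + 1 + h.I * (h.k - 1) = h.I * (2 * h.k) := by
    rw [← h.card_outside, ← hSR,
      Finset.card_eq_sum_card_fiberwise (f := fun x => Nat.card (Subgroup.centralizer ({x} : Set G)))
        (t := h.sizes) (fun x hx => Finset.mem_image_of_mem _ hx)]
    rfl
  have hpairs := h.sum_fibre
  have hI2 : 3 < h.I := by rw [hI]; nlinarith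
  have hcard2 : h.sizes.card = 2 := by
    have hle : h.sizes.card ≤ 2 := by
      by_contra hc
      obtain ⟨T, hT, hT3⟩ := Finset.exists_subset_card_eq (show 3 ≤ h.sizes.card by omega)
      have h1 : (h.k + 1) ^ 3 ≤ ∏ m ∈ T, m := by
        rw [← hT3]
        refine Finset.pow_card_le_prod _ _ _ fun m hm => ?_
        obtain ⟨j, hj, rfl⟩ := hform m (hT hm)
        nlinarith
      have h2 : ∏ m ∈ T, m ≤ h.I := hprod ▸ Finset.prod_le_prod_of_subset_of_one_le' hT
        (fun m hm _ => (h.one_lt_of_mem_sizes hm).le)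
      rw [hI] at h2
      nlinarith
    rcases Nat.lt_or_ge h.sizes.card 2 with h1 | h1
    swap
    · omega
    exfalso
    rcases Nat.lt_or_ge h.sizes.card 1 with h0 | h0
    · rw [Finset.card_eq_zero.1 (show h.sizes.card = 0 by omega), Finset.prod_empty] at hprod
      omega
    · obtain ⟨m, hm⟩ := Finset.card_eq_one.1 (show h.sizes.card = 1 by omega)
      rw [hm, Finset.prod_singleton] at hprod
      rw [hm, Finset.sum_singleton] at hcount
      obtain ⟨x, hx, hxm⟩ := h.mem_sizes.1 (show m ∈ h.sizes by rw [hm]; simp)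
      obtain ⟨e, he2, hek, -, hf⟩ := h.fibre_spec hx
      rw [hxm, hprod] at hf
      rw [hprod] at hcount
      have he : 2 ≤ e := Nat.le_of_dvd (Nat.pos_of_dvd_of_pos hek h.k_pos) he2
      have hf' : h.fibre h.I * e = 2 * h.k * (h.I - 1) := by
        refine Nat.eq_of_mul_eq_mul_left h.I_pos ?_
        calc h.I * (h.fibre h.I * e) = h.fibre h.I * (h.I * e) := by ring
          _ = _ := by rw [hf]; ring
      obtain ⟨k', hk'⟩ : ∃ k', h.k = k' + 1 := ⟨h.k - 1, by omega⟩
      obtain ⟨I', hI'⟩ : ∃ I', h.I = I' + 1 := ⟨h.I - 1, by omega⟩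
      rw [hk', hI', Nat.add_sub_cancel] at hcount
      rw [hI', Nat.add_sub_cancel, hk'] at hf'
      have h8 := Nat.mul_le_mul_left (h.fibre (I' + 1)) he
      nlinarith
  obtain ⟨a, b, hab, hs⟩ := Finset.card_eq_two.1 hcard2
  rw [hs, Finset.prod_pair hab] at hprod
  rw [hs, Finset.sum_pair hab] at hcount hpairs
  obtain ⟨i, hi, ha⟩ := hform a (by rw [hs]; simp)
  obtain ⟨j, hj, hb⟩ := hform b (by rw [hs]; simp)
  have hij : (i = 1 ∧ j = 2) ∨ (i = 2 ∧ j = 1) := by
    have h1 : i * j * h.k + (i + j) = 2 * h.k + 3 := by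
      refine Nat.eq_of_mul_eq_mul_left h.k_pos ?_
      rw [ha, hb, hI] at hprod
      nlinarith
    have h2 : i * j ≤ 2 := by
      by_contra hc
      have := Nat.mul_le_mul_right h.k (show 3 ≤ i * j by omega)
      omega
    have h3 : i ≤ 2 := le_trans (Nat.le_mul_of_pos_right i hj) h2
    have h4 : j ≤ 2 := le_trans (Nat.le_mul_of_pos_left j hi) h2
    interval_cases i <;> interval_cases j <;> omega
  have hmain : ∀ a b : ℕ, a = h.k + 1 → b = 2 * h.k + 1 → b ∈ h.sizes →
      h.fibre a + h.fibre b + 1 + h.I * (h.k - 1) = h.I * (2 * h.k) →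
      a * h.fibre a + b * h.fibre b + h.I + h.I * (h.k - 1) * h.k = h.I * h.I → Conclusion G := by
    intro a b ha hb hmem hc hp
    obtain ⟨x, hx, hxb⟩ := h.mem_sizes.1 hmem
    obtain ⟨e, he2, hek, hN, hf⟩ := h.fibre_spec hx
    obtain ⟨k', hk'⟩ : ∃ k', h.k = k' + 1 := ⟨h.k - 1, by omega⟩
    have hF : h.fibre b = 4 * h.k * (h.k + 1) := by
      have hc' : (h.fibre a : ℤ) + h.fibre b + 1 + h.I * k' = h.I * (2 * (k' + 1)) := by
        have : h.fibre a + h.fibre b + 1 + h.I * k' = h.I * (2 * (k' + 1)) := by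
          rw [hk', Nat.add_sub_cancel] at hc; exact hc
        exact_mod_cast this
      have hp' : (a : ℤ) * h.fibre a + b * h.fibre b + h.I + h.I * k' * (k' + 1) = h.I * h.I := by
        have : a * h.fibre a + b * h.fibre b + h.I + h.I * k' * (k' + 1) = h.I * h.I := by
          rw [hk', Nat.add_sub_cancel] at hp; exact hp
        exact_mod_cast this
      have hI' : (h.I : ℤ) = (2 * (k' + 1) + 1) * (k' + 1 + 1) := by rw [hI, hk']; push_cast; ring
      rw [ha, hb, hk'] at hp'
      push_cast at hp'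
      rw [hI'] at hc' hp'
      rw [ha, hb, hk'] at hc'
      rw [hb, hk']
      apply Int.natCast_inj.1
      push_cast
      have hne : ((k' : ℤ) + 1) ≠ 0 := by positivity
      refine mul_left_cancel₀ hne ?_
      linear_combination hp' - ((k' : ℤ) + 1 + 1) * hc'
    have he : e = h.k := by
      rw [hxb, hF, hb, hI, show 2 * h.k + 1 - 1 = 2 * h.k by omega] at hf
      refine Nat.eq_of_mul_eq_mul_left (show 0 < 4 * h.k * (h.k + 1) * (2 * h.k + 1) by positivity) ?_
      calc 4 * h.k * (h.k + 1) * (2 * h.k + 1) * e = 4 * h.k * (h.k + 1) * ((2 * h.k + 1) * e) := by ring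
        _ = _ := by rw [hf]; ring
    obtain ⟨u, hu, hi'⟩ := StronglyReal.exists_inverter h hx
    obtain ⟨-, hcardN, hsup, c, -, hcK⟩ := h.comp_spec hx hu hi'
    have hEcard : Nat.card (comp x u) = h.k := by
      rw [hN, he] at hcardN
      exact (Nat.eq_of_mul_eq_mul_left Nat.card_pos hcardN).symm
    have hEK : (comp x u).map (MulAut.conj c).toMonoidHom = h.K := by
      refine Subgroup.eq_of_le_of_card_ge (by rintro _ ⟨w, hw, rfl⟩; exact hcK w hw) (le_of_eq ?_)
      exact (hEcard.symm.trans (Subgroup.card_map_of_injective (MulAut.conj c).injective).symm)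
    have hy := StronglyReal.conj h hx c
    have hQ : Nat.card (Subgroup.centralizer ({c * x * c⁻¹} : Set G)) = 2 * h.k + 1 := by
      rw [card_centralizer_conj, hxb, hb]
    refine ⟨Subgroup.centralizer ({c * x * c⁻¹} : Set G), h.K, ?_, fun z hz hz1 => (h.cent_eq hy hz hz1).2,
      ⟨⟨fun a b => Subtype.ext (h.comm _ a.2 _ b.2)⟩⟩, hQ.symm, ?_, ?_, fun X hX hX1 => ?_⟩
    · rw [hQ, h.card_G, hI, show 2 * h.k + 1 - 1 = 2 * h.k by omega]; ring
    · refine (Subgroup.eq_bot_iff_forall _).2 fun z hz => ?_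
      obtain ⟨hzQ, hzK⟩ := Subgroup.mem_inf.1 hz
      by_contra hz1
      exact (h.cent_eq hy hzQ hz1).1.1.2 ⟨hz1, 1, by simpa using hzK⟩
    · have h1 := congrArg (Subgroup.map (MulAut.conj c).toMonoidHom) hsup
      rw [Subgroup.map_sup, hEK, Subgroup.map_equiv_normalizer_eq, map_conj_centralizer] at h1
      exact h1.symm
    · refine ⟨(h.normalizer_eq_H hX hX1).trans (h.normalizer_eq_H le_rfl fun h0 => hX1 ?_).symm,
        h.s, h.hs, h.s_notMem, h.inverts, ?_⟩
      · exact le_bot_iff.1 (h0 ▸ hX)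
      · rw [h.normalizer_eq_H le_rfl fun h0 => hX1 (le_bot_iff.1 (h0 ▸ hX))]
        exact h.sup_eq.symm
  rcases hij with ⟨rfl, rfl⟩ | ⟨rfl, rfl⟩
  · exact hmain a b (by omega) hb (by rw [hs]; simp) hcount hpairs
  · exact hmain b a (by omega) ha (by rw [hs]; simp) (by omega) (by linarith)

end Hyp

end CfsgLib.BSW
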