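import Cfsg.Agent.BSW.Pairs
import Mathlib.GroupTheory.Sylow

/-!
# Strongly real elements outside the conjugates of `K`
-/

set_option autoImplicit false
set_option linter.style.haveILetI false
set_option linter.unusedSectionVars false

namespace CfsgLib.BSW

universe u

variable {G : Type u} [Group G]

theorem mem_centralizer_conj {g x y : G} :
    g * y * g⁻¹ ∈ Subgroup.centralizer ({g * x * g⁻¹} : Set G) ↔
      y ∈ Subgroup.centralizer ({x} : Set G) := by
  rw [Subgroup.mem_centralizer_singleton_iff, Subgroup.mem_centralizer_singleton_iff]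
  rw [show g * y * g⁻¹ * (g * x * g⁻¹) = g * (y * x) * g⁻¹ by group,
    show g * x * g⁻¹ * (g * y * g⁻¹) = g * (x * y) * g⁻¹ by group,
    mul_left_inj, mul_right_inj]

theorem card_centralizer_conj (g x : G) :
    Nat.card (Subgroup.centralizer ({g * x * g⁻¹} : Set G)) =
      Nat.card (Subgroup.centralizer ({x} : Set G)) := by
  refine (Nat.card_congr ((MulAut.conj g).toEquiv.subtypeEquiv fun y => ?_)).symm
  exact (mem_centralizer_conj (g := g) (x := x) (y := y)).symm

/-- If a prime does not divide the index of `B`, every element of that prime power order is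
conjugate into `B`. -/
theorem exists_conj_mem_of_index [Finite G] (B : Subgroup G) {r : ℕ} (hr : r.Prime)
    (hB : ¬ r ∣ B.index) {y : G} (hy : orderOf y = r) : ∃ g : G, g * y * g⁻¹ ∈ B := by
  haveI := Fact.mk hr
  obtain ⟨P, hP⟩ := (IsPGroup.of_card (n := 1) (by rw [Nat.card_zpowers, hy, pow_one]) :
    IsPGroup r (Subgroup.zpowers y)).exists_le_sylow
  let R : Sylow r B := default
  let R' : Subgroup G := (R : Subgroup B).map B.subtype
  have hRB : R' ≤ B := Subgroup.map_subtype_le _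
  have hRp : IsPGroup r R' := R.2.map _
  obtain ⟨S, hS⟩ := hRp.exists_le_sylow
  have hidx : ¬ r ∣ R'.index := by
    rw [show R'.index = (R : Subgroup B).index * B.index from Subgroup.index_map_subtype _]
    intro h
    rcases hr.dvd_mul.1 h with h' | h'
    · exact R.not_dvd_index' Subgroup.index_ne_zero_of_finite h'
    · exact hB h'
  have hSR : (S : Subgroup G) = R' := by
    refine le_antisymm ?_ hS
    refine Subgroup.relIndex_eq_one.1 ?_
    have h1 := Subgroup.relIndex_mul_index hS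
    obtain ⟨n, hn⟩ := IsPGroup.iff_card.1 S.2
    have h2 : R'.relIndex (S : Subgroup G) ∣ r ^ n := hn ▸ Subgroup.relIndex_dvd_card _ _
    obtain ⟨i, -, hi⟩ := (Nat.dvd_prime_pow hr).1 h2
    rcases Nat.eq_zero_or_pos i with rfl | hipos
    · simpa using hi
    · exact absurd ((dvd_pow_self r hipos.ne').trans (hi ▸ h1 ▸ dvd_mul_right _ _)) hidx
  obtain ⟨g, hg⟩ := MulAction.exists_smul_eq G P S
  refine ⟨g, hRB (hSR ▸ ?_)⟩
  rw [← hg]
  exact ⟨y, hP (Subgroup.mem_zpowers y), rfl⟩

namespace Hyp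

variable [Fintype G] (h : Hyp G)

/-- Nontrivial and not conjugate into `K`. -/
def Outside (x : G) : Prop := x ≠ 1 ∧ ¬ h.InK x

/-- Outside and a product of two involutions. -/
def StronglyReal (x : G) : Prop := h.Outside x ∧ pairCount x ≠ 0

theorem Outside.conj {x : G} (hx : h.Outside x) (g : G) : h.Outside (g * x * g⁻¹) :=
  ⟨fun h1 => hx.1 (conj_eq_one_iff.1 h1), fun h1 => hx.2 (by
    have := InK.conj h h1 g⁻¹
    rwa [show g⁻¹ * (g * x * g⁻¹) * g⁻¹⁻¹ = x by group] at this)⟩

theorem StronglyReal.conj {x : G} (hx : h.StronglyReal x) (g : G) :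
    h.StronglyReal (g * x * g⁻¹) :=
  ⟨Outside.conj h hx.1 g, by rw [pairCount_conj]; exact hx.2⟩

theorem no_involution_commutes {x : G} (hx : h.Outside x) {u : G} (hu : orderOf u = 2)
    (hc : u * x = x * u) : False := by
  obtain ⟨c, hc'⟩ := isConj_iff.1 (h.conj u h.t hu h.ht)
  have hmem : c * x * c⁻¹ ∈ h.H := by
    rw [Hyp.H, ← hc', mem_centralizer_conj, Subgroup.mem_centralizer_singleton_iff]
    exact hc.symm
  by_cases hK : c * x * c⁻¹ ∈ h.K
  · exact hx.2 ⟨hx.1, c, hK⟩
  · exact (Outside.conj h hx c).2 (h.inK_of_orderOf_two (h.sq_of_mem_H hmem hK))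

theorem odd_card_cent {x : G} (hx : h.Outside x) :
    Odd (Nat.card (Subgroup.centralizer ({x} : Set G))) := by
  haveI : Fact (Nat.Prime 2) := ⟨Nat.prime_two⟩
  rw [← Nat.not_even_iff_odd, even_iff_two_dvd]
  intro h2
  obtain ⟨u, hu⟩ := exists_prime_orderOf_dvd_card' 2 h2
  exact h.no_involution_commutes hx (u := (u : G)) (by rw [Subgroup.orderOf_coe, hu])
    (Subgroup.mem_centralizer_singleton_iff.1 u.2)

theorem Outside.mul_self_ne {x : G} (hx : h.Outside x) : x * x ≠ 1 := fun h1 =>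
  hx.2 (h.inK_of_orderOf_two (orderOf_two_iff.2 ⟨h1, hx.1⟩))

theorem outside_of_commute {x y : G} (hx : h.Outside x) (hy1 : y ≠ 1)
    (hc : y * x = x * y) : h.Outside y := by
  refine ⟨hy1, fun hy => ?_⟩
  obtain ⟨-, g, hg⟩ := hy
  have hmem : g * x * g⁻¹ ∈ Subgroup.centralizer ({g * y * g⁻¹} : Set G) :=
    mem_centralizer_conj.2 (Subgroup.mem_centralizer_singleton_iff.2 hc.symm)
  have hH := h.cent_le_H hg (fun h1 => hy1 (conj_eq_one_iff.1 h1)) hmem
  by_cases hK : g * x * g⁻¹ ∈ h.K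
  · exact hx.2 ⟨hx.1, g, hK⟩
  · exact (Outside.conj h hx g).2 (h.inK_of_orderOf_two (h.sq_of_mem_H hH hK))

theorem pair_iff {x u : G} (hx : h.Outside x) :
    (orderOf u = 2 ∧ orderOf (u * x) = 2) ↔ orderOf u = 2 ∧ u * x * u = x⁻¹ := by
  refine and_congr_right fun hu => ?_
  obtain ⟨huu, hu1⟩ := orderOf_two_iff.1 hu
  rw [orderOf_two_iff, mul_eq_one_iff_eq_inv (a := u * x * u) |>.symm, ← mul_assoc]
  refine ⟨fun hh => hh.1, fun hh => ⟨hh, fun h1 => hx.2 (h.inK_of_orderOf_two ?_)⟩⟩
  rw [show x = u from (inv_eq_of_mul_eq_one_right h1).symm.trans (inv_eq_of_mul_eq_one_right huu)]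
  exact hu

theorem StronglyReal.exists_inverter {x : G} (hx : h.StronglyReal x) :
    ∃ u, orderOf u = 2 ∧ u * x * u = x⁻¹ := by
  obtain ⟨u, hu⟩ := (Nat.card_ne_zero.1 hx.2).1
  exact ⟨u, (h.pair_iff hx.1).1 hu⟩

theorem stronglyReal_of_inverter {x u : G} (hx : h.Outside x) (hu : orderOf u = 2)
    (hi : u * x * u = x⁻¹) : h.StronglyReal x :=
  ⟨hx, Nat.card_ne_zero.2 ⟨⟨⟨u, (h.pair_iff hx).2 ⟨hu, hi⟩⟩⟩, inferInstance⟩⟩

/-- An inverting involution inverts the whole centraliser. -/
theorem inverts_cent {x u : G} (hx : h.Outside x) (hu : orderOf u = 2) (hi : u * x * u = x⁻¹)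
    {z : G} (hz : z ∈ Subgroup.centralizer ({x} : Set G)) : u * z * u = z⁻¹ := by
  obtain ⟨huu, hu1⟩ := orderOf_two_iff.1 hu
  have hstab : ∀ y ∈ Subgroup.centralizer ({x} : Set G),
      u * y * u ∈ Subgroup.centralizer ({x} : Set G) := by
    intro y hy
    rw [Subgroup.mem_centralizer_singleton_iff] at hy ⊢
    have hy' : y * x⁻¹ = x⁻¹ * y := (show Commute y x from hy).inv_right
    have hxu : x * u = u * x⁻¹ := by
      rw [← hi, ← mul_assoc, ← mul_assoc, huu, one_mul]
    have hxu' : u * x = x⁻¹ * u := by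
      rw [← hi, mul_assoc, huu, mul_one]
    calc u * y * u * x = u * y * (u * x) := by group
      _ = u * (y * x⁻¹) * u := by rw [hxu']; group
      _ = u * x⁻¹ * y * u := by rw [hy']; group
      _ = x * u * y * u := by rw [hxu]
      _ = x * (u * y * u) := by group
  let f : Subgroup.centralizer ({x} : Set G) → Subgroup.centralizer ({x} : Set G) := fun y =>
    ⟨(y : G)⁻¹ * (u * y * u), Subgroup.mul_mem _ (Subgroup.inv_mem _ y.2) (hstab _ y.2)⟩
  have hinj : Function.Injective f := by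
    intro a b hab
    have h1 : (a : G)⁻¹ * (u * a * u) = (b : G)⁻¹ * (u * b * u) := congrArg Subtype.val hab
    refine Subtype.ext ?_
    by_contra hne
    have hy1 : (b : G) * (a : G)⁻¹ ≠ 1 := fun h2 => hne (mul_inv_eq_one.1 h2).symm
    have hyc := (Subgroup.centralizer ({x} : Set G)).mul_mem b.2
      ((Subgroup.centralizer ({x} : Set G)).inv_mem a.2)
    refine h.no_involution_commutes (h.outside_of_commute hx hy1
      (Subgroup.mem_centralizer_singleton_iff.1 hyc)) hu ?_
    calc u * ((b : G) * (a : G)⁻¹) = u * b * u * (u⁻¹ * (a : G)⁻¹) := by group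
      _ = b * ((b : G)⁻¹ * (u * b * u)) * (u⁻¹ * (a : G)⁻¹) := by group
      _ = b * ((a : G)⁻¹ * (u * a * u)) * (u⁻¹ * (a : G)⁻¹) := by rw [h1]
      _ = (b : G) * (a : G)⁻¹ * u := by group
  obtain ⟨y, hy⟩ := (Finite.injective_iff_surjective.1 hinj) ⟨z, hz⟩
  have h1 : (y : G)⁻¹ * (u * y * u) = z := congrArg Subtype.val hy
  rw [← h1]
  calc u * ((y : G)⁻¹ * (u * y * u)) * u = u * (y : G)⁻¹ * u * y * (u * u) := by group
    _ = u * (y : G)⁻¹ * u * y := by rw [huu, mul_one]
    _ = ((y : G)⁻¹ * (u⁻¹ * y * u⁻¹))⁻¹ := by group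
    _ = _ := by rw [inv_eq_of_mul_eq_one_right huu]

theorem cent_comm {x : G} (hx : h.StronglyReal x) {a b : G}
    (ha : a ∈ Subgroup.centralizer ({x} : Set G)) (hb : b ∈ Subgroup.centralizer ({x} : Set G)) :
    a * b = b * a := by
  obtain ⟨u, hu, hi⟩ := StronglyReal.exists_inverter h hx
  obtain ⟨huu, -⟩ := orderOf_two_iff.1 hu
  have e := h.inverts_cent hx.1 hu hi (Subgroup.mul_mem _ ha hb)
  have : u * (a * b) * u = (u * a * u) * (u * b * u) := by
    rw [mul_assoc (u * a) u, ← mul_assoc u (u * b) u, ← mul_assoc u u b, huu, one_mul]; group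
  rw [this, h.inverts_cent hx.1 hu hi ha, h.inverts_cent hx.1 hu hi hb, ← mul_inv_rev, inv_inj] at e
  exact e.symm

/-- The centralisers of strongly real elements are centralisers of each of their elements. -/
theorem cent_eq {x y : G} (hx : h.StronglyReal x) (hy : y ∈ Subgroup.centralizer ({x} : Set G))
    (hy1 : y ≠ 1) :
    h.StronglyReal y ∧
      Subgroup.centralizer ({y} : Set G) = Subgroup.centralizer ({x} : Set G) := by
  obtain ⟨u, hu, hi⟩ := StronglyReal.exists_inverter h hx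
  have hyo := h.outside_of_commute hx.1 hy1 (Subgroup.mem_centralizer_singleton_iff.1 hy)
  have hys := h.stronglyReal_of_inverter hyo hu (h.inverts_cent hx.1 hu hi hy)
  refine ⟨hys, le_antisymm (fun w hw => ?_) fun w hw => ?_⟩
  · exact Subgroup.mem_centralizer_singleton_iff.2 (h.cent_comm hys hw
      (Subgroup.mem_centralizer_singleton_iff.2 (Subgroup.mem_centralizer_singleton_iff.1 hy).symm))
  · exact Subgroup.mem_centralizer_singleton_iff.2 (h.cent_comm hx hw hy)

theorem pairCount_eq_card {x : G} (hx : h.StronglyReal x) :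
    pairCount x = Nat.card (Subgroup.centralizer ({x} : Set G)) := by
  obtain ⟨u, hu, hi⟩ := StronglyReal.exists_inverter h hx
  obtain ⟨huu, -⟩ := orderOf_two_iff.1 hu
  have hmem : ∀ a, a ∈ Subgroup.centralizer ({x} : Set G) →
      orderOf (u * a) = 2 ∧ orderOf (u * a * x) = 2 := by
    intro a ha
    refine (h.pair_iff hx.1).2 ⟨orderOf_two_iff.2 ⟨?_, fun h1 => ?_⟩, ?_⟩
    · rw [← mul_assoc, h.inverts_cent hx.1 hu hi ha, inv_mul_cancel]
    · have h2 : a = u⁻¹ := (inv_eq_of_mul_eq_one_right h1).symm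
      refine h.no_involution_commutes hx.1 (u := a) ?_ (Subgroup.mem_centralizer_singleton_iff.1 ha)
      rw [h2, orderOf_inv, hu]
    · calc u * a * x * (u * a) = u * (a * x) * u * a := by group
        _ = (a * x)⁻¹ * a := by
          rw [h.inverts_cent hx.1 hu hi (Subgroup.mul_mem _ ha
            (Subgroup.mem_centralizer_singleton_iff.2 rfl))]
        _ = x⁻¹ := by group
  let e : Subgroup.centralizer ({x} : Set G) → {w : G // orderOf w = 2 ∧ orderOf (w * x) = 2} :=
    fun a => ⟨u * a, hmem a a.2⟩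
  refine (Nat.card_congr (Equiv.ofBijective e ⟨fun a b hab => ?_, fun w => ?_⟩)).symm
  · exact Subtype.ext (mul_left_cancel (congrArg Subtype.val hab))
  · obtain ⟨v, hv⟩ := w
    obtain ⟨hvo, hvi⟩ := (h.pair_iff hx.1).1 hv
    obtain ⟨hvv, -⟩ := orderOf_two_iff.1 hvo
    refine ⟨⟨u * v, Subgroup.mem_centralizer_singleton_iff.2 ?_⟩, Subtype.ext ?_⟩
    · have hi' : u * x = x⁻¹ * u := by rw [← hi, mul_assoc, huu, mul_one]
      have hvi' : v * x⁻¹ = x * v := by rw [← hvi, ← mul_assoc, ← mul_assoc, hvv, one_mul]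
      have hvi'' : v * x = x⁻¹ * v := by rw [← hvi, mul_assoc, hvv, mul_one]
      have hi'' : u * x⁻¹ = x * u := by rw [← hi, ← mul_assoc, ← mul_assoc, huu, one_mul]
      calc u * v * x = u * (v * x) := by group
        _ = u * x⁻¹ * v := by rw [hvi'']; group
        _ = x * (u * v) := by rw [hi'']; group
    · show u * (u * v) = v
      rw [← mul_assoc, huu, one_mul]

/-- The centraliser is a Hall subgroup. -/
theorem not_dvd_index {x : G} (hx : h.StronglyReal x) {r : ℕ} (hr : r.Prime)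
    (hd : r ∣ Nat.card (Subgroup.centralizer ({x} : Set G))) :
    ¬ r ∣ (Subgroup.centralizer ({x} : Set G)).index := by
  haveI := Fact.mk hr
  obtain ⟨y, hy⟩ := exists_prime_orderOf_dvd_card' r hd
  have hy' : orderOf (y : G) = r := by rw [Subgroup.orderOf_coe, hy]
  obtain ⟨P, hP⟩ := (IsPGroup.of_card (n := 1) (by rw [Nat.card_zpowers, hy', pow_one]) :
    IsPGroup r (Subgroup.zpowers (y : G))).exists_le_sylow
  have hyP := hP (Subgroup.mem_zpowers _)
  haveI : Nontrivial (P : Subgroup G) :=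
    (P : Subgroup G).nontrivial_iff_ne_bot.2 (P.ne_bot_of_dvd_card (hd.trans (Subgroup.card_subgroup_dvd_card _)))
  haveI := P.2.center_nontrivial
  obtain ⟨z, hz⟩ := exists_ne (1 : Subgroup.center (P : Subgroup G))
  have hzc : ∀ w ∈ (P : Subgroup G), w * ((z : (P : Subgroup G)) : G) =
      ((z : (P : Subgroup G)) : G) * w :=
    fun w hw => congrArg Subtype.val (Subgroup.mem_center_iff.1 z.2 ⟨w, hw⟩)
  have hz1 : ((z : (P : Subgroup G)) : G) ≠ 1 := fun h1 => hz (Subtype.ext (Subtype.ext h1))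
  have hy1 : (y : G) ≠ 1 := fun h1 => by rw [h1, orderOf_one] at hy'; exact hr.one_lt.ne hy'
  obtain ⟨-, hCy⟩ := h.cent_eq hx y.2 hy1
  have hzA : ((z : (P : Subgroup G)) : G) ∈ Subgroup.centralizer ({x} : Set G) := by
    rw [← hCy, Subgroup.mem_centralizer_singleton_iff]
    exact (hzc _ hyP).symm
  obtain ⟨-, hCz⟩ := h.cent_eq hx hzA hz1
  intro hd'
  refine P.not_dvd_index' Subgroup.index_ne_zero_of_finite
    (hd'.trans (Subgroup.index_dvd_of_le (fun w hw => ?_)))
  rw [← hCz, Subgroup.mem_centralizer_singleton_iff]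
  exact hzc w hw

/-- Two such centralisers with a common prime are conjugate. -/
theorem exists_conj_of_common_prime {x y : G} (hx : h.StronglyReal x) (hy : h.StronglyReal y)
    {r : ℕ} (hr : r.Prime) (hrx : r ∣ Nat.card (Subgroup.centralizer ({x} : Set G)))
    (hry : r ∣ Nat.card (Subgroup.centralizer ({y} : Set G))) :
    ∃ g : G, ∀ w, w ∈ Subgroup.centralizer ({x} : Set G) ↔
      g * w * g⁻¹ ∈ Subgroup.centralizer ({y} : Set G) := by
  haveI := Fact.mk hr
  obtain ⟨a, ha⟩ := exists_prime_orderOf_dvd_card' r hrx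
  have ha' : orderOf (a : G) = r := by rw [Subgroup.orderOf_coe, ha]
  obtain ⟨g, hg⟩ := exists_conj_mem_of_index _ hr (h.not_dvd_index hy hr hry) ha'
  have ha1 : (a : G) ≠ 1 := fun h1 => by rw [h1, orderOf_one] at ha'; exact hr.one_lt.ne ha'
  obtain ⟨-, hCa⟩ := h.cent_eq hx a.2 ha1
  obtain ⟨-, hCb⟩ := h.cent_eq hy hg fun h1 => ha1 (conj_eq_one_iff.1 h1)
  exact ⟨g, fun w => by rw [← hCa, ← hCb, mem_centralizer_conj]⟩

theorem coprime_two_k {x : G} (hx : h.StronglyReal x) :
    Nat.Coprime (Nat.card (Subgroup.centralizer ({x} : Set G))) (2 * h.k) := by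
  refine Nat.coprime_of_dvd fun r hr hrA hrk => ?_
  haveI := Fact.mk hr
  have hrk' : r ∣ h.k := (hr.dvd_mul.1 hrk).elim (fun h2 => h2.trans h.two_dvd_k) id
  obtain ⟨w, hw⟩ := exists_prime_orderOf_dvd_card' r hrk'
  have hw' : orderOf (w : G) = r := by rw [Subgroup.orderOf_coe, hw]
  obtain ⟨g, hg⟩ := exists_conj_mem_of_index _ hr (h.not_dvd_index hx hr hrA) hw'
  have hw1 : (w : G) ≠ 1 := fun h1 => by rw [h1, orderOf_one] at hw'; exact hr.one_lt.ne hw'
  have hne : g * (w : G) * g⁻¹ ≠ 1 := fun h1 => hw1 (conj_eq_one_iff.1 h1)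
  exact ((h.cent_eq hx hg hne).1).1.2 (InK.conj h ⟨hw1, 1, by simp⟩ g)

theorem card_dvd_I {x : G} (hx : h.StronglyReal x) :
    Nat.card (Subgroup.centralizer ({x} : Set G)) ∣ h.I :=
  (h.coprime_two_k hx).dvd_of_dvd_mul_right (h.card_G ▸ Subgroup.card_subgroup_dvd_card _)

/-- The centraliser of an inverting involution in the normaliser. -/
noncomputable def comp (x u : G) : Subgroup G :=
  Subgroup.normalizer (Subgroup.centralizer ({x} : Set G) : Set G) ⊓ Subgroup.centralizer ({u} : Set G)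

theorem mem_normalizer {x g : G} (hx : h.StronglyReal x) :
    g ∈ Subgroup.normalizer (Subgroup.centralizer ({x} : Set G) : Set G) ↔
      g * x * g⁻¹ ∈ Subgroup.centralizer ({x} : Set G) := by
  refine ⟨fun hg => (Subgroup.mem_normalizer_iff.1 hg x).1
    (Subgroup.mem_centralizer_singleton_iff.2 rfl), fun hg => Subgroup.mem_normalizer_iff.2 fun w => ?_⟩
  obtain ⟨-, hC⟩ := h.cent_eq hx hg fun h1 => hx.1.1 (conj_eq_one_iff.1 h1)
  constructor
  · intro hw; rw [← hC]; exact mem_centralizer_conj.2 hw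
  · intro hw; rw [← hC] at hw; exact mem_centralizer_conj.1 hw

/-- Facts about the complement of the centraliser in its normaliser. -/
theorem comp_spec {x u : G} (hx : h.StronglyReal x) (hu : orderOf u = 2) (hi : u * x * u = x⁻¹) :
    u ∈ comp x u ∧
      Nat.card (Subgroup.normalizer (Subgroup.centralizer ({x} : Set G) : Set G)) =
        Nat.card (Subgroup.centralizer ({x} : Set G)) * Nat.card (comp x u) ∧
      Subgroup.centralizer ({x} : Set G) ⊔ comp x u =
        Subgroup.normalizer (Subgroup.centralizer ({x} : Set G) : Set G) ∧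
      ∃ c : G, c * u * c⁻¹ = h.t ∧ ∀ w ∈ comp x u, c * w * c⁻¹ ∈ h.K := by
  obtain ⟨huu, hu1⟩ := orderOf_two_iff.1 hu
  have hui : u⁻¹ = u := inv_eq_of_mul_eq_one_right huu
  set A := Subgroup.centralizer ({x} : Set G) with hA
  set N := Subgroup.normalizer (A : Set G) with hN
  have huN : u ∈ N := (h.mem_normalizer hx).2 (by
    rw [hui, hi]; exact A.inv_mem (Subgroup.mem_centralizer_singleton_iff.2 rfl))
  have huE : u ∈ comp x u := ⟨huN, Subgroup.mem_centralizer_singleton_iff.2 rfl⟩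
  have hdec : ∀ g ∈ N, ∃ b ∈ A, b⁻¹ * g ∈ comp x u := by
    intro g hg
    have hgx : g⁻¹ * x * g ∈ A := by
      simpa using (Subgroup.mem_normalizer_iff.1 (N.inv_mem hg) x).1
        (Subgroup.mem_centralizer_singleton_iff.2 rfl)
    have hginv := h.inverts_cent hx.1 hu hi hgx
    have hv : (g * u * g⁻¹) * x * (g * u * g⁻¹) = x⁻¹ := by
      calc (g * u * g⁻¹) * x * (g * u * g⁻¹) = g * (u * (g⁻¹ * x * g) * u) * g⁻¹ := by group
        _ = x⁻¹ := by rw [hginv]; group
    have hvmem : g * u * g⁻¹ * u ∈ A := by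
      refine Subgroup.mem_centralizer_singleton_iff.2 ?_
      have e1 : u * x = x⁻¹ * u := by rw [← hi, mul_assoc, huu, mul_one]
      have e2 : (g * u * g⁻¹) * (g * u * g⁻¹) = 1 := by
        calc (g * u * g⁻¹) * (g * u * g⁻¹) = g * (u * u) * g⁻¹ := by group
          _ = 1 := by rw [huu]; group
      have e3 : (g * u * g⁻¹) * x⁻¹ = x * (g * u * g⁻¹) := by
        rw [← hv, ← mul_assoc (g * u * g⁻¹), ← mul_assoc (g * u * g⁻¹), e2, one_mul]
      calc g * u * g⁻¹ * u * x = (g * u * g⁻¹) * x⁻¹ * u := by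
            rw [mul_assoc (g * u * g⁻¹) u, e1, ← mul_assoc]
        _ = x * (g * u * g⁻¹ * u) := by rw [e3]; group
    -- square roots in the centraliser
    let sq : A → A := fun b => b * b
    have hinj : Function.Injective sq := by
      intro a b hab
      by_contra hne
      have hab' : (a : G) * a = b * b := congrArg Subtype.val hab
      have hcomm := h.cent_comm hx a.2 b.2
      have hne' : (a : G) * (b : G)⁻¹ ≠ 1 := fun h1 => hne (Subtype.ext (mul_inv_eq_one.1 h1))
      refine h.no_involution_commutes hx.1 (u := (a : G) * (b : G)⁻¹)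
        (orderOf_two_iff.2 ⟨?_, hne'⟩)
        (Subgroup.mem_centralizer_singleton_iff.1 (A.mul_mem a.2 (A.inv_mem b.2)))
      calc (a : G) * (b : G)⁻¹ * ((a : G) * (b : G)⁻¹)
          = a * ((b : G)⁻¹ * a) * (b : G)⁻¹ := by group
        _ = a * (a * (b : G)⁻¹) * (b : G)⁻¹ := by
          rw [(show Commute (a : G) b from hcomm).inv_right.eq]
        _ = (a : G) * a * ((b : G) * b)⁻¹ := by group
        _ = 1 := by rw [hab', mul_inv_cancel]
    obtain ⟨b, hb⟩ := (Finite.injective_iff_surjective.1 hinj) ⟨_, hvmem⟩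
    have hb' : (b : G) * b = g * u * g⁻¹ * u := congrArg Subtype.val hb
    refine ⟨b, b.2, ?_, Subgroup.mem_centralizer_singleton_iff.2 ?_⟩
    · exact N.mul_mem (N.inv_mem (Subgroup.le_normalizer b.2)) hg
    · have e4 : (b : G) * u * (b : G)⁻¹ = b * b * u := by
        have := h.inverts_cent hx.1 hu hi b.2
        calc (b : G) * u * (b : G)⁻¹ = b * u * (u * b * u) := by rw [this]
          _ = b * (u * u) * b * u := by group
          _ = b * b * u := by rw [huu, mul_one]
      rw [hb', mul_assoc (g * u * g⁻¹), huu, mul_one] at e4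
      calc (b : G)⁻¹ * g * u = (b : G)⁻¹ * (g * u * g⁻¹) * g := by group
        _ = (b : G)⁻¹ * ((b : G) * u * (b : G)⁻¹) * g := by rw [e4]
        _ = u * ((b : G)⁻¹ * g) := by group
  have hAE : ∀ w, w ∈ A → w ∈ comp x u → w = 1 := by
    intro w hwA hwE
    by_contra hw1
    exact h.no_involution_commutes (h.outside_of_commute hx.1 hw1
      (Subgroup.mem_centralizer_singleton_iff.1 hwA)) hu
      (Subgroup.mem_centralizer_singleton_iff.1 hwE.2).symm
  refine ⟨huE, ?_, le_antisymm (sup_le Subgroup.le_normalizer inf_le_left) fun g hg => ?_, ?_⟩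
  · let e : A × comp x u → N := fun p =>
      ⟨p.1 * p.2, N.mul_mem (Subgroup.le_normalizer p.1.2) p.2.2.1⟩
    rw [← Nat.card_prod]
    refine (Nat.card_congr (Equiv.ofBijective e ⟨?_, ?_⟩)).symm
    · rintro ⟨a, e₁⟩ ⟨b, e₂⟩ hab
      have h1 : (a : G) * e₁ = b * e₂ := congrArg Subtype.val hab
      have h2 : (b : G)⁻¹ * a = (e₂ : G) * (e₁ : G)⁻¹ := by
        calc (b : G)⁻¹ * a = (b : G)⁻¹ * (a * e₁) * (e₁ : G)⁻¹ := by group
          _ = _ := by rw [h1]; group
      have h3 := hAE _ (A.mul_mem (A.inv_mem b.2) a.2)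
        (by rw [h2]; exact (comp x u).mul_mem e₂.2 ((comp x u).inv_mem e₁.2))
      have h4 : (a : G) = b := (inv_mul_eq_one.1 h3).symm
      rw [h4] at h1
      exact Prod.ext (Subtype.ext h4) (Subtype.ext (mul_left_cancel h1))
    · rintro ⟨g, hg⟩
      obtain ⟨b, hb, hbg⟩ := hdec g hg
      exact ⟨⟨⟨b, hb⟩, ⟨_, hbg⟩⟩, Subtype.ext (mul_inv_cancel_left _ _)⟩
  · obtain ⟨b, hb, hbg⟩ := hdec g hg
    rw [← mul_inv_cancel_left b g]
    exact Subgroup.mul_mem_sup hb hbg
  · obtain ⟨c, hc⟩ := isConj_iff.1 (h.conj u h.t hu h.ht)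
    refine ⟨c, hc, fun w hw => ?_⟩
    have hH : c * w * c⁻¹ ∈ h.H := by
      rw [Hyp.H, ← hc]; exact mem_centralizer_conj.2 hw.2
    by_contra hK
    have hw2 : orderOf w = 2 := by
      rw [← (MulAut.conj c).orderOf_eq w]; exact h.sq_of_mem_H hH hK
    obtain ⟨hww, hw1⟩ := orderOf_two_iff.1 hw2
    have hwu : w * u = u * w := Subgroup.mem_centralizer_singleton_iff.1 hw.2
    -- `w` also inverts `x`, so `u w` centralises it
    have hwx : w * x * w = x⁻¹ := by
      have hmem : w * x * w ∈ A := by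
        have := (h.mem_normalizer hx).1 hw.1
        rwa [inv_eq_of_mul_eq_one_right hww] at this
      -- `y = x (w x w)` is fixed by `w`
      by_contra hne
      have hy1 : x * (w * x * w) ≠ 1 := fun h1 => hne (inv_eq_of_mul_eq_one_right h1).symm
      have hc1 := h.cent_comm hx (Subgroup.mem_centralizer_singleton_iff.2 rfl) hmem
      refine h.no_involution_commutes (h.outside_of_commute hx.1 hy1
        (Subgroup.mem_centralizer_singleton_iff.1
          (A.mul_mem (Subgroup.mem_centralizer_singleton_iff.2 rfl) hmem))) hw2 ?_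
      calc w * (x * (w * x * w)) = w * x * w * x * (w) := by group
        _ = x * (w * x * w) * w := by rw [hc1]
    have huw : u * w ≠ 1 := fun h1 => hK (by
      have hwu' : w = u := by
        rw [← one_mul w, ← huu, mul_assoc, h1, mul_one]
      rw [hwu', hc]; exact h.t_mem)
    refine h.no_involution_commutes hx.1 (u := u * w) (orderOf_two_iff.2 ⟨?_, huw⟩) ?_
    · calc u * w * (u * w) = u * (w * u) * w := by group
        _ = 1 := by rw [hwu, ← mul_assoc, huu, one_mul, hww]
    · have ewx : w * x = x⁻¹ * w := by rw [← hwx, mul_assoc, hww, mul_one]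
      have eux : u * x⁻¹ = x * u := by rw [← hi, ← mul_assoc, ← mul_assoc, huu, one_mul]
      calc u * w * x = u * (w * x) := by group
        _ = u * x⁻¹ * w := by rw [ewx]; group
        _ = x * (u * w) := by rw [eux]; group

/-- Elements with centraliser of a given order: the fibre has `[G : N] (m - 1)` elements. -/
theorem card_fibre {x : G} (hx : h.StronglyReal x) :
    Nat.card {y : G // h.StronglyReal y ∧ Nat.card (Subgroup.centralizer ({y} : Set G)) =
        Nat.card (Subgroup.centralizer ({x} : Set G))} =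
      (Subgroup.normalizer (Subgroup.centralizer ({x} : Set G) : Set G)).index *
        (Nat.card (Subgroup.centralizer ({x} : Set G)) - 1) := by
  classical
  set A := Subgroup.centralizer ({x} : Set G) with hA
  set N := Subgroup.normalizer (A : Set G) with hN
  let e : (G ⧸ N) × {a : A // a ≠ 1} →
      {y : G // h.StronglyReal y ∧ Nat.card (Subgroup.centralizer ({y} : Set G)) = Nat.card A} :=
    fun p => ⟨p.1.out * (p.2.1 : G) * p.1.out⁻¹, by
      obtain ⟨hsr, hC⟩ := h.cent_eq hx p.2.1.2 fun h1 => p.2.2 (Subtype.ext h1)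
      exact ⟨StronglyReal.conj h hsr _, by rw [card_centralizer_conj, hC]⟩⟩
  have he : Function.Bijective e := by
    constructor
    · rintro ⟨a, p⟩ ⟨b, q⟩ hab
      have h1 : a.out * (p.1 : G) * a.out⁻¹ = b.out * (q.1 : G) * b.out⁻¹ := congrArg Subtype.val hab
      have h2 : (b.out⁻¹ * a.out) * (p.1 : G) * (b.out⁻¹ * a.out)⁻¹ = (q.1 : G) := by
        calc _ = b.out⁻¹ * (a.out * (p.1 : G) * a.out⁻¹) * b.out := by group
          _ = b.out⁻¹ * (b.out * (q.1 : G) * b.out⁻¹) * b.out := by rw [h1]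
          _ = q.1 := by group
      obtain ⟨-, hCp⟩ := h.cent_eq hx p.1.2 fun h1 => p.2 (Subtype.ext h1)
      obtain ⟨-, hCq⟩ := h.cent_eq hx q.1.2 fun h1 => q.2 (Subtype.ext h1)
      have hmem : b.out⁻¹ * a.out ∈ N := Subgroup.mem_normalizer_iff.2 fun w => by
        show w ∈ A ↔ b.out⁻¹ * a.out * w * (b.out⁻¹ * a.out)⁻¹ ∈ A
        have e1 : w ∈ A ↔ w ∈ Subgroup.centralizer ({(p.1 : G)} : Set G) := (SetLike.ext_iff.1 hCp w).symm
        have e2 : b.out⁻¹ * a.out * w * (b.out⁻¹ * a.out)⁻¹ ∈ A ↔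
            b.out⁻¹ * a.out * w * (b.out⁻¹ * a.out)⁻¹ ∈ Subgroup.centralizer ({(q.1 : G)} : Set G) :=
          (SetLike.ext_iff.1 hCq _).symm
        rw [e1, e2, ← h2, mem_centralizer_conj]
      have hab' : b = a := by
        rw [← QuotientGroup.out_eq' a, ← QuotientGroup.out_eq' b, QuotientGroup.eq]
        exact hmem
      subst hab'
      rw [inv_mul_cancel, one_mul, inv_one, mul_one] at h2
      rw [Subtype.ext (Subtype.ext h2)]
    · rintro ⟨y, hy, hcard⟩
      obtain ⟨r, hr, hrA⟩ := Nat.exists_prime_and_dvd (show Nat.card A ≠ 1 from fun h1 => by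
        rw [Subgroup.card_eq_one] at h1
        have hxA : x ∈ A := Subgroup.mem_centralizer_singleton_iff.2 rfl
        rw [h1, Subgroup.mem_bot] at hxA
        exact hx.1.1 hxA)
      obtain ⟨g, hg⟩ := h.exists_conj_of_common_prime hy hx hr (hcard ▸ hrA) hrA
      obtain ⟨c, hc⟩ : ∃ c : N, (QuotientGroup.mk g⁻¹ : G ⧸ N).out = g⁻¹ * c :=
        QuotientGroup.mk_out_eq_mul N g⁻¹
      have hgy : g * y * g⁻¹ ∈ A := (hg y).1 (Subgroup.mem_centralizer_singleton_iff.2 rfl)
      refine ⟨⟨QuotientGroup.mk g⁻¹, ⟨⟨(c : G)⁻¹ * (g * y * g⁻¹) * c, ?_⟩, ?_⟩⟩, Subtype.ext ?_⟩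
      · simpa using (Subgroup.mem_normalizer_iff.1 (N.inv_mem c.2) _).1 hgy
      · intro h1
        have h2 : (c : G)⁻¹ * (g * y * g⁻¹) * c = 1 := congrArg Subtype.val h1
        refine hy.1.1 ?_
        calc y = g⁻¹ * c * ((c : G)⁻¹ * (g * y * g⁻¹) * c) * (g⁻¹ * c)⁻¹ := by group
          _ = 1 := by rw [h2]; group
      · show (QuotientGroup.mk g⁻¹ : G ⧸ N).out * ((c : G)⁻¹ * (g * y * g⁻¹) * c) *
          (QuotientGroup.mk g⁻¹ : G ⧸ N).out⁻¹ = y
        rw [hc]
        group
  rw [← Nat.card_congr (Equiv.ofBijective e he), Nat.card_prod]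
  congr 1
  rw [Nat.card_eq_fintype_card, Fintype.card_subtype_compl, Fintype.card_subtype_eq,
    ← Nat.card_eq_fintype_card]

/-- All ordered pairs of involutions. -/
theorem sum_strongly_real [DecidablePred h.StronglyReal] :
    ∑ x ∈ Finset.univ.filter h.StronglyReal,
        Nat.card (Subgroup.centralizer ({x} : Set G)) + h.I + h.I * (h.k - 1) * h.k = h.I * h.I := by
  classical
  have h1 := h.sum_pairCount
  rw [← Finset.sum_filter_add_sum_filter_not Finset.univ h.InK,
    Finset.sum_congr rfl (g := fun _ => h.k) fun x hx => h.pairCount_of_inK (Finset.mem_filter.1 hx).2,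
    Finset.sum_const, smul_eq_mul, ← Fintype.card_subtype, ← Nat.card_eq_fintype_card, h.card_inK]
    at h1
  have hone : (1 : G) ∈ Finset.univ.filter (fun x => ¬ h.InK x) :=
    Finset.mem_filter.2 ⟨Finset.mem_univ _, fun h' => h'.1 rfl⟩
  rw [← Finset.add_sum_erase _ _ hone, h.pairCount_one] at h1
  have h2 : ∑ x ∈ Finset.univ.filter h.StronglyReal,
      Nat.card (Subgroup.centralizer ({x} : Set G)) =
      ∑ x ∈ (Finset.univ.filter fun x => ¬ h.InK x).erase 1, pairCount x := by
    rw [Finset.sum_congr rfl fun x hx => (h.pairCount_eq_card (Finset.mem_filter.1 hx).2).symm]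
    refine Finset.sum_subset (fun x hx => ?_) fun x hx hn => ?_
    · obtain ⟨⟨h1, h2⟩, -⟩ := (Finset.mem_filter.1 hx).2
      exact Finset.mem_erase.2 ⟨h1, Finset.mem_filter.2 ⟨Finset.mem_univ _, h2⟩⟩
    · obtain ⟨hx1, hx2⟩ := Finset.mem_erase.1 hx
      by_contra h0
      exact hn (Finset.mem_filter.2 ⟨Finset.mem_univ _, ⟨hx1, (Finset.mem_filter.1 hx2).2⟩, h0⟩)
  omega

/-- All elements outside. -/
theorem card_outside [DecidablePred h.Outside] :
    (Finset.univ.filter h.Outside).card + 1 + h.I * (h.k - 1) = h.I * (2 * h.k) := by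
  classical
  have hK : (Finset.univ.filter h.InK).card = h.I * (h.k - 1) := by
    rw [← h.card_inK, Nat.card_eq_fintype_card, Fintype.card_subtype]
  have hsplit := Finset.card_filter_add_card_filter_not (s := (Finset.univ : Finset G)) h.InK
  rw [hK, Finset.card_univ, ← Nat.card_eq_fintype_card, h.card_G] at hsplit
  have h3 : (Finset.univ.filter h.Outside).card + 1 =
      (Finset.univ.filter fun x => ¬ h.InK x).card := by
    rw [← Finset.card_erase_add_one (s := Finset.univ.filter fun x => ¬ h.InK x) (a := (1 : G))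
      (Finset.mem_filter.2 ⟨Finset.mem_univ _, fun h' => h'.1 rfl⟩)]
    congr 2
    ext x
    simp [Outside]
  omega

end Hyp

end CfsgLib.BSW
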