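import Cfsg.Agent.Characters.Induction
import Cfsg.Agent.CharactersDeep.ClassPairs
import Cfsg.Agent.Characters.Orthogonality
import Mathlib.GroupTheory.Sylow
import Mathlib.GroupTheory.GroupAction.Quotient

/-!
# The hypothesis of the Brauer–Suzuki–Wall theorem: local structure and counting

An involution `t` whose centraliser is generalised dihedral over an abelian TI subgroup `K`,
all involutions conjugate.
-/

set_option autoImplicit false
set_option linter.style.haveILetI false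
set_option linter.unusedSectionVars false

namespace CfsgLib.BSW

universe u

/-- The hypothesis of the abstract Brauer–Suzuki–Wall theorem. -/
structure Hyp (G : Type u) [Group G] where
  t : G
  s : G
  K : Subgroup G
  ht : orderOf t = 2
  hs : orderOf s = 2
  comm : ∀ x ∈ K, ∀ y ∈ K, x * y = y * x
  le_cent : K ≤ Subgroup.centralizer ({t} : Set G)
  t_mem : t ∈ K
  s_cent : s ∈ Subgroup.centralizer ({t} : Set G)
  s_notMem : s ∉ K
  sup_eq : K ⊔ Subgroup.zpowers s = Subgroup.centralizer ({t} : Set G)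
  fixed : ∀ x ∈ K, s * x = x * s → x = 1 ∨ x = t
  inverts : ∀ x ∈ K, s * x * s⁻¹ = x⁻¹
  ti : ∀ g, g ∉ Subgroup.centralizer ({t} : Set G) → ∀ x ∈ K, g * x * g⁻¹ ∈ K → x = 1
  conj : ∀ x y : G, orderOf x = 2 → orderOf y = 2 → IsConj x y

variable {G : Type u} [Group G]

theorem orderOf_two_iff {u : G} : orderOf u = 2 ↔ u * u = 1 ∧ u ≠ 1 := by
  haveI : Fact (Nat.Prime 2) := ⟨Nat.prime_two⟩
  rw [orderOf_eq_prime_iff, pow_two]

namespace Hyp

variable (h : Hyp G)

/-- The centraliser of `t`. -/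
abbrev H : Subgroup G := Subgroup.centralizer ({h.t} : Set G)

/-- The order of `K`. -/
noncomputable abbrev k : ℕ := Nat.card h.K

/-- The number of involutions. -/
noncomputable abbrev I : ℕ := h.H.index

/-- Conjugate into `K` and nontrivial. -/
def InK (x : G) : Prop := x ≠ 1 ∧ ∃ g : G, g * x * g⁻¹ ∈ h.K

theorem t_mul_t : h.t * h.t = 1 := (orderOf_two_iff.1 h.ht).1

theorem t_ne_one : h.t ≠ 1 := (orderOf_two_iff.1 h.ht).2

theorem s_mul_s : h.s * h.s = 1 := (orderOf_two_iff.1 h.hs).1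

theorem s_inv : h.s⁻¹ = h.s := inv_eq_of_mul_eq_one_right h.s_mul_s

theorem t_inv : h.t⁻¹ = h.t := inv_eq_of_mul_eq_one_right h.t_mul_t

theorem s_conj {x : G} (hx : x ∈ h.K) : h.s * x * h.s = x⁻¹ := by
  have := h.inverts x hx
  rwa [h.s_inv] at this

theorem mem_H {g : G} : g ∈ h.H ↔ g * h.t = h.t * g := Subgroup.mem_centralizer_singleton_iff

theorem mem_H_cases {g : G} (hg : g ∈ h.H) : g ∈ h.K ∨ h.s * g ∈ h.K := by
  let U : Subgroup G :=
    { carrier := {g | g ∈ h.K ∨ h.s * g ∈ h.K}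
      one_mem' := Or.inl h.K.one_mem
      mul_mem' := fun {a b} ha hb => by
        rcases ha with ha | ha <;> rcases hb with hb | hb
        · exact Or.inl (h.K.mul_mem ha hb)
        · refine Or.inr ?_
          have h1 : h.s * (a * b) = (h.s * a * h.s) * (h.s * b) := by
            rw [mul_assoc (h.s * a), ← mul_assoc h.s h.s, h.s_mul_s, one_mul]; group
          rw [h1, h.s_conj ha]
          exact h.K.mul_mem (h.K.inv_mem ha) hb
        · exact Or.inr (by rw [← mul_assoc]; exact h.K.mul_mem ha hb)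
        · refine Or.inl ?_
          have h1 : a * b = (h.s * (h.s * a) * h.s) * (h.s * b) := by
            rw [mul_assoc (h.s * (h.s * a)), ← mul_assoc h.s h.s b, h.s_mul_s, one_mul,
              ← mul_assoc h.s h.s a, h.s_mul_s, one_mul]
          rw [h1, h.s_conj ha]
          exact h.K.mul_mem (h.K.inv_mem ha) hb
      inv_mem' := fun {a} ha => by
        rcases ha with ha | ha
        · exact Or.inl (h.K.inv_mem ha)
        · refine Or.inr ?_
          have h1 : h.s * a⁻¹ = h.s * (h.s * a)⁻¹ * h.s := by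
            rw [mul_inv_rev, h.s_inv, mul_assoc, mul_assoc a⁻¹, h.s_mul_s, mul_one]
          rw [h1, h.s_conj (h.K.inv_mem ha)]
          exact h.K.inv_mem (h.K.inv_mem ha) }
  have hle : h.K ⊔ Subgroup.zpowers h.s ≤ U := sup_le (fun x hx => Or.inl hx)
    (Subgroup.zpowers_le.2 (Or.inr (by rw [h.s_mul_s]; exact h.K.one_mem)))
  exact hle (h.sup_eq ▸ hg)

theorem sq_of_mem_H {g : G} (hg : g ∈ h.H) (hgK : g ∉ h.K) : orderOf g = 2 := by
  refine orderOf_two_iff.2 ⟨?_, fun h1 => hgK (h1 ▸ h.K.one_mem)⟩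
  have hy := (h.mem_H_cases hg).resolve_left hgK
  have h1 := h.s_conj hy
  rw [← mul_assoc h.s h.s g, h.s_mul_s, one_mul] at h1
  calc g * g = g * h.s * (h.s * g) := by
        rw [mul_assoc, ← mul_assoc h.s, h.s_mul_s, one_mul]
    _ = 1 := by rw [h1, inv_mul_cancel]

theorem conj_of_mem_H {g x : G} (hg : g ∈ h.H) (hx : x ∈ h.K) :
    (g ∈ h.K ∧ g * x * g⁻¹ = x) ∨ (g ∉ h.K ∧ g * x * g⁻¹ = x⁻¹) := by
  by_cases hgK : g ∈ h.K
  · exact Or.inl ⟨hgK, by rw [h.comm g hgK x hx, mul_inv_cancel_right]⟩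
  · refine Or.inr ⟨hgK, ?_⟩
    have hy := (h.mem_H_cases hg).resolve_left hgK
    have h1 : g * x * g⁻¹ = h.s * ((h.s * g) * x * (h.s * g)⁻¹) * h.s⁻¹ := by
      calc g * x * g⁻¹ = h.s⁻¹ * ((h.s * g) * x * (h.s * g)⁻¹) * h.s := by group
        _ = _ := by rw [h.s_inv]
    rw [h1, h.comm _ hy x hx, mul_inv_cancel_right, h.inverts x hx]

theorem conj_mem_K {g x : G} (hg : g ∈ h.H) (hx : x ∈ h.K) : g * x * g⁻¹ ∈ h.K := by
  rcases h.conj_of_mem_H hg hx with ⟨-, h1⟩ | ⟨-, h1⟩ <;> rw [h1]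
  · exact hx
  · exact h.K.inv_mem hx

theorem mem_H_of_conj_mem {g x : G} (hx : x ∈ h.K) (hx1 : x ≠ 1) (hg : g * x * g⁻¹ ∈ h.K) :
    g ∈ h.H := by
  by_contra hgH
  exact hx1 (h.ti g hgH x hx hg)

theorem eq_t_of_mem_K {x : G} (hx : x ∈ h.K) (h2 : orderOf x = 2) : x = h.t := by
  obtain ⟨hxx, hx1⟩ := orderOf_two_iff.1 h2
  refine (h.fixed x hx ?_).resolve_left hx1
  have h1 := h.inverts x hx
  rw [inv_eq_of_mul_eq_one_right hxx, mul_inv_eq_iff_eq_mul] at h1
  exact h1

theorem cent_eq_K {x : G} (hx : x ∈ h.K) (hx1 : x ≠ 1) (hxt : x ≠ h.t) :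
    Subgroup.centralizer ({x} : Set G) = h.K := by
  refine le_antisymm (fun g hg => ?_) fun g hg => Subgroup.mem_centralizer_singleton_iff.2
    (h.comm g hg x hx)
  have hgx := Subgroup.mem_centralizer_singleton_iff.1 hg
  have hc : g * x * g⁻¹ = x := by rw [hgx, mul_inv_cancel_right]
  rcases h.conj_of_mem_H (h.mem_H_of_conj_mem hx hx1 (by rw [hc]; exact hx)) hx with
    ⟨hgK, -⟩ | ⟨-, h1⟩
  · exact hgK
  · exfalso
    rw [hc] at h1
    exact hxt (h.eq_t_of_mem_K hx (orderOf_two_iff.2 ⟨mul_eq_one_iff_eq_inv.2 h1, hx1⟩))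

theorem cent_le_H {x : G} (hx : x ∈ h.K) (hx1 : x ≠ 1) :
    Subgroup.centralizer ({x} : Set G) ≤ h.H := fun g hg =>
  h.mem_H_of_conj_mem hx hx1 (by
    rw [Subgroup.mem_centralizer_singleton_iff.1 hg, mul_inv_cancel_right]; exact hx)

theorem InK.conj {x : G} (hx : h.InK x) (g : G) : h.InK (g * x * g⁻¹) := by
  obtain ⟨hx1, a, ha⟩ := hx
  refine ⟨fun h1 => hx1 (conj_eq_one_iff.1 h1), a * g⁻¹, ?_⟩
  rw [show a * g⁻¹ * (g * x * g⁻¹) * (a * g⁻¹)⁻¹ = a * x * a⁻¹ by group]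
  exact ha

theorem inK_of_orderOf_two {u : G} (hu : orderOf u = 2) : h.InK u := by
  obtain ⟨c, hc⟩ := isConj_iff.1 (h.conj u h.t hu h.ht)
  exact ⟨(orderOf_two_iff.1 hu).2, c, hc ▸ h.t_mem⟩

section Finite

variable [Finite G]

theorem two_dvd_k : 2 ∣ h.k := h.ht ▸ Subgroup.orderOf_dvd_natCard h.K h.t_mem

theorem k_pos : 0 < h.k := Nat.card_pos

theorem two_le_k : 2 ≤ h.k := Nat.le_of_dvd h.k_pos h.two_dvd_k

theorem card_H : Nat.card h.H = 2 * h.k := by
  let e : h.K ⊕ h.K → h.H := Sum.elim (fun x => ⟨x, h.le_cent x.2⟩)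
    (fun x => ⟨h.s * x, h.H.mul_mem h.s_cent (h.le_cent x.2)⟩)
  have he : Function.Bijective e := by
    constructor
    · rintro (a | a) (b | b) hab <;> simp only [e, Sum.elim_inl, Sum.elim_inr, Subtype.mk.injEq] at hab
      · rw [Subtype.ext hab]
      · refine absurd ?_ h.s_notMem
        rw [show h.s = (a : G) * (b : G)⁻¹ by rw [hab, mul_inv_cancel_right]]
        exact h.K.mul_mem a.2 (h.K.inv_mem b.2)
      · refine absurd ?_ h.s_notMem
        rw [show h.s = (b : G) * (a : G)⁻¹ by rw [← hab, mul_inv_cancel_right]]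
        exact h.K.mul_mem b.2 (h.K.inv_mem a.2)
      · rw [Subtype.ext (mul_left_cancel hab)]
    · rintro ⟨g, hg⟩
      rcases h.mem_H_cases hg with hK | hK
      · exact ⟨Sum.inl ⟨g, hK⟩, rfl⟩
      · refine ⟨Sum.inr ⟨_, hK⟩, Subtype.ext ?_⟩
        show h.s * (h.s * g) = g
        rw [← mul_assoc, h.s_mul_s, one_mul]
  rw [← Nat.card_congr (Equiv.ofBijective e he), Nat.card_sum, two_mul]

theorem card_G : Nat.card G = h.I * (2 * h.k) := by
  rw [← h.card_H, Subgroup.index_mul_card]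

theorem I_pos : 0 < h.I := Nat.pos_of_ne_zero Subgroup.index_ne_zero_of_finite

theorem I_odd : Odd h.I := by
  haveI : Fact (Nat.Prime 2) := ⟨Nat.prime_two⟩
  let P : Sylow 2 G := default
  have hdvd : 2 ∣ Nat.card G := h.ht ▸ orderOf_dvd_natCard h.t
  haveI : Nontrivial (P : Subgroup G) :=
    (P : Subgroup G).nontrivial_iff_ne_bot.2 (P.ne_bot_of_dvd_card hdvd)
  haveI := P.2.center_nontrivial
  obtain ⟨n, hn, hcard⟩ := (P.2.to_subgroup (Subgroup.center _)).nontrivial_iff_card.1 inferInstance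
  obtain ⟨z, hz⟩ := exists_prime_orderOf_dvd_card' 2
    (show 2 ∣ Nat.card (Subgroup.center (P : Subgroup G)) by
      rw [hcard]; exact dvd_pow_self 2 (by omega))
  have hz' : orderOf ((z : (P : Subgroup G)) : G) = 2 := by
    rw [Subgroup.orderOf_coe, Subgroup.orderOf_coe, hz]
  obtain ⟨c, hc⟩ := isConj_iff.1 (h.conj _ h.t hz' h.ht)
  have hle : (P : Subgroup G).map (MulAut.conj c).toMonoidHom ≤ h.H := by
    rintro _ ⟨x, hx, rfl⟩
    have hcomm : x * ((z : (P : Subgroup G)) : G) = ((z : (P : Subgroup G)) : G) * x :=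
      congrArg Subtype.val (Subgroup.mem_center_iff.1 z.2 ⟨x, hx⟩)
    refine h.mem_H.2 ?_
    rw [← hc]
    simp only [MulEquiv.coe_toMonoidHom, MulAut.conj_apply]
    calc c * x * c⁻¹ * (c * _ * c⁻¹) = c * (x * ((z : (P : Subgroup G)) : G)) * c⁻¹ := by group
      _ = _ := by rw [hcomm]; group
  have hdvd' := Subgroup.index_dvd_of_le hle
  rw [show ((P : Subgroup G).map (MulAut.conj c).toMonoidHom).index = (P : Subgroup G).index from
    Subgroup.index_map_equiv _ (MulAut.conj c)] at hdvd'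
  exact Nat.odd_iff.2 (Nat.two_dvd_ne_zero.1 fun h2 => P.not_dvd_index' Subgroup.index_ne_zero_of_finite (h2.trans hdvd'))

end Finite

section Fintype

variable [Fintype G]

open CfsgLib.CharactersDeep.ClassPairs in
theorem mem_classSet_t {u : G} : u ∈ classSet h.t ↔ orderOf u = 2 := by
  rw [mem_classSet]
  refine ⟨fun hc => ?_, fun hu => h.conj _ _ h.ht hu⟩
  obtain ⟨c, rfl⟩ := isConj_iff.1 hc
  rw [← MulAut.conj_apply, MulEquiv.orderOf_eq, h.ht]

open CfsgLib.CharactersDeep.ClassPairs in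
theorem card_classSet_t : (classSet h.t).card = h.I := by
  classical
  rw [← card_classSet]
  have e : G ⧸ h.H ≃ {x : G // IsConj h.t x} := by
    refine Equiv.ofBijective (Quotient.lift (fun g : G => (⟨g * h.t * g⁻¹, isConj_iff.2 ⟨g, rfl⟩⟩ :
      {x : G // IsConj h.t x})) ?_) ⟨?_, ?_⟩
    · intro a b hab
      have h1 := h.mem_H.1 (QuotientGroup.leftRel_apply.1 hab)
      refine Subtype.ext ?_
      calc a * h.t * a⁻¹ = a * (h.t * (a⁻¹ * b)) * b⁻¹ := by group
        _ = a * (a⁻¹ * b * h.t) * b⁻¹ := by rw [h1]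
        _ = b * h.t * b⁻¹ := by group
    · intro x y hxy
      induction x using Quotient.inductionOn with | _ a => ?_
      induction y using Quotient.inductionOn with | _ b => ?_
      have h1 : a * h.t * a⁻¹ = b * h.t * b⁻¹ := congrArg Subtype.val hxy
      refine Quotient.sound (QuotientGroup.leftRel_apply.2 (h.mem_H.2 ?_))
      calc a⁻¹ * b * h.t = a⁻¹ * (b * h.t * b⁻¹) * b := by group
        _ = a⁻¹ * (a * h.t * a⁻¹) * b := by rw [h1]
        _ = h.t * (a⁻¹ * b) := by group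
    · rintro ⟨x, hx⟩
      obtain ⟨c, rfl⟩ := isConj_iff.1 hx
      exact ⟨QuotientGroup.mk c, rfl⟩
  rw [← Nat.card_congr e]
  rfl

/-- There are `I (k - 1)` elements conjugate into `K#`. -/
theorem card_inK : Nat.card {x : G // h.InK x} = h.I * (h.k - 1) := by
  classical
  let e : (G ⧸ h.H) × {x : h.K // x ≠ 1} → {x : G // h.InK x} := fun p =>
    ⟨p.1.out * (p.2.1 : G) * p.1.out⁻¹, by
      refine InK.conj h ⟨fun h1 => p.2.2 (Subtype.ext h1), 1, ?_⟩ _
      simp⟩
  have he : Function.Bijective e := by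
    constructor
    · rintro ⟨a, x⟩ ⟨b, y⟩ hab
      have h1 : a.out * (x.1 : G) * a.out⁻¹ = b.out * (y.1 : G) * b.out⁻¹ := congrArg Subtype.val hab
      have h2 : (b.out⁻¹ * a.out) * (x.1 : G) * (b.out⁻¹ * a.out)⁻¹ = (y.1 : G) := by
        calc _ = b.out⁻¹ * (a.out * (x.1 : G) * a.out⁻¹) * b.out := by group
          _ = b.out⁻¹ * (b.out * (y.1 : G) * b.out⁻¹) * b.out := by rw [h1]
          _ = y.1 := by group
      have hmem := h.mem_H_of_conj_mem x.1.2 (fun h0 => x.2 (Subtype.ext h0)) (h2 ▸ y.1.2)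
      have hab' : b = a := by
        rw [← QuotientGroup.out_eq' a, ← QuotientGroup.out_eq' b, QuotientGroup.eq]
        exact hmem
      subst hab'
      rw [inv_mul_cancel, one_mul, inv_one, mul_one] at h2
      rw [Subtype.ext (Subtype.ext h2)]
    · rintro ⟨x, hx1, g, hg⟩
      obtain ⟨c, hc⟩ : ∃ c : h.H, (QuotientGroup.mk g⁻¹ : G ⧸ h.H).out = g⁻¹ * c :=
        QuotientGroup.mk_out_eq_mul h.H g⁻¹
      refine ⟨⟨QuotientGroup.mk g⁻¹, ⟨⟨(c : G)⁻¹ * (g * x * g⁻¹) * c, ?_⟩, ?_⟩⟩, Subtype.ext ?_⟩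
      · simpa using h.conj_mem_K (h.H.inv_mem c.2) hg
      · intro h1
        have h2 : (c : G)⁻¹ * (g * x * g⁻¹) * c = 1 := congrArg Subtype.val h1
        refine hx1 ?_
        calc x = g⁻¹ * c * ((c : G)⁻¹ * (g * x * g⁻¹) * c) * (g⁻¹ * c)⁻¹ := by group
          _ = 1 := by rw [h2]; group
      · show (QuotientGroup.mk g⁻¹ : G ⧸ h.H).out * ((c : G)⁻¹ * (g * x * g⁻¹) * c) *
          (QuotientGroup.mk g⁻¹ : G ⧸ h.H).out⁻¹ = x
        rw [hc]
        group
  rw [← Nat.card_congr (Equiv.ofBijective e he), Nat.card_prod]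
  congr 1
  rw [Nat.card_eq_fintype_card, Fintype.card_subtype_compl, Fintype.card_subtype_eq,
    ← Nat.card_eq_fintype_card]

/-- Induction from `K` to `G` at a nontrivial element of `K`. -/
theorem indFun_apply (f : h.K → ℂ) (x : h.K) (hx : (x : G) ≠ 1) :
    Cfsg.indFun h.K f x = f x + f x⁻¹ := by
  classical
  have hterm : ∀ g : G, Cfsg.extendByZero h.K f (g⁻¹ * (x : G) * g) =
      (if g ∈ h.K then f x else 0) + (if h.s * g ∈ h.K then f x⁻¹ else 0) := by
    intro g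
    by_cases hg : g ∈ h.H
    · have hex : g⁻¹ * (x : G) * g ∈ h.K := by simpa using h.conj_mem_K (h.H.inv_mem hg) x.2
      rw [CfsgLib.Characters.extendByZero_of_mem _ _ hex]
      rcases h.conj_of_mem_H (h.H.inv_mem hg) x.2 with ⟨hK, h1⟩ | ⟨hK, h1⟩ <;>
        rw [inv_inv] at h1 <;> rw [h.K.inv_mem_iff] at hK
      · rw [if_pos hK, if_neg fun h2 => h.s_notMem (by simpa using h.K.mul_mem h2 (h.K.inv_mem hK)),
          add_zero]
        exact congrArg f (Subtype.ext h1)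
      · rw [if_neg hK, if_pos ((h.mem_H_cases hg).resolve_left hK), zero_add]
        exact congrArg f (Subtype.ext h1)
    · rw [CfsgLib.Characters.extendByZero_of_not_mem, if_neg fun h2 => hg (h.le_cent h2),
        if_neg fun h2 => hg ?_, add_zero]
      · simpa [← mul_assoc, h.s_mul_s] using h.H.mul_mem h.s_cent (h.le_cent h2)
      · intro h2
        refine hg (h.H.inv_mem_iff.1 (h.mem_H_of_conj_mem x.2 hx ?_))
        simpa using h2
  have h1 : ∀ c : ℂ, ∑ g : G, (if g ∈ h.K then c else 0) = (h.k : ℂ) * c := fun c => by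
    rw [← Finset.sum_filter, Finset.sum_const, nsmul_eq_mul, ← Fintype.card_subtype,
      ← Nat.card_eq_fintype_card]
  have h2 : ∀ c : ℂ, ∑ g : G, (if h.s * g ∈ h.K then c else 0) = (h.k : ℂ) * c := fun c =>
    (Fintype.sum_equiv (Equiv.mulLeft h.s) _ (fun g => if g ∈ h.K then c else 0)
      (fun g => rfl)).trans (h1 c)
  rw [Cfsg.indFun, Finset.sum_congr rfl fun g _ => hterm g, Finset.sum_add_distrib, h1, h2,
    ← mul_add, ← mul_assoc, inv_mul_cancel₀ (CfsgLib.Characters.subgroup_card_ne_zero h.K), one_mul]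

theorem indFun_eq_zero (f : h.K → ℂ) {x : G} (hx1 : x ≠ 1) (hx : ¬ h.InK x) :
    Cfsg.indFun h.K f x = 0 :=
  CfsgLib.Characters.indFun_eq_zero_of_forall h.K f x fun g hg =>
    hx ⟨hx1, g⁻¹, by simpa using hg⟩

end Fintype

end Hyp

end CfsgLib.BSW
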