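import Cfsg.Agent.BSW.Coef
import Cfsg.Prelude.Def_Blocks

/-!
# Supports of the induced functions: the central character
-/

set_option autoImplicit false
set_option linter.style.haveILetI false
set_option linter.unusedSectionVars false

namespace CfsgLib.BSW

open CfsgLib.Characters
open scoped ComplexConjugate

universe u

variable {G : Type u} [Group G] [Fintype G]

namespace Hyp

variable (h : Hyp G)

open Classical in
/-- The nontrivial characters occurring in the function induced from `1 - l`. -/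
noncomputable def supp (l : h.K →* ℂˣ) : Finset (Cfsg.IrrCharacter G) :=
  Finset.univ.filter fun χ => χ ≠ h.triv ∧ h.coef χ l ≠ 0

/-- A linear character of `K` is regular when its square is nontrivial. -/
def Regular (l : h.K →* ℂˣ) : Prop := l * l ≠ 1

theorem mem_supp {χ : Cfsg.IrrCharacter G} {l : h.K →* ℂˣ} :
    χ ∈ h.supp l ↔ χ ≠ h.triv ∧ h.coef χ l ≠ 0 := by simp [supp]

theorem Regular.ne_one {l : h.K →* ℂˣ} (hl : h.Regular l) : l ≠ 1 := fun h0 => hl (by subst h0; ext x; simp)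

theorem Regular.inv {l : h.K →* ℂˣ} (hl : h.Regular l) : h.Regular l⁻¹ := fun h0 => hl (by
  ext x
  have h1 := DFunLike.congr_fun h0 x
  simp only [MonoidHom.mul_apply, MonoidHom.inv_apply, MonoidHom.one_apply] at h1 ⊢
  rw [← mul_inv, inv_eq_one] at h1
  rw [h1])

theorem inv_ne_self {l : h.K →* ℂˣ} (hl : h.Regular l) : l⁻¹ ≠ l := fun h0 => hl (by
  nth_rewrite 1 [← h0]
  ext x; simp)

theorem sum_supp_mul {l m : h.K →* ℂˣ} (hl : l ≠ 1) (hm : m ≠ 1) :
    ∑ χ ∈ h.supp l, h.coef χ l * h.coef χ m =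
      (∑ χ : Cfsg.IrrCharacter G, h.coef χ l * h.coef χ m) - 1 := by
  classical
  rw [← Finset.add_sum_erase _ _ (Finset.mem_univ h.triv), h.coef_triv hl, h.coef_triv hm,
    one_mul, add_sub_cancel_left]
  refine Finset.sum_subset (fun χ hχ => Finset.mem_erase.2 ⟨(h.mem_supp.1 hχ).1, Finset.mem_univ _⟩)
    fun χ hχ hn => ?_
  have h0 : h.coef χ l = 0 := by
    by_contra h0
    exact hn (h.mem_supp.2 ⟨(Finset.mem_erase.1 hχ).1, h0⟩)
  rw [h0, zero_mul]

theorem sum_supp_sq {l : h.K →* ℂˣ} (hl : l ≠ 1) :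
    ∑ χ ∈ h.supp l, h.coef χ l * h.coef χ l ≤ 3 ∧
      (h.Regular l → ∑ χ ∈ h.supp l, h.coef χ l * h.coef χ l = 2) ∧
      (¬ h.Regular l → ∑ χ ∈ h.supp l, h.coef χ l * h.coef χ l = 3) := by
  classical
  rw [h.sum_supp_mul hl hl, h.sum_coef_mul hl hl, if_pos rfl]
  by_cases hr : h.Regular l
  · rw [if_neg (h.inv_ne_self hr)]
    exact ⟨by norm_num, fun _ => by norm_num, fun h' => absurd hr h'⟩
  · rw [if_pos (show l⁻¹ = l by
      ext x
      have h1 := DFunLike.congr_fun (not_not.1 hr) x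
      simp only [MonoidHom.mul_apply, MonoidHom.one_apply] at h1
      rw [MonoidHom.inv_apply, inv_eq_of_mul_eq_one_right h1])]
    exact ⟨by norm_num, fun h' => absurd h' hr, fun _ => by norm_num⟩

theorem coef_sq {l : h.K →* ℂˣ} (hl : l ≠ 1) {χ : Cfsg.IrrCharacter G} (hχ : χ ∈ h.supp l) :
    h.coef χ l = 1 ∨ h.coef χ l = -1 := by
  have h1 := Finset.single_le_sum (f := fun χ => h.coef χ l * h.coef χ l)
    (fun χ _ => mul_self_nonneg (h.coef χ l)) hχ
  have h2 := (h.sum_supp_sq hl).1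
  have h0 := (h.mem_supp.1 hχ).2
  have hlo : -1 ≤ h.coef χ l := by nlinarith
  have hhi : h.coef χ l ≤ 1 := by nlinarith
  omega

theorem card_supp {l : h.K →* ℂˣ} (hl : l ≠ 1) :
    ((h.supp l).card : ℤ) = ∑ χ ∈ h.supp l, h.coef χ l * h.coef χ l := by
  rw [Finset.sum_congr rfl (g := fun _ => (1 : ℤ)) fun χ hχ => by
    rcases h.coef_sq hl hχ with e | e <;> simp [e]]
  simp

theorem card_supp_regular {l : h.K →* ℂˣ} (hl : h.Regular l) : (h.supp l).card = 2 := by
  have := h.card_supp hl.ne_one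
  rw [(h.sum_supp_sq hl.ne_one).2.1 hl] at this
  exact_mod_cast this

theorem card_supp_singular {l : h.K →* ℂˣ} (hl : l ≠ 1) (hr : ¬ h.Regular l) :
    (h.supp l).card = 3 := by
  have := h.card_supp hl
  rw [(h.sum_supp_sq hl).2.2 hr] at this
  exact_mod_cast this

theorem coef_inv {l : h.K →* ℂˣ} (hl : h.Regular l) (χ : Cfsg.IrrCharacter G) :
    h.coef χ l⁻¹ = h.coef χ l := by
  classical
  have hsum : ∑ χ : Cfsg.IrrCharacter G, (h.coef χ l⁻¹ - h.coef χ l) ^ 2 = 0 := by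
    rw [Finset.sum_congr rfl (g := fun χ => h.coef χ l⁻¹ * h.coef χ l⁻¹ +
      h.coef χ l * h.coef χ l - 2 * (h.coef χ l⁻¹ * h.coef χ l)) fun χ _ => by ring]
    rw [Finset.sum_sub_distrib, Finset.sum_add_distrib, ← Finset.mul_sum,
      h.sum_coef_mul hl.inv.ne_one hl.inv.ne_one, h.sum_coef_mul hl.ne_one hl.ne_one,
      h.sum_coef_mul hl.inv.ne_one hl.ne_one, if_pos rfl, if_pos rfl, if_neg (h.inv_ne_self hl),
      if_neg (h.inv_ne_self hl.inv)]
    rw [if_pos (show (l⁻¹)⁻¹ = l by ext x; simp)]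
    norm_num
  have := (Finset.sum_eq_zero_iff_of_nonneg fun χ _ => sq_nonneg _).1 hsum χ (Finset.mem_univ _)
  exact sub_eq_zero.1 (pow_eq_zero_iff two_ne_zero |>.1 this)

theorem supp_inv {l : h.K →* ℂˣ} (hl : h.Regular l) : h.supp l⁻¹ = h.supp l := by
  ext χ; rw [mem_supp, mem_supp, h.coef_inv hl]

/-- Two supports meet in exactly one character, with equal coefficients. -/
theorem exists_common {l m : h.K →* ℂˣ} (hl : h.Regular l) (hm : m ≠ 1) (hne : l ≠ m)
    (hne' : l⁻¹ ≠ m) : ∃ χ, χ ∈ h.supp l ∧ χ ∈ h.supp m ∧ h.coef χ l = h.coef χ m ∧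
      ∀ η, η ∈ h.supp l → η ∈ h.supp m → η = χ := by
  classical
  have hsum := h.sum_supp_mul hl.ne_one hm
  rw [h.sum_coef_mul hl.ne_one hm, if_neg hne, if_neg hne'] at hsum
  norm_num at hsum
  obtain ⟨a, b, hab, hs⟩ := Finset.card_eq_two.1 (h.card_supp_regular hl)
  rw [hs, Finset.sum_pair hab] at hsum
  have ha : a ∈ h.supp l := by rw [hs]; simp
  have hb : b ∈ h.supp l := by rw [hs]; simp
  have hzero : ∀ χ ∈ h.supp l, χ ∉ h.supp m → h.coef χ m = 0 := fun χ hχ hn => by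
    by_contra h0
    exact hn (h.mem_supp.2 ⟨(h.mem_supp.1 hχ).1, h0⟩)
  by_cases ham : a ∈ h.supp m <;> by_cases hbm : b ∈ h.supp m
  · rcases h.coef_sq hl.ne_one ha with e1 | e1 <;> rcases h.coef_sq hl.ne_one hb with e2 | e2 <;>
      rcases h.coef_sq hm ham with e3 | e3 <;> rcases h.coef_sq hm hbm with e4 | e4 <;>
      (rw [e1, e2, e3, e4] at hsum; norm_num at hsum)
  · rw [hzero b hb hbm, mul_zero, add_zero] at hsum
    refine ⟨a, ha, ham, ?_, fun η hη hηm => ?_⟩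
    · rcases h.coef_sq hl.ne_one ha with e1 | e1 <;> rw [e1] at hsum ⊢ <;> linarith
    · rw [hs, Finset.mem_insert, Finset.mem_singleton] at hη
      rcases hη with rfl | rfl
      · rfl
      · exact absurd hηm hbm
  · rw [hzero a ha ham, mul_zero, zero_add] at hsum
    refine ⟨b, hb, hbm, ?_, fun η hη hηm => ?_⟩
    · rcases h.coef_sq hl.ne_one hb with e1 | e1 <;> rw [e1] at hsum ⊢ <;> linarith
    · rw [hs, Finset.mem_insert, Finset.mem_singleton] at hη
      rcases hη with rfl | rfl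
      · exact absurd hηm ham
      · rfl
  · rw [hzero a ha ham, hzero b hb hbm] at hsum
    norm_num at hsum

/-- The signed degree. -/
noncomputable def sdeg (χ : Cfsg.IrrCharacter G) (l : h.K →* ℂˣ) : ℤ :=
  h.coef χ l * (Cfsg.charDegree (χ : G → ℂ) : ℕ)

theorem exists_degree_cast (χ : Cfsg.IrrCharacter G) :
    ∃ n : ℕ, 0 < n ∧ (χ : G → ℂ) 1 = n ∧ Cfsg.charDegree (χ : G → ℂ) = n := by
  obtain ⟨n, hn0, hn⟩ := exists_degree_pos χ.2
  exact ⟨n, hn0, hn, by simp [Cfsg.charDegree, hn]⟩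

theorem sdeg_ne_zero {l : h.K →* ℂˣ} {χ : Cfsg.IrrCharacter G} (hχ : χ ∈ h.supp l) :
    h.sdeg χ l ≠ 0 := by
  obtain ⟨n, hn0, -, hn⟩ := exists_degree_cast χ
  exact mul_ne_zero (h.mem_supp.1 hχ).2 (by exact_mod_cast hn.symm ▸ hn0.ne')

theorem sdeg_cast (χ : Cfsg.IrrCharacter G) (l : h.K →* ℂˣ) :
    (h.sdeg χ l : ℂ) = (h.coef χ l : ℂ) * (χ : G → ℂ) 1 := by
  obtain ⟨n, -, hn, hn'⟩ := exists_degree_cast χ
  simp [sdeg, hn, hn']

theorem sum_sdeg {l : h.K →* ℂˣ} (hl : l ≠ 1) : ∑ χ ∈ h.supp l, h.sdeg χ l = -1 := by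
  classical
  apply Int.cast_injective (α := ℂ)
  push_cast
  simp only [h.sdeg_cast]
  have h1 := h.sum_coef_degree l
  rw [← Finset.add_sum_erase _ _ (Finset.mem_univ h.triv), h.coef_triv hl,
    ← Finset.sum_subset (fun χ hχ => Finset.mem_erase.2 ⟨(h.mem_supp.1 hχ).1, Finset.mem_univ _⟩)
      (fun χ hχ hn => by
        have h0 : h.coef χ l = 0 := by
          by_contra h0
          exact hn (h.mem_supp.2 ⟨(Finset.mem_erase.1 hχ).1, h0⟩)
        rw [h0, Int.cast_zero, zero_mul])] at h1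
  simp only [triv, Int.cast_one, mul_one] at h1
  linear_combination h1

/-- The class equation in terms of signed degrees. -/
theorem sum_sq_div_sdeg {l : h.K →* ℂˣ} (hl : l ≠ 1) :
    (h.I : ℂ) * (1 + ∑ χ ∈ h.supp l, (χ : G → ℂ) h.t * (χ : G → ℂ) h.t / (h.sdeg χ l : ℂ)) =
      2 * (h.k : ℂ) ^ 2 := by
  classical
  rw [← h.sum_coef_sq hl, ← Finset.add_sum_erase _ _ (Finset.mem_univ h.triv), h.coef_triv hl]
  congr 1
  congr 1
  · simp [triv]
  · rw [← Finset.sum_subset (fun χ hχ => Finset.mem_erase.2 ⟨(h.mem_supp.1 hχ).1, Finset.mem_univ _⟩)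
      (fun χ hχ hn => by
        have h0 : h.coef χ l = 0 := by
          by_contra h0
          exact hn (h.mem_supp.2 ⟨(Finset.mem_erase.1 hχ).1, h0⟩)
        rw [h0, Int.cast_zero, zero_mul])]
    refine Finset.sum_congr rfl fun χ hχ => ?_
    rw [h.sdeg_cast]
    rcases h.coef_sq hl hχ with e | e <;> rw [e] <;> push_cast <;> ring

theorem hom_t_sq (l : h.K →* ℂˣ) :
    (l ⟨h.t, h.t_mem⟩ : ℂ) = 1 ∨ (l ⟨h.t, h.t_mem⟩ : ℂ) = -1 := by
  refine mul_self_eq_one_iff.1 ?_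
  rw [← Units.val_mul, ← map_mul,
    show (⟨h.t, h.t_mem⟩ : h.K) * ⟨h.t, h.t_mem⟩ = 1 from Subtype.ext h.t_mul_t, map_one, Units.val_one]

theorem apply_t (χ : Cfsg.IrrCharacter G) :
    (χ : G → ℂ) h.t = -∑ l : h.K →* ℂˣ, (h.coef χ l : ℂ) * (l ⟨h.t, h.t_mem⟩ : ℂ) :=
  h.apply_eq_neg_sum χ ⟨h.t, h.t_mem⟩ h.t_ne_one

theorem sum_hom_t : ∑ l : h.K →* ℂˣ, (l ⟨h.t, h.t_mem⟩ : ℂ) = 0 := by
  classical
  rw [h.sum_hom_apply, if_neg fun h0 => h.t_ne_one (congrArg Subtype.val h0)]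

/-- The unique involution of the character group. -/
theorem exists_singular : ∃ l₀ : h.K →* ℂˣ, l₀ ≠ 1 ∧ ¬ h.Regular l₀ ∧
    ∀ l : h.K →* ℂˣ, l ≠ 1 → ¬ h.Regular l → l = l₀ := by
  classical
  letI : CommGroup h.K :=
    { (inferInstance : Group h.K) with mul_comm := fun a b => Subtype.ext (h.comm _ a.2 _ b.2) }
  haveI : Fact (Nat.Prime 2) := ⟨Nat.prime_two⟩
  obtain ⟨l₀, hl₀⟩ := exists_prime_orderOf_dvd_card' 2
    (show 2 ∣ Nat.card (h.K →* ℂˣ) by rw [h.card_hom]; exact h.two_dvd_k)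
  have h0 := orderOf_two_iff.1 hl₀
  refine ⟨l₀, h0.2, not_not.2 h0.1, fun l hl hr => ?_⟩
  -- both are trivial on the squares and `-1` off them
  let sq : h.K →* h.K :=
    { toFun := fun x => x * x, map_one' := one_mul 1,
      map_mul' := fun a b => mul_mul_mul_comm a b a b }
  have hker : Nat.card sq.ker = 2 := by
    rw [Nat.card_eq_two_iff]
    refine ⟨1, ⟨⟨h.t, h.t_mem⟩, Subtype.ext h.t_mul_t⟩,
      fun h1 => h.t_ne_one (congrArg (fun z : sq.ker => ((z : h.K) : G)) h1).symm, ?_⟩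
    refine Set.eq_univ_of_forall fun ⟨x, hx⟩ => ?_
    simp only [Set.mem_insert_iff, Set.mem_singleton_iff]
    by_cases hx1 : x = 1
    · left; exact Subtype.ext hx1
    · right
      refine Subtype.ext (Subtype.ext (h.eq_t_of_mem_K x.2 (orderOf_two_iff.2 ⟨?_, ?_⟩)))
      · exact congrArg Subtype.val (show x * x = 1 from hx)
      · exact fun h1 => hx1 (Subtype.ext h1)
  have hidx : sq.range.index = 2 := by
    have h1 := sq.ker.index_mul_card
    rw [Subgroup.index_ker, hker, ← sq.range.index_mul_card] at h1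
    exact (Nat.eq_of_mul_eq_mul_right Nat.card_pos (by rw [mul_comm] at h1; exact h1)).symm
  have hval : ∀ m : h.K →* ℂˣ, m * m = 1 → ∀ x ∈ sq.range, m x = 1 := by
    rintro m hm _ ⟨y, rfl⟩
    show m (y * y) = 1
    rw [map_mul, ← MonoidHom.mul_apply, hm, MonoidHom.one_apply]
  have hoff : ∀ m : h.K →* ℂˣ, m * m = 1 → m ≠ 1 → ∀ x ∉ sq.range, m x = -1 := by
    intro m hm hm1 x hx
    have h1 : (m x : ℂ) * (m x : ℂ) = 1 := by
      rw [← Units.val_mul, ← MonoidHom.mul_apply, hm, MonoidHom.one_apply, Units.val_one]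
    rcases mul_self_eq_one_iff.1 h1 with h2 | h2
    · refine absurd ?_ hm1
      ext y
      by_cases hy : y ∈ sq.range
      · rw [hval m hm y hy]; rfl
      · have hmem := (Subgroup.mul_mem_iff_of_index_two hidx).2 (iff_of_false hy hx)
        have h3 := hval m hm _ hmem
        rw [map_mul, show m x = 1 from Units.ext h2, mul_one] at h3
        rw [h3]; rfl
    · exact Units.ext h2
  refine MonoidHom.ext fun x => ?_
  by_cases hx : x ∈ sq.range
  · rw [hval l (not_not.1 hr) x hx, hval l₀ h0.1 x hx]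
  · rw [hoff l (not_not.1 hr) hl x hx, hoff l₀ h0.1 h0.2 x hx]

end Hyp

end CfsgLib.BSW
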