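import Cfsg.Agent.BSW.Supports
import Cfsg.Agent.BSW.Numeric
import Cfsg.Agent.Coherence.TI

/-!
# The order formula and the pair counts off the conjugates of `K`
-/

set_option autoImplicit false
set_option linter.style.haveILetI false
set_option linter.unusedSectionVars false

namespace CfsgLib.BSW

open CfsgLib.Characters
open scoped ComplexConjugate

universe u

variable {G : Type u} [Group G] [Fintype G]

namespace Hyp

variable (h : Hyp G) {l₀ : h.K →* ℂˣ}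

/-- A singular-aware form of `exists_common`. -/
theorem common_singular {l : h.K →* ℂˣ} (hl : h.Regular l) (hl₀ : l₀ ≠ 1)
    (hr₀ : ¬ h.Regular l₀) :
    ∃ χ, χ ∈ h.supp l ∧ χ ∈ h.supp l₀ ∧ h.coef χ l = h.coef χ l₀ ∧
      ∀ η, η ∈ h.supp l → η ∈ h.supp l₀ → η = χ :=
  h.exists_common hl hl₀ (fun he => hr₀ (he ▸ hl)) fun he => hr₀ (he ▸ hl.inv)

/-- A character lies in the support of every regular linear character and of the singular one. -/
theorem exists_central (hl₀ : l₀ ≠ 1) (hr₀ : ¬ h.Regular l₀)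
    (huniq : ∀ l : h.K →* ℂˣ, l ≠ 1 → ¬ h.Regular l → l = l₀) {l : h.K →* ℂˣ} (hl : h.Regular l) :
    ∃ ψ, ψ ∈ h.supp l₀ ∧ ∀ m : h.K →* ℂˣ, h.Regular m →
      ψ ∈ h.supp m ∧ h.coef ψ m = h.coef ψ l₀ := by
  classical
  obtain ⟨ψ, hψl, hψ0, hψc, hψu⟩ := h.common_singular hl hl₀ hr₀
  by_cases hall : ∀ m : h.K →* ℂˣ, h.Regular m → ψ ∈ h.supp m
  · refine ⟨ψ, hψ0, fun m hm => ⟨hall m hm, ?_⟩⟩
    obtain ⟨χ, hχm, -, hχc, hχu⟩ := h.common_singular hm hl₀ hr₀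
    rw [hχu ψ (hall m hm) hψ0]
    exact hχc
  exfalso
  push Not at hall
  obtain ⟨m, hm, hψm⟩ := hall
  have hml : l ≠ m ∧ l⁻¹ ≠ m := ⟨fun he => hψm (he ▸ hψl),
    fun he => hψm (he ▸ (h.supp_inv hl).symm ▸ hψl)⟩
  obtain ⟨θ, hθl, hθm, hθc, hθu⟩ := h.exists_common hl hm.ne_one hml.1 hml.2
  have hθψ : θ ≠ ψ := fun he => hψm (he ▸ hθm)
  have hsl : h.supp l = {ψ, θ} := (Finset.eq_of_subset_of_card_le
    (by intro a ha; rcases Finset.mem_insert.1 ha with rfl | ha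
        · exact hψl
        · rw [Finset.mem_singleton.1 ha]; exact hθl)
    (by rw [h.card_supp_regular hl, Finset.card_pair hθψ.symm])).symm
  have hθ0 : θ ∉ h.supp l₀ := fun he => hθψ (hψu θ hθl he)
  have hXl := h.sum_sdeg hl.ne_one
  rw [hsl, Finset.sum_pair hθψ.symm] at hXl
  -- every regular `n` has `θ`, and its other character lies in the singular support
  have hθall : ∀ n : h.K →* ℂˣ, h.Regular n → θ ∈ h.supp n ∧ h.coef θ n = h.coef θ l := by
    intro n hn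
    by_cases hnl : l = n ∨ l⁻¹ = n
    · rcases hnl with rfl | rfl
      · exact ⟨hθl, rfl⟩
      · exact ⟨(h.supp_inv hl).symm ▸ hθl, h.coef_inv hl θ⟩
    by_cases hnm : m = n ∨ m⁻¹ = n
    · rcases hnm with rfl | rfl
      · exact ⟨hθm, hθc.symm⟩
      · exact ⟨(h.supp_inv hm).symm ▸ hθm, (h.coef_inv hm θ).trans hθc.symm⟩
    push Not at hnl hnm
    obtain ⟨χ, hχl, hχn, hχc, hχu⟩ := h.exists_common hl hn.ne_one hnl.1 hnl.2
    rw [hsl, Finset.mem_insert, Finset.mem_singleton] at hχl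
    rcases hχl with rfl | rfl
    · exfalso
      obtain ⟨η, hηm, hηn, hηc, -⟩ := h.exists_common hm hn.ne_one hnm.1 hnm.2
      have hηχ : η ≠ χ := fun he => hψm (he ▸ hηm)
      by_cases hηθ : η = θ
      · exact hθψ (hχu θ hθl (hηθ ▸ hηn))
      -- a triangle of supports
      have hsn : h.supp n = {χ, η} := (Finset.eq_of_subset_of_card_le
        (by intro a ha; rcases Finset.mem_insert.1 ha with rfl | ha
            · exact hχn
            · rw [Finset.mem_singleton.1 ha]; exact hηn)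
        (by rw [h.card_supp_regular hn, Finset.card_pair hηχ.symm])).symm
      have hsm : h.supp m = {θ, η} := (Finset.eq_of_subset_of_card_le
        (by intro a ha; rcases Finset.mem_insert.1 ha with rfl | ha
            · exact hθm
            · rw [Finset.mem_singleton.1 ha]; exact hηm)
        (by rw [h.card_supp_regular hm, Finset.card_pair (Ne.symm hηθ)])).symm
      have hXn := h.sum_sdeg hn.ne_one
      have hXm := h.sum_sdeg hm.ne_one
      rw [hsn, Finset.sum_pair hηχ.symm] at hXn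
      rw [hsm, Finset.sum_pair (Ne.symm hηθ)] at hXm
      simp only [sdeg] at hXl hXn hXm
      rw [← hθc, hηc] at hXm
      rw [← hχc] at hXn
      omega
    · exact ⟨hχn, hχc.symm⟩
  -- the class equation makes the values at `t` of the other characters equal up to sign
  have hsing : ∀ n : h.K →* ℂˣ, n ≠ 1 → h.Regular n ∨ n = l₀ := fun n hn =>
    (em (h.Regular n)).imp_right (huniq n hn)
  have hval : ∀ n : h.K →* ℂˣ, h.Regular n →
      ((2 * (n ⟨h.t, h.t_mem⟩ : ℂ) + (l₀ ⟨h.t, h.t_mem⟩ : ℂ)) ^ 2) *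
        ((1 : ℂ) / ((-1 - (h.sdeg θ l : ℂ)))) =
      2 * (h.k : ℂ) ^ 2 / h.I - 1 -
        (θ : G → ℂ) h.t * (θ : G → ℂ) h.t / (h.sdeg θ l : ℂ) := by
    intro n hn
    obtain ⟨hθn, hθnc⟩ := hθall n hn
    obtain ⟨φ, hφn, hφ0, hφc, hφu⟩ := h.common_singular hn hl₀ hr₀
    have hφθ : φ ≠ θ := fun he => hθ0 (he ▸ hφ0)
    have hsn : h.supp n = {θ, φ} := (Finset.eq_of_subset_of_card_le
      (by intro a ha; rcases Finset.mem_insert.1 ha with rfl | ha
          · exact hθn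
          · rw [Finset.mem_singleton.1 ha]; exact hφn)
      (by rw [h.card_supp_regular hn, Finset.card_pair hφθ.symm])).symm
    have hXn := h.sum_sdeg hn.ne_one
    rw [hsn, Finset.sum_pair hφθ.symm] at hXn
    have hXθ : h.sdeg θ n = h.sdeg θ l := by simp only [sdeg, hθnc]
    have hC := h.sum_sq_div_sdeg hn.ne_one
    rw [hsn, Finset.sum_pair hφθ.symm, hXθ] at hC
    have hzero : ∀ p : h.K →* ℂˣ, p ∉ ({n, n⁻¹, l₀} : Finset (h.K →* ℂˣ)) →
        (h.coef φ p : ℂ) * (p ⟨h.t, h.t_mem⟩ : ℂ) = 0 := by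
      intro p hp
      simp only [Finset.mem_insert, Finset.mem_singleton, not_or] at hp
      by_cases hp1 : p = 1
      · rw [hp1, h.coef_one, Int.cast_zero, zero_mul]
      rcases hsing p hp1 with hpr | hp0
      swap
      · exact absurd hp0 hp.2.2
      suffices h0 : h.coef φ p = 0 by rw [h0, Int.cast_zero, zero_mul]
      by_contra h0
      have hφp : φ ∈ h.supp p := h.mem_supp.2 ⟨(h.mem_supp.1 hφn).1, h0⟩
      obtain ⟨χ, -, -, -, hu⟩ := h.exists_common hn hpr.ne_one (Ne.symm hp.1) (Ne.symm hp.2.1)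
      exact hφθ ((hu φ hφn hφp).trans (hu θ hθn (hθall p hpr).1).symm)
    have hφt : (φ : G → ℂ) h.t = -((h.coef φ l₀ : ℂ) *
        (2 * (n ⟨h.t, h.t_mem⟩ : ℂ) + (l₀ ⟨h.t, h.t_mem⟩ : ℂ))) := by
      rw [h.apply_t, ← Finset.sum_subset (Finset.subset_univ ({n, n⁻¹, l₀} : Finset (h.K →* ℂˣ)))
        fun p _ hp => hzero p hp]
      rw [Finset.sum_insert (by
          simp only [Finset.mem_insert, Finset.mem_singleton, not_or]
          exact ⟨(h.inv_ne_self hn).symm, fun he => hr₀ (he ▸ hn)⟩),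
        Finset.sum_pair (fun he : n⁻¹ = l₀ => hr₀ (he ▸ hn.inv)), h.coef_inv hn, hφc]
      have hinvt : ((n⁻¹ : h.K →* ℂˣ) ⟨h.t, h.t_mem⟩ : ℂ) = (n ⟨h.t, h.t_mem⟩ : ℂ) := by
        rw [MonoidHom.inv_apply, ← map_inv, show (⟨h.t, h.t_mem⟩ : h.K)⁻¹ = ⟨h.t, h.t_mem⟩ from
          Subtype.ext h.t_inv]
      rw [hinvt]
      ring
    have hXφ : (h.sdeg φ n : ℂ) = -1 - (h.sdeg θ l : ℂ) := by
      rw [← hXθ, eq_sub_iff_add_eq, ← Int.cast_add,
        show h.sdeg φ n + h.sdeg θ n = -1 by omega, Int.cast_neg, Int.cast_one]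
    rw [hφt, hXφ] at hC
    have hI : (h.I : ℂ) ≠ 0 := Nat.cast_ne_zero.2 h.I_pos.ne'
    rw [← hC, mul_div_cancel_left₀ _ hI]
    rcases h.coef_sq hl₀ hφ0 with e | e <;> rw [e] <;> push_cast <;> ring
  have hX0 : (-1 - (h.sdeg θ l : ℂ)) ≠ 0 := by
    intro h0
    refine h.sdeg_ne_zero hψl (Int.cast_injective (α := ℂ) ?_)
    have : (h.sdeg ψ l : ℂ) + h.sdeg θ l = -1 := by exact_mod_cast congrArg (Int.cast : ℤ → ℂ) hXl
    push_cast
    linear_combination this + h0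
  have hconst : ∀ n : h.K →* ℂˣ, h.Regular n →
      (n ⟨h.t, h.t_mem⟩ : ℂ) = (l ⟨h.t, h.t_mem⟩ : ℂ) := by
    intro n hn
    have h1 := (hval n hn).trans (hval l hl).symm
    have h2 := mul_right_cancel₀ (one_div_ne_zero hX0) h1
    rcases h.hom_t_sq n with e1 | e1 <;> rcases h.hom_t_sq l with e2 | e2 <;>
      rcases h.hom_t_sq l₀ with e3 | e3 <;> rw [e1, e2] <;> (rw [e1, e2, e3] at h2; norm_num at h2)
  have hsum := h.sum_hom_t
  rw [← Finset.add_sum_erase _ _ (Finset.mem_univ (1 : h.K →* ℂˣ)),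
    ← Finset.add_sum_erase _ _ (Finset.mem_erase.2 ⟨hl₀, Finset.mem_univ l₀⟩),
    Finset.sum_congr rfl (g := fun _ => (l ⟨h.t, h.t_mem⟩ : ℂ)) fun n hn => hconst n ?_,
    Finset.sum_const, MonoidHom.one_apply, Units.val_one, nsmul_eq_mul] at hsum
  swap
  · simp only [Finset.mem_erase, Finset.mem_univ, and_true] at hn
    exact (hsing n hn.2).resolve_right hn.1
  set E := ((Finset.univ : Finset (h.K →* ℂˣ)).erase 1).erase l₀
  have hE : 4 ≤ E.card := by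
    have hsub : ({l, l⁻¹, m, m⁻¹} : Finset (h.K →* ℂˣ)) ⊆ E := fun n hn => by
      simp only [Finset.mem_insert, Finset.mem_singleton] at hn
      have hnr : h.Regular n := by
        rcases hn with rfl | rfl | rfl | rfl
        · exact hl
        · exact hl.inv
        · exact hm
        · exact hm.inv
      exact Finset.mem_erase.2 ⟨fun he => hr₀ (he ▸ hnr),
        Finset.mem_erase.2 ⟨hnr.ne_one, Finset.mem_univ n⟩⟩
    refine le_trans (le_of_eq ?_) (Finset.card_le_card hsub)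
    have h1 : m ≠ m⁻¹ := (h.inv_ne_self hm).symm
    have h2 : l⁻¹ ≠ m⁻¹ := fun he => hml.1 (inv_injective he)
    have h3 : l ≠ m⁻¹ := fun he => hml.2 (by rw [he]; ext x; simp)
    rw [Finset.card_insert_of_notMem, Finset.card_insert_of_notMem, Finset.card_pair h1] <;>
      simp only [Finset.mem_insert, Finset.mem_singleton, not_or]
    · exact ⟨hml.2, h2⟩
    · exact ⟨(h.inv_ne_self hl).symm, hml.1, h3⟩
  rcases h.hom_t_sq l with e1 | e1 <;> rcases h.hom_t_sq l₀ with e2 | e2 <;> rw [e1, e2] at hsum <;>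
    have hre := congrArg Complex.re hsum <;> simp at hre <;>
    have h4 : (4 : ℝ) ≤ E.card := by exact_mod_cast hE
  all_goals first | linarith | (rw [hre] at hE; simp at hE)

/-- The central data of the theorem. -/
theorem exists_data : ∃ (σ : ℤ) (l₀ : h.K →* ℂˣ) (ψ ρ₁ ρ₂ : Cfsg.IrrCharacter G),
    (σ = 1 ∨ σ = -1) ∧ (h.I : ℤ) = (2 * h.k + σ) * (h.k + σ) ∧
    l₀ ≠ 1 ∧ ρ₁ ≠ ρ₂ ∧ ψ ≠ ρ₁ ∧ ψ ≠ ρ₂ ∧ h.supp l₀ = {ψ, ρ₁, ρ₂} ∧
    (∀ l : h.K →* ℂˣ, l ≠ 1 → ψ ∈ h.supp l ∧ h.coef ψ l = h.coef ψ l₀) ∧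
    (∀ l : h.K →* ℂˣ, l ≠ l₀ → h.coef ρ₁ l = 0 ∧ h.coef ρ₂ l = 0) ∧
    (∀ l : h.K →* ℂˣ, l ≠ 1 → ¬ h.Regular l → l = l₀) ∧
    h.sdeg ψ l₀ = 1 + 2 * σ * h.k ∧
    h.sdeg ρ₁ l₀ = -(1 + σ * h.k) ∧ h.sdeg ρ₂ l₀ = -(1 + σ * h.k) := by
  classical
  obtain ⟨l₀, hl₀, hr₀, huniq⟩ := h.exists_singular
  have hI : (h.I : ℂ) ≠ 0 := Nat.cast_ne_zero.2 h.I_pos.ne'
  have hIodd : Odd (h.I : ℤ) := by exact_mod_cast h.I_odd
  have hk0 : (0 : ℤ) < h.k := by exact_mod_cast h.k_pos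
  have hkev : Even (h.k : ℤ) := by exact_mod_cast even_iff_two_dvd.2 h.two_dvd_k
  by_cases hreg : ∃ l : h.K →* ℂˣ, h.Regular l
  · obtain ⟨l, hl⟩ := hreg
    obtain ⟨ψ, hψ0, hψall⟩ := h.exists_central hl₀ hr₀ huniq hl
    have hψ : ∀ m : h.K →* ℂˣ, m ≠ 1 → ψ ∈ h.supp m ∧ h.coef ψ m = h.coef ψ l₀ := fun m hm => by
      by_cases hmr : h.Regular m
      · exact hψall m hmr
      · rw [huniq m hm hmr]; exact ⟨hψ0, rfl⟩
    obtain ⟨ρ₁, ρ₂, hρ, hρs⟩ := Finset.card_eq_two.1 (show ((h.supp l₀).erase ψ).card = 2 by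
      rw [Finset.card_erase_of_mem hψ0, h.card_supp_singular hl₀ hr₀])
    have h1 : ρ₁ ∈ (h.supp l₀).erase ψ := by rw [hρs]; simp
    have h2 : ρ₂ ∈ (h.supp l₀).erase ψ := by rw [hρs]; simp
    have hs0 : h.supp l₀ = {ψ, ρ₁, ρ₂} := by rw [← Finset.insert_erase hψ0, hρs]
    have hρz : ∀ ρ ∈ (h.supp l₀).erase ψ, ∀ m : h.K →* ℂˣ, m ≠ l₀ → h.coef ρ m = 0 := by
      intro ρ hρ' m hm
      obtain ⟨hρψ, hρ0⟩ := Finset.mem_erase.1 hρ'
      by_cases hm1 : m = 1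
      · rw [hm1, h.coef_one]
      have hmr : h.Regular m := not_not.1 fun hmr => hm (huniq m hm1 hmr)
      by_contra hc
      obtain ⟨χ, -, -, -, hu⟩ := h.common_singular hmr hl₀ hr₀
      exact hρψ ((hu ρ (h.mem_supp.2 ⟨(h.mem_supp.1 hρ0).1, hc⟩) hρ0).trans
        (hu ψ (hψ m hm1).1 hψ0).symm)
    -- the other character of `l`
    obtain ⟨θ, hθs⟩ := Finset.card_eq_one.1 (show ((h.supp l).erase ψ).card = 1 by
      rw [Finset.card_erase_of_mem (hψ l hl.ne_one).1, h.card_supp_regular hl])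
    have hθ : θ ∈ (h.supp l).erase ψ := by rw [hθs]; simp
    obtain ⟨hθψ, hθl⟩ := Finset.mem_erase.1 hθ
    have hsl : h.supp l = {ψ, θ} := by rw [← Finset.insert_erase (hψ l hl.ne_one).1, hθs]
    have hθz : ∀ m : h.K →* ℂˣ, m ≠ l → m ≠ l⁻¹ → h.coef θ m = 0 := by
      intro m hm hm'
      by_cases hm1 : m = 1
      · rw [hm1, h.coef_one]
      by_contra hc
      obtain ⟨χ, -, -, -, hu⟩ := h.exists_common hl hm1 (Ne.symm hm) (Ne.symm hm')
      exact hθψ ((hu θ hθl (h.mem_supp.2 ⟨(h.mem_supp.1 hθl).1, hc⟩)).trans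
        (hu ψ (hψ l hl.ne_one).1 (hψ m hm1).1).symm)
    set A := h.sdeg ψ l₀ with hA
    have hψt : (ψ : G → ℂ) h.t = (h.coef ψ l₀ : ℂ) := by
      rw [h.apply_t, ← Finset.add_sum_erase _ _ (Finset.mem_univ (1 : h.K →* ℂˣ)), h.coef_one,
        Int.cast_zero, zero_mul, zero_add, Finset.sum_congr rfl
          (g := fun m : h.K →* ℂˣ => (h.coef ψ l₀ : ℂ) * (m ⟨h.t, h.t_mem⟩ : ℂ)) fun m hm => by
            rw [(hψ m (Finset.mem_erase.1 hm).1).2], ← Finset.mul_sum]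
      have := h.sum_hom_t
      rw [← Finset.add_sum_erase _ _ (Finset.mem_univ (1 : h.K →* ℂˣ)), MonoidHom.one_apply,
        Units.val_one] at this
      linear_combination -(h.coef ψ l₀ : ℂ) * this
    have hψt2 : (ψ : G → ℂ) h.t * (ψ : G → ℂ) h.t = 1 := by
      rcases h.coef_sq hl₀ hψ0 with e | e <;> rw [hψt, e] <;> norm_num
    have hθt : (θ : G → ℂ) h.t * (θ : G → ℂ) h.t = 4 := by
      rw [h.apply_t, ← Finset.sum_subset (Finset.subset_univ ({l, l⁻¹} : Finset (h.K →* ℂˣ)))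
        fun p _ hp => by
          simp only [Finset.mem_insert, Finset.mem_singleton, not_or] at hp
          rw [hθz p hp.1 hp.2, Int.cast_zero, zero_mul],
        Finset.sum_pair (h.inv_ne_self hl).symm, h.coef_inv hl, MonoidHom.inv_apply, ← map_inv,
        show (⟨h.t, h.t_mem⟩ : h.K)⁻¹ = ⟨h.t, h.t_mem⟩ from Subtype.ext h.t_inv]
      rcases h.coef_sq hl.ne_one hθl with e | e <;> rcases h.hom_t_sq l with e' | e' <;>
        rw [e, e'] <;> norm_num
    have hψl : h.sdeg ψ l = A := by simp only [hA, sdeg, (hψ l hl.ne_one).2]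
    have hXl := h.sum_sdeg hl.ne_one
    rw [hsl, Finset.sum_pair hθψ.symm, hψl] at hXl
    have hA0 : A ≠ 0 := h.sdeg_ne_zero hψ0
    have hA1 : A + 1 ≠ 0 := fun h0 => h.sdeg_ne_zero hθl (by omega)
    have hA0' : (A : ℂ) ≠ 0 := Int.cast_ne_zero.2 hA0
    have hA1' : (A : ℂ) + 1 ≠ 0 := by exact_mod_cast hA1
    have hC := h.sum_sq_div_sdeg hl.ne_one
    rw [hsl, Finset.sum_pair hθψ.symm, hψl, hψt2, hθt, show h.sdeg θ l = -1 - A by omega] at hC
    push_cast at hC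
    have hA1'' : (-1 : ℂ) - A ≠ 0 := fun h0 => hA1' (by linear_combination -h0)
    field_simp at hC
    have hq : (h.I : ℤ) * (A - 1) ^ 2 = 2 * (h.k : ℤ) ^ 2 * (A * (A + 1)) := by
      apply Int.cast_injective (α := ℂ)
      push_cast
      linear_combination -hC
    obtain ⟨n, hn0, hn, hnc⟩ := exists_degree_cast ψ
    have hsumc : ∑ m : h.K →* ℂˣ, h.coef ψ m = h.coef ψ l₀ * (h.k - 1) := by
      rw [← Finset.add_sum_erase _ _ (Finset.mem_univ (1 : h.K →* ℂˣ)), h.coef_one, zero_add,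
        Finset.sum_congr rfl fun m hm => (hψ m (Finset.mem_erase.1 hm).1).2, Finset.sum_const,
        Finset.card_erase_of_mem (Finset.mem_univ _), Finset.card_univ,
        ← Nat.card_eq_fintype_card, h.card_hom, nsmul_eq_mul, Nat.cast_sub h.k_pos]
      push_cast
      ring
    have hAmod : ∃ j : ℤ, A = 1 + j * h.k := by
      refine ⟨h.coef ψ l₀ * h.mult ψ 1 - 1, ?_⟩
      rw [hA, sdeg, hnc, h.degree_eq ψ hn, hsumc]
      rcases h.coef_sq hl₀ hψ0 with e | e <;> rw [e] <;> ring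
    obtain ⟨j, hj⟩ := hAmod
    have hj2 : j = 2 ∨ j = -2 := Numeric.j_eq_two hIodd hk0 hkev (by
      rw [hj] at hq; linear_combination hq)
    obtain ⟨σ, hσ, rfl⟩ : ∃ σ : ℤ, (σ = 1 ∨ σ = -1) ∧ j = 2 * σ := by
      rcases hj2 with rfl | rfl
      · exact ⟨1, Or.inl rfl, rfl⟩
      · exact ⟨-1, Or.inr rfl, rfl⟩
    have hI' : (h.I : ℤ) = (2 * h.k + σ) * (h.k + σ) := by
      refine mul_left_cancel₀ (pow_ne_zero 2 (mul_ne_zero (show (2 : ℤ) ≠ 0 by norm_num) hk0.ne')) ?_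
      rw [hj] at hq
      rcases hσ with rfl | rfl <;> linear_combination hq
    -- the two others of the singular support
    have hρt : ∀ ρ ∈ (h.supp l₀).erase ψ, (ρ : G → ℂ) h.t * (ρ : G → ℂ) h.t = 1 := by
      intro ρ hρ'
      rw [h.apply_t, Finset.sum_eq_single l₀ (fun m _ hm => by
        rw [hρz ρ hρ' m hm, Int.cast_zero, zero_mul]) (fun hh => absurd (Finset.mem_univ _) hh)]
      rcases h.coef_sq hl₀ (Finset.mem_erase.1 hρ').2 with e | e <;>
        rcases h.hom_t_sq l₀ with e' | e' <;> rw [e, e'] <;> norm_num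
    have hψρ : ψ ∉ ({ρ₁, ρ₂} : Finset _) := by rw [← hρs]; simp
    have hX0 := h.sum_sdeg hl₀
    have hC0 := h.sum_sq_div_sdeg hl₀
    rw [hs0, Finset.sum_insert hψρ, Finset.sum_pair hρ, ← hA] at hX0 hC0
    rw [hψt2, hρt _ h1, hρt _ h2] at hC0
    set a := h.sdeg ρ₁ l₀
    set b := h.sdeg ρ₂ l₀
    have ha0 : (a : ℂ) ≠ 0 := Int.cast_ne_zero.2 (h.sdeg_ne_zero (Finset.mem_erase.1 h1).2)
    have hb0 : (b : ℂ) ≠ 0 := Int.cast_ne_zero.2 (h.sdeg_ne_zero (Finset.mem_erase.1 h2).2)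
    have hCl := h.sum_sq_div_sdeg hl.ne_one
    rw [hsl, Finset.sum_pair hθψ.symm, hψl, hψt2, hθt, show h.sdeg θ l = -1 - A by omega,
      ← hC0] at hCl
    have h5 := add_left_cancel (add_left_cancel (mul_left_cancel₀ hI hCl))
    have hab : (a : ℂ) + b = -1 - A := by
      rw [← Int.cast_add, show a + b = -1 - A by omega]; push_cast; ring
    push_cast at h5
    rw [← hab] at h5
    have hab0 : (a : ℂ) + b ≠ 0 := hab ▸ hA1''
    field_simp at h5
    have heq : a = b := by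
      have : ((a : ℂ) - b) ^ 2 = 0 := by linear_combination -h5
      exact_mod_cast sub_eq_zero.1 (pow_eq_zero_iff two_ne_zero |>.1 this)
    refine ⟨σ, l₀, ψ, ρ₁, ρ₂, hσ, hI', hl₀, hρ, fun he => hψρ (by simp [he]),
      fun he => hψρ (by simp [he]), hs0, hψ, fun m hm => ⟨hρz _ h1 m hm, hρz _ h2 m hm⟩, huniq,
      hA.symm.trans hj, ?_, ?_⟩ <;> linarith
  · -- `K` has order two
    push Not at hreg
    have hk2 : h.k = 2 := by
      rw [← h.card_hom, Nat.card_eq_two_iff]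
      refine ⟨1, l₀, Ne.symm hl₀, Set.eq_univ_of_forall fun m => ?_⟩
      by_cases hm : m = 1
      · exact Or.inl hm
      · exact Or.inr (huniq m hm (hreg m))
    have hL : ∀ m : h.K →* ℂˣ, m = 1 ∨ m = l₀ := fun m => (em (m = 1)).imp_right (huniq m · (hreg m))
    have huniv : (Finset.univ : Finset (h.K →* ℂˣ)) = {1, l₀} :=
      Finset.eq_univ_iff_forall.2 (fun m => by simpa using hL m) |>.symm
    have hl0t : (l₀ ⟨h.t, h.t_mem⟩ : ℂ) = -1 := by
      have := h.sum_hom_t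
      rw [huniv, Finset.sum_pair (Ne.symm hl₀), MonoidHom.one_apply, Units.val_one] at this
      linear_combination this
    have hval : ∀ χ : Cfsg.IrrCharacter G, (χ : G → ℂ) h.t = (h.coef χ l₀ : ℂ) := fun χ => by
      rw [h.apply_t, huniv, Finset.sum_pair (Ne.symm hl₀), h.coef_one, hl0t, Int.cast_zero]
      ring
    have hmod : ∀ χ ∈ h.supp l₀, h.sdeg χ l₀ % 4 = 1 := by
      intro χ hχ
      obtain ⟨n, -, hn, hnc⟩ := exists_degree_cast χ
      haveI := Fintype.ofFinite h.H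
      obtain ⟨m, hm⟩ := classInner_character_irr (isCharacter_restrict h.H (isCharacter_of_isIrr χ.2))
        (isIrr_one (G := h.H))
      have hinv : ∀ x : h.H, x ≠ 1 → (χ : G → ℂ) x = (h.coef χ l₀ : ℂ) := by
        intro x hx
        have h2x : orderOf (x : G) = 2 := by
          by_cases hxK : (x : G) ∈ h.K
          · have : orderOf (⟨(x : G), hxK⟩ : h.K) ∣ 2 := hk2 ▸ orderOf_dvd_natCard _
            rw [Subgroup.orderOf_mk] at this
            rcases (Nat.dvd_prime Nat.prime_two).1 this with h0 | h0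
            · exact absurd (Subtype.ext (orderOf_eq_one_iff.1 h0)) hx
            · exact h0
          · exact h.sq_of_mem_H x.2 hxK
        rw [← hval]
        exact classFunction_isConj (isClassFunction_of_isIrr χ.2) (h.conj _ _ h2x h.ht)
      have hsum : ∑ x : h.H, (χ : G → ℂ) x = (n : ℂ) + 3 * (h.coef χ l₀ : ℂ) := by
        rw [← Finset.add_sum_erase _ _ (Finset.mem_univ (1 : h.H)),
          Finset.sum_congr rfl fun x hx => hinv x (Finset.mem_erase.1 hx).1, Finset.sum_const,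
          Finset.card_erase_of_mem (Finset.mem_univ _), Finset.card_univ,
          ← Nat.card_eq_fintype_card, h.card_H, hk2, nsmul_eq_mul, Subgroup.coe_one, hn]
        norm_num
      rw [Cfsg.classInner, h.card_H, hk2] at hm
      simp only [map_one, mul_one, hsum] at hm
      push_cast at hm
      have h4 : (n : ℤ) + 3 * h.coef χ l₀ = 4 * m := by
        apply Int.cast_injective (α := ℂ)
        push_cast
        linear_combination 4 * hm
      rw [sdeg, hnc]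
      rcases h.coef_sq hl₀ hχ with e | e <;> rw [e] at h4 ⊢ <;> omega
    obtain ⟨a, b, c, hab, hac, hbc, hs0⟩ := Finset.card_eq_three.1 (h.card_supp_singular hl₀ hr₀)
    have hX0 := h.sum_sdeg hl₀
    have hC0 := h.sum_sq_div_sdeg hl₀
    rw [hs0, Finset.sum_insert (by simp [hab, hac]), Finset.sum_pair hbc] at hX0 hC0
    have hsq : ∀ χ ∈ h.supp l₀, (χ : G → ℂ) h.t * (χ : G → ℂ) h.t = 1 := fun χ hχ => by
      rcases h.coef_sq hl₀ hχ with e | e <;> rw [hval, e] <;> norm_num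
    have ha : a ∈ h.supp l₀ := by rw [hs0]; simp
    have hb : b ∈ h.supp l₀ := by rw [hs0]; simp
    have hc : c ∈ h.supp l₀ := by rw [hs0]; simp
    rw [hsq a ha, hsq b hb, hsq c hc, hk2] at hC0
    have ha0 : (h.sdeg a l₀ : ℂ) ≠ 0 := Int.cast_ne_zero.2 (h.sdeg_ne_zero ha)
    have hb0 : (h.sdeg b l₀ : ℂ) ≠ 0 := Int.cast_ne_zero.2 (h.sdeg_ne_zero hb)
    have hc0 : (h.sdeg c l₀ : ℂ) ≠ 0 := Int.cast_ne_zero.2 (h.sdeg_ne_zero hc)
    field_simp at hC0
    have hres := Numeric.four_case hIodd (by exact_mod_cast h.I_pos) (hmod a ha) (hmod b hb)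
      (hmod c hc) (by omega) (by
        apply Int.cast_injective (α := ℂ)
        push_cast
        linear_combination hC0)
    have fin : ∀ (ψ ρ₁ ρ₂ : Cfsg.IrrCharacter G) (σ : ℤ), ρ₁ ≠ ρ₂ → ψ ≠ ρ₁ → ψ ≠ ρ₂ →
        h.supp l₀ = {ψ, ρ₁, ρ₂} → (σ = 1 ∨ σ = -1) → (h.I : ℤ) = (4 + σ) * (2 + σ) →
        h.sdeg ψ l₀ = 1 + 4 * σ → h.sdeg ρ₁ l₀ = -(1 + σ * 2) → h.sdeg ρ₂ l₀ = -(1 + σ * 2) →
        ∃ (σ : ℤ) (l₀ : h.K →* ℂˣ) (ψ ρ₁ ρ₂ : Cfsg.IrrCharacter G),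
          (σ = 1 ∨ σ = -1) ∧ (h.I : ℤ) = (2 * h.k + σ) * (h.k + σ) ∧
          l₀ ≠ 1 ∧ ρ₁ ≠ ρ₂ ∧ ψ ≠ ρ₁ ∧ ψ ≠ ρ₂ ∧ h.supp l₀ = {ψ, ρ₁, ρ₂} ∧
          (∀ l : h.K →* ℂˣ, l ≠ 1 → ψ ∈ h.supp l ∧ h.coef ψ l = h.coef ψ l₀) ∧
          (∀ l : h.K →* ℂˣ, l ≠ l₀ → h.coef ρ₁ l = 0 ∧ h.coef ρ₂ l = 0) ∧
          (∀ l : h.K →* ℂˣ, l ≠ 1 → ¬ h.Regular l → l = l₀) ∧
          h.sdeg ψ l₀ = 1 + 2 * σ * h.k ∧
          h.sdeg ρ₁ l₀ = -(1 + σ * h.k) ∧ h.sdeg ρ₂ l₀ = -(1 + σ * h.k) := by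
      intro ψ ρ₁ ρ₂ σ h12 hp1 hp2 hs hσ hI' e1 e2 e3
      refine ⟨σ, l₀, ψ, ρ₁, ρ₂, hσ, ?_, hl₀, h12, hp1, hp2, hs, fun m hm => ?_, fun m hm => ?_,
        huniq, ?_, ?_, ?_⟩
      · rw [hI', hk2]; norm_num
      · rw [(hL m).resolve_left hm]; exact ⟨by rw [hs]; simp, rfl⟩
      · rw [(hL m).resolve_right hm]; exact ⟨h.coef_one _, h.coef_one _⟩
      · rw [e1, hk2]; push_cast; ring
      · rw [e2, hk2]; norm_num
      · rw [e3, hk2]; norm_num
    have hsb : h.supp l₀ = {b, a, c} := by rw [hs0, Finset.insert_comm]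
    have hsc : h.supp l₀ = {c, a, b} := by
      rw [hs0]; ext x; simp only [Finset.mem_insert, Finset.mem_singleton]; tauto
    rcases hres with ⟨hI3, ⟨e1, e2, e3⟩ | ⟨e1, e2, e3⟩ | ⟨e1, e2, e3⟩⟩ |
      ⟨hI3, ⟨e1, e2, e3⟩ | ⟨e1, e2, e3⟩ | ⟨e1, e2, e3⟩⟩
    · exact fin a b c (-1) hbc hab hac hs0 (Or.inr rfl) (by rw [hI3]; norm_num) (by omega) (by omega) (by omega)
    · exact fin b a c (-1) hac hab.symm hbc hsb (Or.inr rfl) (by rw [hI3]; norm_num) (by omega) (by omega) (by omega)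
    · exact fin c a b (-1) hab hac.symm hbc.symm hsc (Or.inr rfl) (by rw [hI3]; norm_num) (by omega) (by omega) (by omega)
    · exact fin a b c 1 hbc hab hac hs0 (Or.inl rfl) (by rw [hI3]; norm_num) (by omega) (by omega) (by omega)
    · exact fin b a c 1 hac hab.symm hbc hsb (Or.inl rfl) (by rw [hI3]; norm_num) (by omega) (by omega) (by omega)
    · exact fin c a b 1 hab hac.symm hbc.symm hsc (Or.inl rfl) (by rw [hI3]; norm_num) (by omega) (by omega) (by omega)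

theorem exists_pairCount : ∃ σ : ℤ, (σ = 1 ∨ σ = -1) ∧ (h.I : ℤ) = (2 * h.k + σ) * (h.k + σ) ∧
    ∀ x : G, x ≠ 1 → ¬ h.InK x → ∃ j : ℤ,
      (σ = 1 → (pairCount x : ℤ) = 2 * h.k + 1 + h.k * j) ∧
      (σ = -1 → (pairCount x : ℤ) = (h.k - 1) * j) := by
  classical
  obtain ⟨σ, l₀, ψ, ρ₁, ρ₂, hσ, hI, hl₀, h12, hp1, hp2, hs0, hψ, hρ, huniq, hA, ha, hb⟩ :=
    h.exists_data
  refine ⟨σ, hσ, hI, fun x hx1 hx => ?_⟩
  have hmem : ∀ χ ∈ ({ψ, ρ₁, ρ₂} : Finset (Cfsg.IrrCharacter G)), χ ∈ h.supp l₀ := fun χ h' => hs0 ▸ h'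
  have hψ0 := hmem ψ (by simp)
  have hρ1 := hmem ρ₁ (by simp)
  have hρ2 := hmem ρ₂ (by simp)
  have hnt : ∀ χ ∈ h.supp l₀, χ ≠ h.triv := fun χ hχ => (h.mem_supp.1 hχ).1
  have hzero : ∀ l : h.K →* ℂˣ, l ≠ 1 → (1 : ℂ) + ∑ χ ∈ h.supp l,
      (h.coef χ l : ℂ) * conj ((χ : G → ℂ) x) = 0 := by
    intro l hl
    have h1 := congrArg (starRingEnd ℂ) (h.sum_coef_apply_eq_zero l hx1 hx)
    rw [map_sum, map_zero, ← Finset.add_sum_erase _ _ (Finset.mem_univ h.triv), h.coef_triv hl,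
      ← Finset.sum_subset (fun χ hχ => Finset.mem_erase.2 ⟨(h.mem_supp.1 hχ).1, Finset.mem_univ _⟩)
        (fun χ hχ hn => by
          have h0 : h.coef χ l = 0 := by
            by_contra h0
            exact hn (h.mem_supp.2 ⟨(Finset.mem_erase.1 hχ).1, h0⟩)
          rw [h0, Int.cast_zero, zero_mul, map_zero])] at h1
    simpa [triv, map_mul] using h1
  set u : ℂ := (h.coef ψ l₀ : ℂ) * conj ((ψ : G → ℂ) x) with hu
  have hA' : (h.sdeg ψ l₀ : ℂ) = 1 + 2 * (σ : ℂ) * h.k := by rw [hA]; push_cast; ring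
  have hk0 : (h.k : ℂ) ≠ 0 := Nat.cast_ne_zero.2 h.k_pos.ne'
  have hA1 : (1 : ℂ) + (h.sdeg ψ l₀ : ℂ) ≠ 0 := by
    rw [hA']
    intro h0
    refine h.sdeg_ne_zero hρ1 (Int.cast_injective (α := ℂ) ?_)
    rw [ha]; push_cast
    linear_combination (-1 / 2 : ℂ) * h0
  -- real values at `t`
  have hreal : ∀ χ : Cfsg.IrrCharacter G, conj ((χ : G → ℂ) h.t) = (χ : G → ℂ) h.t := fun χ => by
    rw [← character_inv (isCharacter_of_isIrr χ.2), h.t_inv]
  have hψt : (ψ : G → ℂ) h.t = (h.coef ψ l₀ : ℂ) := by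
    rw [h.apply_t, ← Finset.add_sum_erase _ _ (Finset.mem_univ (1 : h.K →* ℂˣ)), h.coef_one,
      Int.cast_zero, zero_mul, zero_add, Finset.sum_congr rfl
        (g := fun m : h.K →* ℂˣ => (h.coef ψ l₀ : ℂ) * (m ⟨h.t, h.t_mem⟩ : ℂ)) fun m hm => by
          rw [(hψ m (Finset.mem_erase.1 hm).1).2], ← Finset.mul_sum]
    have := h.sum_hom_t
    rw [← Finset.add_sum_erase _ _ (Finset.mem_univ (1 : h.K →* ℂˣ)), MonoidHom.one_apply,
      Units.val_one] at this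
    linear_combination -(h.coef ψ l₀ : ℂ) * this
  have hρt : ∀ ρ : Cfsg.IrrCharacter G, ρ ∈ h.supp l₀ → (∀ m, m ≠ l₀ → h.coef ρ m = 0) →
      (ρ : G → ℂ) h.t * (ρ : G → ℂ) h.t = 1 := by
    intro ρ hρ' hz
    rw [h.apply_t, Finset.sum_eq_single l₀ (fun m _ hm => by rw [hz m hm, Int.cast_zero, zero_mul])
      (fun hh => absurd (Finset.mem_univ _) hh)]
    rcases h.coef_sq hl₀ hρ' with e | e <;> rcases h.hom_t_sq l₀ with e' | e' <;>
      rw [e, e'] <;> norm_num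
  have hψt2 : (ψ : G → ℂ) h.t * (ψ : G → ℂ) h.t = 1 := by
    rcases h.coef_sq hl₀ hψ0 with e | e <;> rw [hψt, e] <;> norm_num
  have hρ1t := hρt ρ₁ hρ1 fun m hm => (hρ m hm).1
  have hρ2t := hρt ρ₂ hρ2 fun m hm => (hρ m hm).2
  -- the four special characters and the rest
  set S : Finset (Cfsg.IrrCharacter G) := {h.triv, ψ, ρ₁, ρ₂} with hS
  have hd1 : h.triv ∉ ({ψ, ρ₁, ρ₂} : Finset (Cfsg.IrrCharacter G)) := fun h' =>
    hnt _ (hmem _ h') rfl
  have hd2 : ψ ∉ ({ρ₁, ρ₂} : Finset (Cfsg.IrrCharacter G)) := by simp [hp1, hp2]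
  set r : ℂ := (1 + u) / (1 + (h.sdeg ψ l₀ : ℂ)) with hr
  have hrest : ∀ χ ∈ Finset.univ \ S,
      (χ : G → ℂ) h.t * (χ : G → ℂ) h.t / (χ : G → ℂ) 1 * conj ((χ : G → ℂ) x) =
        (χ : G → ℂ) h.t * (χ : G → ℂ) h.t * r := by
    intro χ hχ
    by_cases ht0 : (χ : G → ℂ) h.t = 0
    · simp [ht0]
    simp only [S, Finset.mem_sdiff, Finset.mem_univ, true_and, Finset.mem_insert,
      Finset.mem_singleton, not_or] at hχ
    obtain ⟨l, hl⟩ : ∃ l, h.coef χ l ≠ 0 := by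
      by_contra hall
      push Not at hall
      exact ht0 (by rw [h.apply_t, Finset.sum_eq_zero fun m _ => by
        rw [hall m, Int.cast_zero, zero_mul], neg_zero])
    have hl1 : l ≠ 1 := fun h0 => hl (h0 ▸ h.coef_one χ)
    have hχl : χ ∈ h.supp l := h.mem_supp.2 ⟨hχ.1, hl⟩
    have hlr : h.Regular l := by
      by_contra hlr
      rw [huniq l hl1 hlr, hs0, Finset.mem_insert, Finset.mem_insert, Finset.mem_singleton] at hχl
      tauto
    have hsl : h.supp l = {ψ, χ} := (Finset.eq_of_subset_of_card_le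
      (by intro a ha; rcases Finset.mem_insert.1 ha with rfl | ha
          · exact (hψ l hl1).1
          · rw [Finset.mem_singleton.1 ha]; exact hχl)
      (by rw [h.card_supp_regular hlr, Finset.card_pair (Ne.symm hχ.2.1)])).symm
    have h1 := hzero l hl1
    rw [hsl, Finset.sum_pair (Ne.symm hχ.2.1), (hψ l hl1).2, ← hu] at h1
    have h2 := h.sum_sdeg hl1
    rw [hsl, Finset.sum_pair (Ne.symm hχ.2.1),
      show h.sdeg ψ l = h.sdeg ψ l₀ by simp only [sdeg, (hψ l hl1).2]] at h2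
    have h2' : (h.sdeg ψ l₀ : ℂ) + (h.coef χ l : ℂ) * (χ : G → ℂ) 1 = -1 := by
      rw [← h.sdeg_cast]; exact_mod_cast congrArg (Int.cast : ℤ → ℂ) h2
    have hd : (χ : G → ℂ) 1 ≠ 0 := irr_one_ne_zero χ.2
    have hc : (h.coef χ l : ℂ) ≠ 0 := Int.cast_ne_zero.2 hl
    have key : conj ((χ : G → ℂ) x) / (χ : G → ℂ) 1 = r := by
      rw [hr, div_eq_div_iff hd hA1]
      refine mul_left_cancel₀ hc ?_
      linear_combination (1 + (h.sdeg ψ l₀ : ℂ)) * h1 - (1 + u) * h2'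
    rw [← key]
    ring
  have hcol := sum_irr_mul_conj_of_isConj (IsConj.refl h.t)
  rw [← Finset.sum_sdiff (Finset.subset_univ S), h.card_H] at hcol
  simp only [hreal] at hcol
  have hpc := h.pairCount_eq_sum x
  rw [← Finset.sum_sdiff (Finset.subset_univ S), Finset.sum_congr rfl hrest, ← Finset.sum_mul] at hpc
  simp only [hS, Finset.sum_insert hd1, Finset.sum_insert hd2, Finset.sum_pair h12, hψt2, hρ1t,
    hρ2t] at hcol hpc
  simp only [triv, mul_one, map_one, div_one] at hcol hpc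
  -- the two other terms of the singular support
  have h0 := hzero l₀ hl₀
  rw [hs0, Finset.sum_insert hd2, Finset.sum_pair h12, ← hu] at h0
  have hinv : ∀ ρ : Cfsg.IrrCharacter G, ρ ∈ h.supp l₀ → (1 : ℂ) / (ρ : G → ℂ) 1 =
      (h.coef ρ l₀ : ℂ) / (h.sdeg ρ l₀ : ℂ) := by
    intro ρ hρ'
    rw [h.sdeg_cast]
    rcases h.coef_sq hl₀ hρ' with e | e <;> rw [e] <;> push_cast <;> ring
  have hb' : (h.sdeg ρ₂ l₀ : ℂ) = (h.sdeg ρ₁ l₀ : ℂ) := by rw [ha, hb]
  rw [hinv ρ₁ hρ1, hinv ρ₂ hρ2, hinv ψ hψ0, hb',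
    div_mul_eq_mul_div, div_mul_eq_mul_div (h.coef ρ₁ l₀ : ℂ), div_mul_eq_mul_div (h.coef ρ₂ l₀ : ℂ),
    ← hu, ← add_div, show (h.coef ρ₁ l₀ : ℂ) * conj ((ρ₁ : G → ℂ) x) +
      (h.coef ρ₂ l₀ : ℂ) * conj ((ρ₂ : G → ℂ) x) = -1 - u by linear_combination h0] at hpc
  have hcard : (Nat.card G : ℂ) = (h.I : ℂ) * (2 * h.k) := by rw [h.card_G]; push_cast; ring
  have hIC : (h.I : ℂ) = (2 * (h.k : ℂ) + σ) * ((h.k : ℂ) + σ) := by
    exact_mod_cast congrArg (Int.cast : ℤ → ℂ) hI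
  have hI0 : (h.I : ℂ) ≠ 0 := Nat.cast_ne_zero.2 h.I_pos.ne'
  have ha' : (h.sdeg ρ₁ l₀ : ℂ) = -(1 + (σ : ℂ) * h.k) := by rw [ha]; push_cast; ring
  have hrest2 : ∀ T : ℂ, T + (1 + (1 + (1 + 1))) = ((2 * h.k : ℕ) : ℂ) → T = 2 * h.k - 4 := by
    intro T hT; push_cast at hT; linear_combination hT
  rw [hrest2 _ hcol, hcard, hA', ha', mul_assoc (h.I : ℂ) (h.I : ℂ), mul_assoc (h.I : ℂ)] at hpc
  have hpc' := mul_left_cancel₀ hI0 hpc
  rw [hIC, hr, hA'] at hpc'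
  have hne1 : (1 : ℂ) + 2 * (σ : ℂ) * h.k ≠ 0 := hA' ▸ Int.cast_ne_zero.2 (h.sdeg_ne_zero hψ0)
  have hne2 : (1 : ℂ) + (σ : ℂ) * h.k ≠ 0 := by
    have := Int.cast_ne_zero (α := ℂ) |>.2 (h.sdeg_ne_zero hρ1)
    rw [ha'] at this
    exact neg_ne_zero.1 this
  have huint : IsIntegral ℤ u := by
    rw [hu, ← character_inv (isCharacter_of_isIrr ψ.2)]
    exact isIntegral_algebraMap.mul (character_isIntegral (isCharacter_of_isIrr ψ.2) _)
  rcases hσ with rfl | rfl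
  · push_cast at hpc' hne1 hne2
    have hne1' : (1 : ℂ) + 2 * h.k ≠ 0 := by simpa using hne1
    have hne2' : (1 : ℂ) + h.k ≠ 0 := by simpa using hne2
    have hne3 : (1 : ℂ) + (1 + 2 * h.k) ≠ 0 := fun e => hne2' (by linear_combination e / 2)
    field_simp at hpc'
    have key : (h.k : ℂ) * u = (pairCount x : ℂ) - (2 * h.k + 1) := by
      refine mul_left_cancel₀ (mul_ne_zero (mul_ne_zero (mul_ne_zero hne1' hne2') hne2') hk0) ?_
      linear_combination (-1 / 4 : ℂ) * hpc'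
    obtain ⟨v, hv⟩ := CfsgLib.Coherence.exists_int_of_integral_mul huint
      (a := (pairCount x : ℤ) - (2 * h.k + 1)) h.k_pos.ne' (by push_cast; exact key)
    refine ⟨v, fun _ => ?_, fun h' => absurd h' (by norm_num)⟩
    rw [hv] at key
    apply Int.cast_injective (α := ℂ)
    push_cast
    linear_combination -key
  · push_cast at hpc' hne1 hne2
    have hne1' : (1 : ℂ) - 2 * h.k ≠ 0 := fun e => hne1 (by linear_combination e)
    have hne2' : (1 : ℂ) - h.k ≠ 0 := fun e => hne2 (by linear_combination e)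
    have hne3 : (1 : ℂ) + (1 - 2 * h.k) ≠ 0 := fun e => hne2' (by linear_combination e / 2)
    simp only [mul_neg, mul_one, neg_mul, one_mul, ← sub_eq_add_neg] at hpc'
    field_simp at hpc'
    have key : ((h.k : ℂ) - 1) * u = -(pairCount x : ℂ) := by
      refine mul_left_cancel₀ (mul_ne_zero (mul_ne_zero (mul_ne_zero hne1' hne2') hne2') hk0) ?_
      linear_combination (1 / 4 : ℂ) * hpc'
    have hk1 : ((h.k - 1 : ℕ) : ℂ) = (h.k : ℂ) - 1 := by
      rw [Nat.cast_sub h.k_pos]; simp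
    obtain ⟨v, hv⟩ := CfsgLib.Coherence.exists_int_of_integral_mul huint
      (a := -(pairCount x : ℤ)) (b := h.k - 1) (by have := h.two_le_k; omega)
      (by rw [hk1]; push_cast; exact key)
    refine ⟨-v, fun h' => absurd h' (by norm_num), fun _ => ?_⟩
    rw [hv] at key
    apply Int.cast_injective (α := ℂ)
    push_cast
    linear_combination key

end Hyp

end CfsgLib.BSW
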