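import Cfsg.Agent.BSW.Minus
import Cfsg.Agent.BSW.Table

/-!
# The abstract Brauer–Suzuki–Wall theorem
-/

set_option autoImplicit false
set_option linter.style.haveILetI false
set_option linter.unusedSectionVars false

namespace CfsgLib.BSW

universe u

variable {G : Type u} [Group G]

/-- The abstract Brauer–Suzuki–Wall theorem. -/
theorem Hyp.conclusion [Fintype G] (h : Hyp G) : Conclusion G := by
  classical
  have hk2 := h.two_le_k
  obtain ⟨σ, hσ, hI, hpc⟩ := h.exists_pairCount
  rcases hσ with rfl | rfl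
  · refine h.conclusion_plus (by exact_mod_cast hI) fun x hx => ?_
    obtain ⟨j, hj, -⟩ := hpc x hx.1 hx.2
    have hj' := hj rfl
    have hne : pairCount x ≠ 0 := fun h0 => by
      rw [h0] at hj'
      have h1 : (h.k : ℤ) ∣ 1 := ⟨-(2 + j), by push_cast at hj'; linarith⟩
      have := Int.le_of_dvd one_pos h1
      omega
    refine ⟨⟨hx, hne⟩, (2 + j).toNat, ?_⟩
    rw [← h.pairCount_eq_card ⟨hx, hne⟩]
    have h2 : 0 ≤ 2 + j := by
      by_contra hneg
      have h3 : (h.k : ℤ) * (2 + j) ≤ (h.k : ℤ) * (-1) :=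
        mul_le_mul_of_nonneg_left (by omega) (by positivity)
      have h4 : (h.k : ℤ) * (2 + j) = 2 * h.k + h.k * j := by ring
      omega
    zify
    rw [Int.toNat_of_nonneg h2, hj']
    ring
  · have hI' : h.I = (2 * h.k - 1) * (h.k - 1) := by
      zify [show 1 ≤ h.k by omega, show 1 ≤ 2 * h.k by omega]
      linear_combination hI
    refine (h.minusData hI' fun x hx => ?_).conclusion
    obtain ⟨j, -, hj⟩ := hpc x hx.1.1 hx.1.2
    rw [← h.pairCount_eq_card hx]
    exact Int.natCast_dvd_natCast.1 ⟨j, by rw [hj rfl, Nat.cast_sub (show 1 ≤ h.k by omega)]; norm_num⟩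

/-- The hypothesis from the usual formulation. -/
theorem conclusion_of_centralizer [Finite G] (t : G) (ht : orderOf t = 2)
    (K : Subgroup G) (hKab : IsMulCommutative ↥K)
    (hKH : K ≤ Subgroup.centralizer ({t} : Set G)) (htK : t ∈ K)
    (s : G) (hs : orderOf s = 2) (hsH : s ∈ Subgroup.centralizer ({t} : Set G)) (hsK : s ∉ K)
    (hH : K ⊔ Subgroup.zpowers s = Subgroup.centralizer ({t} : Set G))
    (hCK : K ⊓ Subgroup.centralizer ({s} : Set G) = Subgroup.zpowers t)
    (hinv : ∀ x ∈ K, s * x * s⁻¹ = x⁻¹)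
    (hTI : ∀ g : G, g ∉ Subgroup.centralizer ({t} : Set G) →
      K ⊓ K.map (MulAut.conj g).toMonoidHom = ⊥)
    (hconj : ∀ x y : G, orderOf x = 2 → orderOf y = 2 → IsConj x y) : Conclusion G := by
  haveI := Fintype.ofFinite G
  refine Hyp.conclusion (h :=
    { t := t, s := s, K := K, ht := ht, hs := hs
      comm := fun x hx y hy =>
        congrArg Subtype.val (isMulCommutative_iff.1 hKab ⟨x, hx⟩ ⟨y, hy⟩)
      le_cent := hKH, t_mem := htK, s_cent := hsH, s_notMem := hsK, sup_eq := hH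
      fixed := fun x hx hc => ?_
      inverts := hinv
      ti := fun g hg x hx hgx => ?_
      conj := hconj })
  · have h1 : x ∈ Subgroup.zpowers t :=
      hCK ▸ ⟨hx, Subgroup.mem_centralizer_singleton_iff.2 hc.symm⟩
    obtain ⟨n, rfl⟩ := Subgroup.mem_zpowers_iff.1 h1
    rw [← zpow_mod_orderOf, ht]
    rcases Int.emod_two_eq_zero_or_one n with hn | hn <;> simp [hn]
  · have h1 : g * x * g⁻¹ ∈ (⊥ : Subgroup G) := hTI g hg ▸ ⟨hgx, x, hx, rfl⟩
    exact conj_eq_one_iff.1 (Subgroup.mem_bot.1 h1)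

end CfsgLib.BSW
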